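import Cfsg.Agent.Lib.CoOneEleven.Root

/-!
Finite facts on the standard maximal totally singular space and its exterior square.
-/

set_option autoImplicit false
set_option linter.style.haveILetI false
set_option synthInstance.maxSize 20000
set_option maxRecDepth 20000
set_option maxHeartbeats 1000000

namespace CfsgLib.CoOneEleven

open CfsgLib.Classical.Quad CfsgLib.CoOneType

instance : DecidablePred InW := fun x => by unfold InW; infer_instance
instance : DecidablePred InW' := fun x => by unfold InW'; infer_instance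

/-- The basis of the totally singular space. -/
def wv : Fin 4 → V8 := ![u0, emb e1, emb e2, emb e3]

/-- The dual basis. -/
def dv : Fin 4 → V8 := ![v0, emb f1, emb f2, emb f3]

/-- The first index of a pair. -/
def pI : Fin 6 → Fin 4 := ![0, 0, 0, 1, 1, 2]

/-- The second index of a pair. -/
def pJ : Fin 6 → Fin 4 := ![1, 2, 3, 2, 3, 3]

/-- The vector with the given binary digits in the totally singular space. -/
def wOf (a : ℕ) : V8 :=
  ((if a.testBit 0 then 1 else 0 : ZMod 2) • wv 0) + ((if a.testBit 1 then 1 else 0 : ZMod 2) • wv 1) +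
    ((if a.testBit 2 then 1 else 0 : ZMod 2) • wv 2) + ((if a.testBit 3 then 1 else 0 : ZMod 2) • wv 3)

/-- The vector with the given binary digits in the dual space. -/
def dOf (a : ℕ) : V8 :=
  ((if a.testBit 0 then 1 else 0 : ZMod 2) • dv 0) + ((if a.testBit 1 then 1 else 0 : ZMod 2) • dv 1) +
    ((if a.testBit 2 then 1 else 0 : ZMod 2) • dv 2) + ((if a.testBit 3 then 1 else 0 : ZMod 2) • dv 3)

theorem wv_facts : (∀ i, InW (wv i) ∧ qV (wv i) = 0 ∧ qV (dv i) = 0 ∧ wv i ≠ 0) ∧
    (∀ i j, BV (wv i) (wv j) = 0 ∧ BV (dv i) (dv j) = 0 ∧ BV (dv i) (wv j) = if i = j then 1 else 0) ∧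
    (∀ i, wv (pI i) ≠ wv (pJ i)) := by
  decide +kernel

theorem InW.qV_eq {x : V8} (h : InW x) : qV x = 0 := by
  obtain ⟨h1, h2, h3, h4⟩ := h
  simp [qV, qW, h1, h2, h3, h4]

theorem InW.perp {x y : V8} (hx : InW x) (hy : InW y) : BV x y = 0 := by
  obtain ⟨h1, h2, h3, h4⟩ := hx
  obtain ⟨k1, k2, k3, k4⟩ := hy
  simp [BV, BW, h1, h2, h3, h4, k1, k2, k3, k4]

theorem InW.add {x y : V8} (hx : InW x) (hy : InW y) : InW (x + y) := by
  obtain ⟨h1, h2, h3, h4⟩ := hx
  obtain ⟨k1, k2, k3, k4⟩ := hy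
  simp [InW, h1, h2, h3, h4, k1, k2, k3, k4]

theorem InW.smul {x : V8} (hx : InW x) (c : ZMod 2) : InW (c • x) := by
  obtain ⟨h1, h2, h3, h4⟩ := hx
  simp [InW, h1, h2, h3, h4]

theorem inW_zero : InW 0 := by simp [InW]

theorem inW_of_perp {x : V8} (h : ∀ i, BV x (wv i) = 0) : InW x :=
  (by decide +kernel : ∀ x : V8, (∀ i, BV x (wv i) = 0) → InW x) x h

theorem inW_wOf : ∀ x : V8, InW x → ∃ a : Fin 16, wOf a = x := by decide +kernel

theorem wOf_inj : ∀ a b : Fin 16, wOf a = wOf b → a = b := by decide +kernel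

theorem dv_coords : ∀ x : V8, InW x → (∀ i, BV x (dv i) = 0) → x = 0 := by decide +kernel

end CfsgLib.CoOneEleven
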