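import Cfsg.Agent.Lib.CoOneEleven.Checks
import Cfsg.Agent.Lib.CoOneEleven.Space

/-!
Elementary facts on the numerical model and its links with the quadratic space.
-/

set_option autoImplicit false
set_option linter.style.haveILetI false
set_option synthInstance.maxSize 20000
set_option maxRecDepth 20000
set_option maxHeartbeats 1000000

namespace CfsgLib.CoOneEleven.Data

open CfsgLib.LargeFischer.Plane CfsgLib.Golay

/-- Two additive functions agreeing on the basis numbers agree. -/
theorem ext_bits {α : Type*} {f g : ℕ → α} (op : α → α → α)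
    (hf : ∀ a b, f (a ^^^ b) = op (f a) (f b)) (hg : ∀ a b, g (a ^^^ b) = op (g a) (g b)) (h0 : f 0 = g 0) :
    ∀ k, (∀ j < k, f (2 ^ j) = g (2 ^ j)) → ∀ x < 2 ^ k, f x = g x
  | 0, _, x, hx => by
    obtain rfl : x = 0 := by simpa using hx
    exact h0
  | k + 1, h, x, hx => by
    have ih := ext_bits op hf hg h0 k fun j hj => h j (Nat.lt_succ_of_lt hj)
    rcases Nat.lt_or_ge x (2 ^ k) with hx' | hx'
    · exact ih x hx'
    · have hlt : x - 2 ^ k < 2 ^ k := by rw [pow_succ] at hx; omega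
      have e : x = 2 ^ k ^^^ (x - 2 ^ k) := by
        refine Nat.eq_of_testBit_eq fun i => ?_
        conv_lhs => rw [show x = 2 ^ k + (x - 2 ^ k) by omega]
        rw [Nat.testBit_xor, Nat.testBit_two_pow]
        rcases lt_trichotomy i k with hi | hi | hi
        · rw [Nat.testBit_two_pow_add_gt hi]; simp [hi.ne']
        · subst hi
          rw [Nat.testBit_two_pow_add_eq, Nat.testBit_lt_two_pow hlt]; simp
        · rw [Nat.testBit_lt_two_pow (lt_of_lt_of_le (show 2 ^ k + (x - 2 ^ k) < 2 ^ (k + 1) by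
            rw [pow_succ]; omega) (Nat.pow_le_pow_right (by norm_num) hi)),
            Nat.testBit_lt_two_pow (lt_of_lt_of_le hlt (Nat.pow_le_pow_right (by norm_num) hi.le))]
          simp [hi.ne]
      rw [e, hf, hg, h k (Nat.lt_succ_self k), ih _ hlt]

theorem div_xor (a b : ℕ) : (a ^^^ b) / 32 = a / 32 ^^^ b / 32 := by
  refine Nat.eq_of_testBit_eq fun i => ?_
  simp only [show (32 : ℕ) = 2 ^ 5 from rfl, ← Nat.shiftRight_eq_div_pow, Nat.testBit_shiftRight, Nat.testBit_xor]

theorem gb_xor (g a b : ℕ) : gb g (a ^^^ b) = gb g a ^^^ gb g b := by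
  simp only [gb, div_xor, ev_xor]
  cases ev 6 g.testBit (a / 32) <;> cases ev 6 g.testBit (b / 32) <;> simp

theorem gb_low (g : ℕ) {x : ℕ} (hx : x < 32) : gb g x = 0 := by
  simp [gb, Nat.div_eq_of_lt hx, ev_zero]

theorem gb_one (g x : ℕ) : gb g (x ^^^ 1) = gb g x := by
  rw [gb_xor, gb_low g (by norm_num : (1 : ℕ) < 32), Nat.xor_zero]

theorem gb_cases (g x : ℕ) : gb g x = 0 ∨ gb g x = 1 := by
  unfold gb; cases ev 6 g.testBit (x / 32) <;> simp

theorem xor_self_cancel (a b : ℕ) : a ^^^ b ^^^ b = a := by rw [Nat.xor_assoc, Nat.xor_self, Nat.xor_zero]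

/-- The transvection given by a pair of indices. -/
def tvMap (n : ℕ) (x : CfsgLib.CoOneType.V8) : CfsgLib.CoOneType.V8 :=
  let e := tvs.getD n (0, 0)
  CfsgLib.CoOneEleven.rootMap (wv ⟨e.2 % 4, Nat.mod_lt _ (by norm_num)⟩) (dv ⟨e.1 % 4, Nat.mod_lt _ (by norm_num)⟩) x

theorem tv_basis : ∀ n : Fin 6,
    (∀ i : Fin 4, tvMap n.val (wv i) = wOf ((fCols.getD n.val []).getD (1 + i.val) 0 / 2)) ∧
    (∀ k : Fin 4, tvMap n.val (dv k) = dOf ((qdCols.getD n.val []).getD k.val 0)) ∧
    (fCols.getD n.val []).getD 0 0 = 1 ∧ (∀ j : Fin 5, (fCols.getD n.val []).getD j.val 0 < 32) ∧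
    (∀ j : Fin 11, (fCols.getD n.val []).getD j.val 0 < 2048) := by
  decide +kernel

theorem allLt_of {f : ℕ → Bool} : ∀ {k : ℕ}, (∀ i < k, f i = true) → allLt k f = true
  | 0, _ => rfl
  | k + 1, h => by
    show (f k && allLt k f) = true
    rw [h k (Nat.lt_succ_self k), allLt_of fun i hi => h i (Nat.lt_succ_of_lt hi)]
    rfl

theorem ap_lt' : ∀ {cs : List ℕ}, (∀ c ∈ cs, c < 2048) → ∀ v, ap cs v < 2048
  | [], _, _ => by simp [ap_nil]
  | c :: cs, h, v => by
    rw [ap_cons]
    refine Nat.xor_lt_two_pow (n := 11) ?_ (ap_lt' (fun d hd => h d (List.mem_cons_of_mem _ hd)) _)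
    split_ifs
    · exact h c List.mem_cons_self
    · norm_num

theorem cols_lt : ((tCols ++ fCols ++ lCols).all fun L => L.all fun c => Nat.blt c 2048) = true := by
  decide +kernel

theorem tCols_lt (k : ℕ) : ∀ c ∈ tCols.getD k [], c < 2048 := by
  intro c hc
  have h := cols_lt
  simp only [List.all_eq_true, Nat.blt_eq, List.mem_append] at h
  rcases Nat.lt_or_ge k tCols.length with hk | hk
  · rw [List.getD_eq_getElem _ _ hk] at hc
    exact h _ (Or.inl (Or.inl (List.getElem_mem hk))) c hc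
  · rw [List.getD_eq_default _ _ hk] at hc
    simp at hc

theorem fCols_lt (k : ℕ) : ∀ c ∈ fCols.getD k [], c < 2048 := by
  intro c hc
  have h := cols_lt
  simp only [List.all_eq_true, Nat.blt_eq, List.mem_append] at h
  rcases Nat.lt_or_ge k fCols.length with hk | hk
  · rw [List.getD_eq_getElem _ _ hk] at hc
    exact h _ (Or.inl (Or.inr (List.getElem_mem hk))) c hc
  · rw [List.getD_eq_default _ _ hk] at hc
    simp at hc

theorem tq_lt {q x : ℕ} (hx : x < 2048) : tq q x < 2048 := by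
  have step : ∀ k y, y < 2048 → (bif q.testBit k then ap (tCols.getD k []) y else y) < 2048 := fun k y hy => by
    cases q.testBit k
    · exact hy
    · exact ap_lt' (tCols_lt k) y
  exact step 3 _ (step 2 _ (step 1 _ (step 0 _ hx)))

theorem fLift_lt (n : ℕ) (g : ℕ) (x : ℕ) : ap (fCols.getD n []) x ^^^ gb g x < 2048 :=
  Nat.xor_lt_two_pow (n := 11) (ap_lt' (fCols_lt n) x) (by rcases gb_cases g x with h | h <;> rw [h] <;> norm_num)

end CfsgLib.CoOneEleven.Data
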