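import Cfsg.Agent.Lib.CoOneEleven.Move
import Cfsg.Agent.Lib.CoOneEleven.Numbers

/-!
The translations by the dual vectors and the lifts of transvections, on the numbering.
-/

set_option autoImplicit false
set_option linter.style.haveILetI false
set_option synthInstance.maxSize 20000
set_option maxRecDepth 20000
set_option maxHeartbeats 1000000

namespace CfsgLib.CoOneEleven

open CfsgLib.Classical.Quad CfsgLib.CoOneType
open CfsgLib.LargeFischer CfsgLib.LargeFischer.Plane CfsgLib.Golay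

universe u

theorem delta_zero_apply : ∀ r : Fin 64, ∀ i, delta r.val (wv i) = 0 := by decide +kernel

theorem delta_inj : ∀ r r' : Fin 64, (∀ i : Fin 4, delta r.val (dv i) = delta r'.val (dv i)) → r = r' := by
  decide +kernel

theorem dOf_inj : ∀ q q' : Fin 16, (∀ i, BV (dOf q.val) (wv i) = BV (dOf q'.val) (wv i)) → q = q' := by
  decide +kernel

theorem dot_facts : ∀ q a : Fin 16, BV (dOf q.val) (wOf a.val) = if Data.dot4 q.val a.val then 1 else 0 := by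
  decide +kernel

theorem tCols_check : ∀ k : Fin 4,
    (Data.tCols.getD k.val []).getD 0 0 = 1 ∧
    (∀ i : Fin 4, (Data.tCols.getD k.val []).getD (1 + i.val) 0 = 2 ^ (1 + i.val) ^^^ (if k = i then 1 else 0)) ∧
    (∀ i : Fin 6, (Data.tCols.getD k.val []).getD (5 + i.val) 0 = 2 ^ (5 + i.val) ^^^
      (if k = pI i then 2 ^ (1 + (pJ i).val) else if k = pJ i then 2 ^ (1 + (pI i).val) else 0)) := by
  decide +kernel

theorem fCols_act : ∀ n i : Fin 6, ∀ m : Fin 4,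
    Data.tvMap n.val (rootMap (wv (pI i)) (wv (pJ i)) (Data.tvMap n.val (dv m))) =
      dv m + delta ((Data.fCols.getD n.val []).getD (5 + i.val) 0 / 32) (dv m) := by
  decide +kernel

theorem tCols_low : ∀ k : Fin 4, ∀ i : Fin 6,
    ap (Data.tCols.getD k.val []) (2 ^ (5 + i.val)) ^^^ 2 ^ (5 + i.val) < 32 ∧
      ap (Data.tCols.getD k.val []) (2 ^ (5 + i.val)) < 2048 := by
  decide +kernel

namespace Frame

variable {G : Type u} [Group G] [Finite G] {S : Sys G} {s : G} (F : Frame S s)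

theorem θ_qv (i : Fin 4) : F.θ (2 ^ (1 + i.val)) = F.qv i := by
  rw [θ_two_pow]; fin_cases i <;> rfl

theorem θ_y (i : Fin 6) : F.θ (2 ^ (5 + i.val)) = F.y i := by
  rw [θ_two_pow]; fin_cases i <;> rfl

theorem θ_one : F.θ 1 = s := F.θ_two_pow 0

theorem mem_N {g : G} (h : ∀ a ∈ F.A, g * a * g⁻¹ ∈ F.A) : g ∈ F.N := by
  refine Subgroup.mem_normalizer_iff.2 fun y => ⟨h y, fun hy => ?_⟩
  let f : F.A → F.A := fun a => ⟨g * a.1 * g⁻¹, h _ a.2⟩
  obtain ⟨a, ha⟩ := Finite.surjective_of_injective (f := f) (fun a b e =>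
    Subtype.ext (mul_left_cancel (mul_right_cancel (congrArg Subtype.val e)))) ⟨_, hy⟩
  have e : g * a.1 * g⁻¹ = g * y * g⁻¹ := congrArg Subtype.val ha
  exact mul_left_cancel (mul_right_cancel e) ▸ a.2

theorem conj_mem {g a : G} (hg : g ∈ F.N) (ha : a ∈ F.A) : g * a * g⁻¹ ∈ F.A :=
  (Subgroup.mem_normalizer_iff.1 hg a).1 ha

/-- The columns of a linear action of an element of the normalizer. -/
theorem conj_θ {g : G} {L : List ℕ} (hlen : L.length = 11)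
    (h : ∀ j < 11, g * F.θ (2 ^ j) * g⁻¹ = F.θ (L.getD j 0)) (x : ℕ) :
    g * F.θ x * g⁻¹ = F.θ (ap L x) := by
  rw [θ, apG_conj, θ, ← apG_map_ap F.A_comm F.A_sq (fun _ hc => F.cs_mem hc) L x]
  congr 1
  refine List.ext_getElem (by simp [cs, hlen]) fun j h1 h2 => ?_
  rw [List.getElem_map, List.getElem_map]
  have hj : j < 11 := by simpa [cs] using h1
  have hj' : j < F.cs.length := by simpa [cs] using hj
  have e := h j hj
  rw [F.θ_two_pow, List.getD_eq_getElem _ _ hj', List.getD_eq_getElem _ _ (hlen ▸ hj)] at e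
  exact e

theorem qd_conj (k : Fin 4) (x : ℕ) :
    F.qd k * F.θ x * (F.qd k)⁻¹ = F.θ (ap (Data.tCols.getD k.val []) x) := by
  obtain ⟨h0, hw, hy⟩ := tCols_check k
  refine F.conj_θ (by fin_cases k <;> rfl) (fun j hj => ?_) x
  rcases Nat.eq_zero_or_pos j with rfl | hj0
  · rw [h0, pow_zero, θ_one]
    exact conj_eq_iff_commute.2 (F.M.le_cent _ (F.qd_mem k))
  · rcases Nat.lt_or_ge j 5 with h5 | h5
    · obtain ⟨i, rfl⟩ : ∃ i : Fin 4, j = 1 + i.val := ⟨⟨j - 1, by omega⟩, by show j = 1 + (j - 1); omega⟩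
      rw [hw i, θ_qv, F.M.conj_eq (F.qd_mem k) (F.qv_mem i), F.qd_π, F.qv_π, (wv_facts.2.1 k i).2.2]
      split_ifs
      · rw [θ_xor, θ_qv, θ_one, pw_one]
      · rw [Nat.xor_zero, θ_qv, pw_zero, mul_one]
    · obtain ⟨i, rfl⟩ : ∃ i : Fin 6, j = 5 + i.val := ⟨⟨j - 5, by omega⟩, by show j = 5 + (j - 5); omega⟩
      rw [hy i, θ_y, F.y_conj, θ_xor, θ_y]
      split_ifs
      · rw [θ_qv]
      · rw [θ_qv]
      · rw [θ_zero]

/-- The lift of a dual vector. -/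
def qq (q : ℕ) : G :=
  pw (F.qd 3) (bz q 3) * (pw (F.qd 2) (bz q 2) * (pw (F.qd 1) (bz q 1) * pw (F.qd 0) (bz q 0)))

theorem qq_conj (q x : ℕ) : F.qq q * F.θ x * (F.qq q)⁻¹ = F.θ (Data.tq q x) := by
  have hstep : ∀ (k : Fin 4) (x : ℕ), pw (F.qd k) (bz q k.val) * F.θ x * (pw (F.qd k) (bz q k.val))⁻¹ =
      F.θ (bif q.testBit k.val then ap (Data.tCols.getD k.val []) x else x) := fun k x => by
    cases hb : q.testBit k.val
    · simp [bz, hb, pw]
    · simp [bz, hb, pw, F.qd_conj]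
  have e : F.qq q * F.θ x * (F.qq q)⁻¹ = pw (F.qd 3) (bz q 3) * (pw (F.qd 2) (bz q 2) *
      (pw (F.qd 1) (bz q 1) * (pw (F.qd 0) (bz q 0) * F.θ x * (pw (F.qd 0) (bz q 0))⁻¹) *
        (pw (F.qd 1) (bz q 1))⁻¹) * (pw (F.qd 2) (bz q 2))⁻¹) * (pw (F.qd 3) (bz q 3))⁻¹ := by
    rw [qq]; group
  rw [e]
  erw [hstep 0 x, hstep 1, hstep 2, hstep 3]
  rfl

theorem qq_mem (q : ℕ) : F.qq q ∈ S.E s ∧ F.π (F.qq q) = dOf q := by
  have hm : ∀ k c, pw (F.qd k) c ∈ S.E s ∧ F.π (pw (F.qd k) c) = c • dv k := fun k c => by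
    rcases zcases c with rfl | rfl
    · rw [pw_zero, F.M.map_one, zero_smul]; exact ⟨(S.E s).one_mem, rfl⟩
    · rw [pw_one, F.qd_π, one_smul]; exact ⟨F.qd_mem k, rfl⟩
  refine ⟨(S.E s).mul_mem (hm _ _).1 ((S.E s).mul_mem (hm _ _).1 ((S.E s).mul_mem (hm _ _).1 (hm _ _).1)), ?_⟩
  rw [qq, F.M.map_mul _ (hm _ _).1 _ ((S.E s).mul_mem (hm _ _).1 ((S.E s).mul_mem (hm _ _).1 (hm _ _).1)),
    F.M.map_mul _ (hm _ _).1 _ ((S.E s).mul_mem (hm _ _).1 (hm _ _).1),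
    F.M.map_mul _ (hm _ _).1 _ (hm _ _).1, (hm _ _).2, (hm _ _).2, (hm _ _).2, (hm _ _).2, dOf]
  simp only [bz]
  abel

theorem qq_N (q : ℕ) : F.qq q ∈ F.N := F.mem_N fun a ha => by
  obtain ⟨n, -, rfl⟩ := F.θ_surj ha
  rw [qq_conj]
  exact F.θ_mem _

/-- An element of the centralizer of `s` normalizing the subgroup over the totally singular space. -/
theorem mem_N_of_p5 {g : G} (h : ∀ q ∈ p5 F.M, g * q * g⁻¹ ∈ p5 F.M) : g ∈ F.N := by
  refine F.mem_N fun a ha => F.mem_A_iff.2 fun q hq => ?_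
  let f : p5 F.M → p5 F.M := fun x => ⟨g * x.1 * g⁻¹, h _ x.2⟩
  obtain ⟨x, hx⟩ := Finite.surjective_of_injective (f := f) (fun a b e =>
    Subtype.ext (mul_left_cancel (mul_right_cancel (congrArg Subtype.val e)))) ⟨q, hq⟩
  have e : g * x.1 * g⁻¹ = q := congrArg Subtype.val hx
  rw [← e]
  have := F.mem_A_iff.1 ha _ x.2
  show g * a * g⁻¹ * (g * x.1 * g⁻¹) = g * x.1 * g⁻¹ * (g * a * g⁻¹)
  calc _ = g * (a * x.1) * g⁻¹ := by group
    _ = g * (x.1 * a) * g⁻¹ := by rw [this.eq]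
    _ = _ := by group

/-- A lift of a transvection with known action up to the central coordinate. -/
theorem exists_lift (n : Fin 6) : ∃ c ∈ F.N, Commute c s ∧
    (∀ q ∈ S.E s, F.π (c * q * c⁻¹) = Data.tvMap n.val (F.π q)) ∧
    ∃ g < 64, ∀ x < 2048, c * F.θ x * c⁻¹ = F.θ (ap (Data.fCols.getD n.val []) x ^^^ Data.gb g x) := by
  classical
  obtain ⟨hbw, hbd, hb0, hblow, hblt⟩ := Data.tv_basis n
  set a : V8 := wv ⟨(Data.tvs.getD n.val (0, 0)).2 % 4, Nat.mod_lt _ (by norm_num)⟩ with ha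
  set b : V8 := dv ⟨(Data.tvs.getD n.val (0, 0)).1 % 4, Nat.mod_lt _ (by norm_num)⟩ with hb
  obtain ⟨hab1, hab2, hab3, hab4, hab5⟩ : qV a = 0 ∧ qV b = 0 ∧ BV b a = 0 ∧ b ≠ 0 ∧ b ≠ a ∧ True :=
    by
      have := (by decide +kernel : ∀ n : Fin 6,
        let a := wv ⟨(Data.tvs.getD n.val (0, 0)).2 % 4, Nat.mod_lt _ (by norm_num)⟩
        let b := dv ⟨(Data.tvs.getD n.val (0, 0)).1 % 4, Nat.mod_lt _ (by norm_num)⟩
        qV a = 0 ∧ qV b = 0 ∧ BV b a = 0 ∧ b ≠ 0 ∧ b ≠ a ∧ True) n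
      exact this
  obtain ⟨qa, hqa, hπ⟩ := F.M.surj a
  obtain ⟨t, -, -, -, -, hts, hta⟩ := exists_root F.M F.hK hab1 hab2 hab3 ((wv_facts.1 _).2.2.2) hab4 hab5.1 hqa hπ
  have hta' : ∀ q ∈ S.E s, F.π (t * q * t⁻¹) = Data.tvMap n.val (F.π q) := hta
  have hpt : ∀ q ∈ p5 F.M, t * q * t⁻¹ ∈ p5 F.M := fun q hq => ⟨F.M.normal t hts q hq.1, by
    rw [hta' q hq.1]
    exact (by decide +kernel : ∀ n : Fin 6, ∀ v, InW v → InW (Data.tvMap n.val v)) n _ hq.2⟩
  -- normalize the signs on the totally singular space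
  have hwnum : ∀ i : Fin 4, ∃ e : ZMod 2, t * F.qv i * t⁻¹ =
      F.θ ((Data.fCols.getD n.val []).getD (1 + i.val) 0) * pw s e := fun i => by
    have hlt := hblow ⟨1 + i.val, by omega⟩
    have h := F.θ_p5 hlt
    rcases F.M.eq_of_map (hpt _ (F.qv_p5 i)).1 h.1.1 (by rw [hta' _ (F.qv_mem i), F.qv_π, hbw i, h.2]) with e | e
    · exact ⟨0, by rw [pw_zero, mul_one]; exact e⟩
    · exact ⟨1, by rw [pw_one]; exact e⟩
  choose e he using hwnum
  obtain ⟨q0, hq0⟩ : ∃ q0 : Fin 16, ∀ i : Fin 4,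
      BV (dOf q0.val) (wOf ((Data.fCols.getD n.val []).getD (1 + i.val) 0 / 2)) = e i := by
    have := (by decide +kernel : ∀ n : Fin 6, ∀ e0 e1 e2 e3 : ZMod 2, ∃ q0 : Fin 16, ∀ i : Fin 4,
      BV (dOf q0.val) (wOf ((Data.fCols.getD n.val []).getD (1 + i.val) 0 / 2)) = ![e0, e1, e2, e3] i)
      n (e 0) (e 1) (e 2) (e 3)
    obtain ⟨q0, hq0⟩ := this
    exact ⟨q0, fun i => by rw [hq0 i]; fin_cases i <;> rfl⟩
  set c := F.qq q0.val * t with hc
  have hcs : Commute c s := (F.M.le_cent _ (F.qq_mem _).1).mul_left hts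
  have hcN : c ∈ F.N := mul_mem (F.qq_N _) (F.mem_N_of_p5 hpt)
  have hcπ : ∀ q ∈ S.E s, F.π (c * q * c⁻¹) = Data.tvMap n.val (F.π q) := fun q hq => by
    rw [hc, show F.qq q0.val * t * q * (F.qq q0.val * t)⁻¹ = F.qq q0.val * (t * q * t⁻¹) * (F.qq q0.val)⁻¹ by group,
      F.M.map_conj (F.qq_mem _).1 (F.M.normal t hts q hq), hta' q hq]
  have hcv : ∀ i : Fin 4, c * F.qv i * c⁻¹ = F.θ ((Data.fCols.getD n.val []).getD (1 + i.val) 0) := fun i => by
    obtain ⟨hm, hmπ⟩ := F.θ_p5 (hblow ⟨1 + i.val, by omega⟩)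
    rw [hc, show F.qq q0.val * t * F.qv i * (F.qq q0.val * t)⁻¹ =
      F.qq q0.val * (t * F.qv i * t⁻¹) * (F.qq q0.val)⁻¹ by group, he i]
    have h2 : Commute (F.qq q0.val) (pw s (e i)) := commute_pw (F.M.le_cent _ (F.qq_mem _).1) _
    rw [← mul_assoc, mul_assoc (F.qq q0.val * F.θ _), h2.inv_left.symm.eq, ← mul_assoc,
      F.M.conj_eq (F.qq_mem _).1 hm.1, (F.qq_mem _).2, hmπ, hq0 i, mul_assoc, ← pw_add F.M.sq_one,
      CharTwo.add_self_eq_zero, pw_zero, mul_one]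
  set Fc := Data.fCols.getD n.val [] with hFc
  have hFlen : Fc.length = 11 := by rw [hFc]; fin_cases n <;> rfl
  have hlow : ∀ j < 5, c * F.θ (2 ^ j) * c⁻¹ = F.θ (Fc.getD j 0) := fun j hj => by
    rcases Nat.eq_zero_or_pos j with rfl | h0
    · rw [hb0, pow_zero, θ_one]; exact conj_eq_iff_commute.2 hcs
    · obtain ⟨i, rfl⟩ : ∃ i : Fin 4, j = 1 + i.val := ⟨⟨j - 1, by omega⟩, by show j = 1 + (j - 1); omega⟩
      rw [θ_qv]; exact hcv i
  have hlowx : ∀ y < 32, c * F.θ y * c⁻¹ = F.θ (ap Fc y) := by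
    intro y hy
    refine Data.ext_bits (f := fun y => c * F.θ y * c⁻¹) (g := fun y => F.θ (ap Fc y)) (· * ·)
      (fun a b => by simp only [θ_xor]; group) (fun a b => by simp only [ap_add, θ_xor])
      (by simp [θ_zero, ap_zero]) 5 (fun j hj => ?_) y hy
    rw [hlow j hj]
    congr 1
    exact ((by decide +kernel : ∀ n : Fin 6, ∀ j : Fin 5,
      ap (Data.fCols.getD n.val []) (2 ^ j.val) = (Data.fCols.getD n.val []).getD j.val 0) n ⟨j, hj⟩).symm
  -- the root elements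
  have hy : ∀ i : Fin 6, ∃ b : Bool, c * F.y i * c⁻¹ = F.θ (Fc.getD (5 + i.val) 0 ^^^ (bif b then 1 else 0)) := by
    intro i
    obtain ⟨x, hx, hxe⟩ := F.θ_surj (F.conj_mem hcN (F.θ_y i ▸ F.θ_mem (2 ^ (5 + i.val))))
    set v := Fc.getD (5 + i.val) 0 with hv
    have hvlt : v < 2048 := hblt ⟨5 + i.val, by omega⟩
    have hinv : ∀ w, Data.tvMap n.val (Data.tvMap n.val w) = w := fun w =>
      (by decide +kernel : ∀ n : Fin 6, ∀ w, Data.tvMap n.val (Data.tvMap n.val w) = w) n w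
    have hr : x / 32 = v / 32 := by
      refine congrArg Fin.val (delta_inj ⟨x / 32, by omega⟩ ⟨v / 32, by omega⟩ fun m => ?_)
      have h1 := F.θ_act x (F.qd_mem m)
      rw [hxe, F.qd_π] at h1
      obtain ⟨r, hr, hrπ⟩ := F.M.surj (Data.tvMap n.val (dv m))
      have hci : c⁻¹ * F.qd m * c ∈ S.E s := by
        have := F.M.normal c⁻¹ hcs.inv_left _ (F.qd_mem m)
        rwa [inv_inv] at this
      have h2 : F.π (c⁻¹ * F.qd m * c) = Data.tvMap n.val (dv m) := by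
        have h3 := hcπ _ hci
        rw [show c * (c⁻¹ * F.qd m * c) * c⁻¹ = F.qd m by group, F.qd_π] at h3
        rw [h3, hinv]
      rw [show c * F.y i * c⁻¹ * F.qd m * (c * F.y i * c⁻¹)⁻¹ =
        c * (F.y i * (c⁻¹ * F.qd m * c) * (F.y i)⁻¹) * c⁻¹ by group,
        hcπ _ (F.M.normal _ (F.y_fix i).comm_s _ hci), F.y_act i _ hci, h2, fCols_act n i m] at h1
      exact (add_left_cancel h1).symm
    have hQ : ∀ k : Fin 4, Data.tq ((Data.qdCols.getD n.val []).getD k.val 0) x =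
        x ^^^ ap Fc (ap (Data.tCols.getD k.val []) (2 ^ (5 + i.val)) ^^^ 2 ^ (5 + i.val)) := fun k => by
      set Q := (Data.qdCols.getD n.val []).getD k.val 0 with hQdef
      refine F.θ_inj ?_ ?_ ?_
      · exact Data.tq_lt hx
      · exact Nat.xor_lt_two_pow (n := 11) hx (Data.ap_lt' (Data.fCols_lt n.val) _)
      · have hQc : c * F.qd k * c⁻¹ = F.qq Q ∨ c * F.qd k * c⁻¹ = F.qq Q * s :=
          F.M.eq_of_map (F.M.normal c hcs _ (F.qd_mem k)) (F.qq_mem Q).1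
            (by rw [hcπ _ (F.qd_mem k), F.qd_π, hbd k, (F.qq_mem Q).2])
        have hQconj : c * F.qd k * c⁻¹ * F.θ x * (c * F.qd k * c⁻¹)⁻¹ = F.qq Q * F.θ x * (F.qq Q)⁻¹ := by
          rcases hQc with e | e <;> rw [e]
          rw [show F.qq Q * s * F.θ x * (F.qq Q * s)⁻¹ = F.qq Q * (s * F.θ x * s⁻¹) * (F.qq Q)⁻¹ by group,
            conj_eq_iff_commute.2 ((F.θ_fix x).comm_s).symm]
        set d := ap (Data.tCols.getD k.val []) (2 ^ (5 + i.val)) ^^^ 2 ^ (5 + i.val) with hd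
        have hd' : ap (Data.tCols.getD k.val []) (2 ^ (5 + i.val)) = 2 ^ (5 + i.val) ^^^ d := by
          rw [hd, Nat.xor_comm (ap _ _), ← Nat.xor_assoc, Nat.xor_self, Nat.zero_xor]
        have hcd : c * (F.y i * F.θ d) * c⁻¹ = c * F.y i * c⁻¹ * (c * F.θ d * c⁻¹) := by group
        rw [← qq_conj, ← hQconj, hxe, show c * F.qd k * c⁻¹ * (c * F.y i * c⁻¹) * (c * F.qd k * c⁻¹)⁻¹ =
          c * (F.qd k * F.y i * (F.qd k)⁻¹) * c⁻¹ by group, ← F.θ_y i, qd_conj, hd', θ_xor, θ_y, hcd,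
          hlowx _ (hd ▸ (tCols_low k i).1), ← hxe, ← θ_xor]
    have hchk := allLt_spec (allLt_spec Data.fCols_check n.val n.isLt) i.val i.isLt
    simp only [List.all_eq_true, List.mem_range] at hchk
    have h := hchk (x % 32) (Nat.mod_lt _ (by norm_num))
    rw [show 32 * (v / 32) + x % 32 = x by rw [← hr]; exact Nat.div_add_mod x 32] at h
    simp only [Bool.or_eq_true, Bool.not_eq_true', Nat.beq_eq] at h
    rcases h with h | h | h
    · exfalso
      have hall : (allLt 4 fun k =>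
          Nat.beq (Data.tq ((Data.qdCols.getD n.val []).getD k 0) x)
            (x ^^^ ap Fc (ap (Data.tCols.getD k []) (2 ^ (5 + i.val)) ^^^ 2 ^ (5 + i.val)))) = true :=
        Data.allLt_of fun k hk => by rw [Nat.beq_eq]; exact hQ ⟨k, hk⟩
      rw [hall] at h
      exact absurd h (by simp)
    · exact ⟨false, by rw [← hxe, h]; simp; rfl⟩
    · exact ⟨true, by rw [← hxe, h]; rfl⟩
  choose bb hbb using hy
  obtain ⟨g, hg, hgbit⟩ : ∃ g < 64, ∀ i : Fin 6, g.testBit i.val = bb i := by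
    obtain ⟨g, hg⟩ := (by decide +kernel : ∀ a0 a1 a2 a3 a4 a5 : Bool, ∃ g : Fin 64, ∀ i : Fin 6,
      g.val.testBit i.val = ![a0, a1, a2, a3, a4, a5] i) (bb 0) (bb 1) (bb 2) (bb 3) (bb 4) (bb 5)
    exact ⟨g.val, g.isLt, fun i => by rw [hg i]; fin_cases i <;> rfl⟩
  refine ⟨c, hcN, hcs, hcπ, g, hg, fun x hx => ?_⟩
  refine Data.ext_bits (f := fun y => c * F.θ y * c⁻¹) (g := fun y => F.θ (ap Fc y ^^^ Data.gb g y)) (· * ·)
    (fun a b => by simp only [θ_xor]; group)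
    (fun a b => by
      simp only [← θ_xor, ap_add, Data.gb_xor]
      congr 1
      rw [Nat.xor_assoc, Nat.xor_assoc, ← Nat.xor_assoc (ap Fc b), Nat.xor_comm (ap Fc b) (Data.gb g a),
        Nat.xor_assoc])
    (by simp [θ_zero, ap_zero, Data.gb_low]) 11 (fun j hj => ?_) x hx
  have hap : ap Fc (2 ^ j) = Fc.getD j 0 :=
    (by decide +kernel : ∀ n : Fin 6, ∀ j : Fin 11,
      ap (Data.fCols.getD n.val []) (2 ^ j.val) = (Data.fCols.getD n.val []).getD j.val 0) n ⟨j, hj⟩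
  rw [hap]
  rcases Nat.lt_or_ge j 5 with h5 | h5
  · rw [Data.gb_low g (by
      calc 2 ^ j < 2 ^ 5 := Nat.pow_lt_pow_right (by norm_num) h5
        _ = 32 := rfl), Nat.xor_zero, hlow j h5]
  · obtain ⟨i, rfl⟩ : ∃ i : Fin 6, j = 5 + i.val := ⟨⟨j - 5, by omega⟩, by show j = 5 + (j - 5); omega⟩
    rw [θ_y, hbb i]
    congr 2
    have : 2 ^ (5 + i.val) / 32 = 2 ^ i.val := by rw [pow_add]; norm_num
    rw [Data.gb, this, Data.ev_two_pow, ← hgbit i]
    simp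

end Frame

end CfsgLib.CoOneEleven
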