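import Cfsg.Agent.Lib.CoOneEleven.Data
import Cfsg.Agent.Lib.Golay.Basic
import Cfsg.Agent.Lib.LargeFischer.ThompsonM24

/-!
Finite checks on the numerical model of the subgroup of order `2 ^ 11`.
-/

set_option autoImplicit false
set_option maxRecDepth 16000

namespace CfsgLib.CoOneEleven.Data

open CfsgLib.LargeFischer.Plane CfsgLib.Golay

/-- The parity of the values of `v` at the binary digits of `e` below `n`. -/
def ev : ℕ → (ℕ → Bool) → ℕ → Bool
  | 0, _, _ => false
  | n + 1, v, e => xor (ev n v e) (e.testBit n && v n)

theorem ev_zero (n : ℕ) (v : ℕ → Bool) : ev n v 0 = false := by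
  induction n with
  | zero => rfl
  | succ n ih => simp [ev, ih]

theorem ev_xor (v : ℕ → Bool) (a b : ℕ) : ∀ n, ev n v (a ^^^ b) = xor (ev n v a) (ev n v b)
  | 0 => rfl
  | n + 1 => by
    simp only [ev, ev_xor v a b n, Nat.testBit_xor]
    cases a.testBit n <;> cases b.testBit n <;> cases v n <;> simp

theorem ev_two_pow (v : ℕ → Bool) (i : ℕ) : ∀ n, ev n v (2 ^ i) = (decide (i < n) && v i)
  | 0 => by simp [ev]
  | n + 1 => by
    simp only [ev, ev_two_pow v i n, Nat.testBit_two_pow]
    rcases lt_trichotomy i n with h | h | h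
    · simp [h, h.ne, Nat.lt_succ_of_lt h]
    · subst h; simp
    · simp [h.ne', not_lt.2 h.le, show ¬ i < n + 1 by omega]

theorem ev_congr {v w : ℕ → Bool} : ∀ {n : ℕ}, (∀ i < n, v i = w i) → ∀ e, ev n v e = ev n w e
  | 0, _, _ => rfl
  | n + 1, h, e => by
    simp only [ev, ev_congr (n := n) (fun i hi => h i (Nat.lt_succ_of_lt hi)) e, h n (Nat.lt_succ_self n)]

/-- The translation by the dual vector with the binary digits of `q`. -/
def tq (q x : ℕ) : ℕ :=
  let f (k : ℕ) (y : ℕ) : ℕ := bif q.testBit k then ap (tCols.getD k []) y else y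
  f 3 (f 2 (f 1 (f 0 x)))

/-- The exterior vector after a transvection. -/
def rOf (n r : ℕ) : ℕ := ap (fCols.getD n []) (32 * r) / 32

/-- The side of an element above an indecomposable vector. -/
def side (x : ℕ) : Bool := !o0Mask.testBit x

/-- The bit of a functional of the exterior square at an element. -/
def gb (g x : ℕ) : ℕ := bif ev 6 g.testBit (x / 32) then 1 else 0

/-- The subgroup over a line. -/
def lineShift (a b : ℕ) : List ℕ :=
  [0, 1, 2 * a, 2 * b, 1 ^^^ 2 * a, 1 ^^^ 2 * b, 2 * a ^^^ 2 * b, 1 ^^^ 2 * a ^^^ 2 * b]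

/-- A linear functional on four coordinates. -/
def dot4 (a b : ℕ) : Bool := ev 4 a.testBit b

theorem cover_check : allR (fun r => Nat.beq r 0 || ((rootInfo.map Prod.fst).contains r != bigs.contains r)) 6 0 =
    true ∧ rootInfo.length = 35 ∧ bigs.length = 28 := by
  decide +kernel

theorem root_check : (rootInfo.all fun e =>
    (List.range 32).all fun t =>
      let x := 32 * e.1 + t
      !((List.range 16).all fun q => dot4 q e.2.1 || dot4 q e.2.2.1 || Nat.beq (tq q x) x) ||
        (lineShift e.2.1 e.2.2.1).contains (x ^^^ e.2.2.2)) = true := by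
  decide +kernel

theorem root_r0 : (rootInfo.all fun e =>
    Nat.beq (e.2.2.2 / 32) e.1 &&
    (List.range 32).all fun t =>
      r0Mask.testBit (32 * e.1 + t) == (lineShift e.2.1 e.2.2.1).contains ((32 * e.1 + t) ^^^ e.2.2.2)) = true ∧
    (bigs.all fun r => (List.range 32).all fun t => !r0Mask.testBit (32 * r + t)) = true ∧
    ((List.range 32).all fun t => r0Mask.testBit t != Nat.beq t 0) = true := by
  decide +kernel

theorem orbit_check : (bigs.all fun r => (List.range 32).all fun t =>
    let x := 32 * r + t
    (List.range 16).any fun q => Nat.beq (tq q (32 * r + (bif side x then 1 else 0))) x) = true ∧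
    (bigs.all fun r => (List.range 32).all fun t => side ((32 * r + t) ^^^ 1) != side (32 * r + t)) = true := by
  decide +kernel

/-- The possible images of a basis element under a lift of a transvection. -/
theorem fCols_check : (allLt 6 fun n => allLt 6 fun i =>
    let F := fCols.getD n []
    let v := F.getD (5 + i) 0
    (List.range 32).all fun t =>
      let x := 32 * (v / 32) + t
      !(allLt 4 fun k =>
        let y := ap (tCols.getD k []) (2 ^ (5 + i)) ^^^ 2 ^ (5 + i)
        Nat.beq (tq ((qdCols.getD n []).getD k 0) x) (x ^^^ ap F y)) ||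
        (Nat.beq x v || Nat.beq x (v ^^^ 1))) = true := by
  decide +kernel

theorem bigTree_check : (allLt 28 fun i =>
    let r := bigs.getD i 0
    let e := bigTree.getD i (0, 0)
    Nat.beq r (bigs.getD 0 0) || (Nat.blt e.1 6 && Nat.beq (rOf e.1 r) e.2 && bigs.contains e.2)) = true ∧
    (allLt 28 fun i =>
      let step (r : ℕ) : ℕ := (bigTree.getD (bigs.idxOf r) (0, 0)).2
      let r := bigs.getD i 0
      let f (x : ℕ) : ℕ := bif Nat.beq x (bigs.getD 0 0) then x else step x
      Nat.beq (f (f (f (f (f (f (f r))))))) (bigs.getD 0 0)) = true := by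
  decide +kernel

/-- The mask of the unknowns entering an equation. -/
def eqMask (n i : ℕ) : ℕ :=
  2 ^ i ^^^ 2 ^ (bigs.idxOf (rOf n (bigs.getD i 0))) ^^^
    ap ((List.range 6).map fun k => 2 ^ (28 + 6 * n + k)) (bigs.getD i 0)

theorem eqns_check : (allLt 6 fun n => allLt 28 fun i =>
    let e := eqns.getD (28 * n + i) (0, false)
    Nat.beq e.1 (eqMask n i) && (e.2 == side (ap (fCols.getD n []) (32 * bigs.getD i 0))) &&
      bigs.contains (rOf n (bigs.getD i 0))) = true ∧ eqns.length = 168 := by
  decide +kernel

/-- The sum of the selected equations. -/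
def eqSum : List ℕ → ℕ × Bool
  | [] => (0, false)
  | j :: l => ((eqns.getD j (0, false)).1 ^^^ (eqSum l).1, xor (eqns.getD j (0, false)).2 (eqSum l).2)

theorem pivots_check : (pivots.all fun e =>
    Nat.beq (eqSum e.2.2.2).1 (2 ^ e.1 ^^^ e.2.1) && ((eqSum e.2.2.2).2 == e.2.2.1) &&
      e.2.2.2.all fun j => Nat.blt j 168) = true ∧
    (allLt 28 fun i => frees.contains i || (pivots.map Prod.fst).contains i) = true := by
  decide +kernel

/-- The solution with given free values. -/
def sol (a : ℕ) (i : ℕ) : Bool :=
  let f (j : ℕ) : Bool := frees.contains j && a.testBit (frees.idxOf j)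
  bif frees.contains i then f i
  else
    let e := pivots.getD ((pivots.map Prod.fst).idxOf i) (0, 0, false, [])
    xor e.2.2.1 (ev 28 f e.2.1)

theorem pivots_free : (pivots.all fun e => allLt 64 fun i => !e.2.1.testBit i || (Nat.blt i 28 && frees.contains i)) =
    true := by
  decide +kernel

theorem sol_check : (allR (fun a =>
    let e := solTab.getD a (0, 0)
    Nat.blt e.1 64 && Nat.blt e.2 4 && allLt 28 fun i =>
      sol a i == xor ((cands.getD e.2 0).testBit i) (ev 6 e.1.testBit (bigs.getD i 0))) 8 0) = true := by
  decide +kernel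

theorem masks_check : (allLt 4 fun j => allR (fun x => (oMasks.getD j 0).testBit x ==
    (r0Mask.testBit x || (bigs.contains (x / 32) &&
      (side x == (cands.getD j 0).testBit (bigs.idxOf (x / 32)))))) 11 0) = true := by
  decide +kernel

theorem extremes_check : allR (fun x => (oMasks.getD 4 0).testBit x == r0Mask.testBit x &&
    ((oMasks.getD 5 0).testBit x == (r0Mask.testBit x || bigs.contains (x / 32)))) 11 0 = true := by
  decide +kernel

/-- Membership in the six masks. -/
def inM (j x : ℕ) : Bool := (oMasks.getD j 0).testBit x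

/-- How many members stay members after a translation. -/
def pairCount (j a : ℕ) : ℕ := (List.range 2048).countP fun x => inM j x && inM j (x ^^^ a)

theorem witness_check : ([0, 1, 3, 4, 5].all fun j => inM j (witnesses.getD j 0) &&
    !Nat.beq (pairCount j 1) (pairCount j (witnesses.getD j 0)) && Nat.blt (witnesses.getD j 0) 2048) = true ∧
    goodIdx = 2 ∧ oMasks.getD 2 0 = oMask ∧ oMask.testBit 1 = true ∧ oMask.testBit 2 = true := by
  decide +kernel

theorem shift_check : allR (fun x => Nat.blt x 32 || (r0Mask.testBit (x ^^^ 1) == r0Mask.testBit x)) 11 0 = true := by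
  decide +kernel

theorem gVals_check : (allLt 6 fun n => allR (fun g =>
    Nat.beq g (gVals.getD n 0) || !(allLt 28 fun i =>
      let v := ap (fCols.getD n []) (32 * bigs.getD i 0 + (bif (cands.getD 2 0).testBit i then 1 else 0))
      oMask.testBit (v ^^^ gb g (32 * bigs.getD i 0)))) 6 0) = true := by
  decide +kernel

theorem lCols_check : (allLt 6 fun n => allLt 11 fun j =>
    Nat.beq ((lCols.getD n []).getD j 0) ((fCols.getD n []).getD j 0 ^^^ gb (gVals.getD n 0) (2 ^ j))) = true := by
  decide +kernel

/-- The generators acting on the model. -/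
def gens : List (List ℕ) := tCols ++ lCols

/-- The generator index at a point. -/
def stepAt (x : ℕ) : ℕ := stepNum >>> (4 * x) &&& 15

/-- The end of the path to the representative. -/
def walk : ℕ → ℕ → ℕ
  | 0, x => x
  | k + 1, x => bif Nat.blt (stepAt x) 10 then walk k (ap (gens.getD (stepAt x) []) x) else x

theorem walk_check : allR (fun x => Nat.beq x 0 || oMask.testBit x ||
    Nat.beq (walk 11 x) (bif xrMask.testBit x then repR else repB)) 11 0 = true := by
  decide +kernel

theorem xr_check : allR (fun x => !xrMask.testBit x || (!oMask.testBit x && !Nat.beq x 0)) 11 0 = true ∧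
    ((List.range 2048).countP fun x => xrMask.testBit x && oMask.testBit (x ^^^ 1)) = 0 ∧
    ((List.range 2048).countP fun x => xrMask.testBit x && oMask.testBit (x ^^^ 2)) = 224 ∧
    (oMask.testBit repR = false ∧ oMask.testBit repB = false ∧ Nat.beq repR 0 = false ∧ repR < 2048 ∧
      repB < 2048) := by
  decide +kernel

theorem oMask_count : (List.range 2048).countP (fun x => oMask.testBit x) = 759 := by
  decide +kernel

/-- Pointwise sums of two lists and their differences from a total. -/
def comb (tot : ℕ) (A B : List ℕ) : List ℕ :=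
  List.zipWith (fun a b => a + b) A B ++ List.zipWith (fun a b => a + (tot - b)) A B

/-- For every functional the number of members at which it is odd. -/
def walsh : ℕ → (ℕ → Bool) → List ℕ
  | 0, _ => [0]
  | n + 1, f => comb ((List.range (2 ^ n)).countP fun x => f (2 ^ n + x)) (walsh n f)
      (walsh n fun x => f (2 ^ n + x))

theorem walsh_check :
    ((walsh 11 fun x => oMask.testBit x).zip (List.range 2048)).all (fun e =>
      Nat.beq e.1 352 == CfsgLib.LargeFischer.Thompson.duadMask.testBit (ap pCols e.2)) = true := by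
  decide +kernel

theorem pCols_check : allR (fun x => Nat.beq (ap piCols (ap pCols x)) x && Nat.beq (ap pCols (ap piCols x)) x &&
    Nat.blt (ap pCols x) 2048 && Nat.blt (ap piCols x) 2048) 11 0 = true := by
  decide +kernel

end CfsgLib.CoOneEleven.Data
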