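import Cfsg.Agent.Lib.CoOneEleven.Space

/-!
Every maximal totally singular space is equivalent to one of two standard ones.
-/

set_option autoImplicit false
set_option linter.style.haveILetI false
set_option synthInstance.maxSize 20000
set_option maxRecDepth 20000
set_option maxHeartbeats 1000000

namespace CfsgLib.CoOneEleven

open CfsgLib.Classical.Quad CfsgLib.CoOneType

/-- A large totally singular additive set can be moved into one of the two standard spaces. -/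
theorem classify (P : Set V8) (h0 : (0 : V8) ∈ P) (hadd : ∀ x ∈ P, ∀ y ∈ P, x + y ∈ P)
    (hq : ∀ x ∈ P, qV x = 0) (hB : ∀ x ∈ P, ∀ y ∈ P, BV x y = 0) (hcard : 16 ≤ Nat.card P) :
    ∃ k ∈ Ev, (∀ x ∈ P, InW (k.1 x)) ∨ (∀ x ∈ P, InW' (k.1 x)) := by
  classical
  have big : ∀ L : Finset V8, L.card < 16 → ∀ k : Orth Q8, ∃ x ∈ P, k.1 x ∉ L := by
    intro L hL k
    by_contra! h
    have := Nat.card_le_card_of_injective (β := L) (fun x : P => ⟨k.1 x.1, h x.1 x.2⟩) fun x y e =>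
      Subtype.ext (k.1.injective (congrArg Subtype.val e))
    rw [Nat.card_eq_fintype_card (α := L), Fintype.card_coe] at this
    omega
  have B : ∀ (k : Orth Q8) {x y : V8}, x ∈ P → y ∈ P → BV (k.1 x) (k.1 y) = 0 := fun k x y hx hy => by
    rw [BV_g]; exact hB x hx y hy
  have Qf : ∀ (k : Orth Q8) {x : V8}, x ∈ P → qV (k.1 x) = 0 := fun k x hx => by
    rw [qV_g]; exact hq x hx
  obtain ⟨a, ha, ha0⟩ := big {0} (by decide) 1
  rw [one_apply, Finset.mem_singleton] at ha0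
  obtain ⟨g1, hg1, hga⟩ := ev_transitive (hq a ha) ha0
  have hk1 : (g1⁻¹).1 a = u0 := by rw [← hga, inv_apply_self]
  obtain ⟨b, hb, hb0⟩ := big {0, u0} (by decide) g1⁻¹
  have hb2 : ((g1⁻¹).1 b).2.1 = 0 := perp_snd (by rw [← hk1]; exact B _ hb ha)
  have hbW : ((g1⁻¹).1 b).2.2 ≠ 0 := fun e => hb0 (by
    rw [Finset.mem_insert, Finset.mem_singleton]
    rcases zcases ((g1⁻¹).1 b).1 with h | h
    · exact Or.inl (Prod.ext h (Prod.ext hb2 e))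
    · exact Or.inr (Prod.ext h (Prod.ext hb2 e)))
  obtain ⟨p, hp, q, hpq, he1⟩ := (by decide +kernel : ∀ v : W6, qW v = 0 → v ≠ 0 →
    ∃ a, qW a = 1 ∧ ∃ b, qW b = 1 ∧ rw6 a (rw6 b v) = e1) _
    (by rw [← qV_split hb2]; exact Qf _ hb) hbW
  set k2 := rr p q * g1⁻¹ with hk2
  have hk2E : k2 ∈ Ev := mul_mem (rr_mem' hp hpq) (inv_mem hg1)
  have hu2 : k2.1 a = u0 := by rw [hk2, mul_apply, hk1, (rr_ext hp hpq).hu]
  have hb' : k2.1 b = (((g1⁻¹).1 b).1, 0, e1) := by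
    rw [hk2, mul_apply, show (g1⁻¹).1 b = (((g1⁻¹).1 b).1, ((g1⁻¹).1 b).2.1, ((g1⁻¹).1 b).2.2) from rfl,
      (rr_ext hp hpq).apply, hb2, he1]
  have hin : ∀ (k : Orth Q8) (x y : V8), x ∈ P → y ∈ P → ∃ z ∈ P, k.1 z = k.1 x + k.1 y :=
    fun k x y hx hy => ⟨x + y, hadd x hx y hy, g_add k x y⟩
  obtain ⟨b1, hb1, hbe⟩ : ∃ b1 ∈ P, k2.1 b1 = emb e1 := by
    rcases zcases ((g1⁻¹).1 b).1 with h | h
    · exact ⟨b, hb, by rw [hb', h]; rfl⟩
    · obtain ⟨z, hz, e⟩ := hin k2 b a hb ha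
      exact ⟨z, hz, by rw [e, hb', hu2, h]; decide⟩
  obtain ⟨c, hc, hc0⟩ := big {0, u0, emb e1, u0 + emb e1} (by decide) k2
  have hc2 : (k2.1 c).2.1 = 0 := perp_snd (by rw [← hu2]; exact B _ hc ha)
  have hc1 : BW (k2.1 c).2.2 e1 = 0 := by
    have h := B k2 hc hb1
    rw [hbe, BV_split hc2 rfl] at h
    exact h
  have hcW : (k2.1 c).2.2 ≠ 0 ∧ (k2.1 c).2.2 ≠ e1 := by
    constructor <;> intro e <;> apply hc0 <;> simp only [Finset.mem_insert, Finset.mem_singleton] <;>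
      rw [show k2.1 c = ((k2.1 c).1, (k2.1 c).2.1, (k2.1 c).2.2) from rfl, hc2, e] <;>
      rcases zcases (k2.1 c).1 with h | h <;> rw [h] <;> decide
  obtain ⟨p', hp', q', hpq', hfix, he2⟩ := (by decide +kernel : ∀ v : W6, qW v = 0 → BW v e1 = 0 →
    v ≠ 0 ∧ v ≠ e1 → ∃ a, qW a = 1 ∧ ∃ b, qW b = 1 ∧ rw6 a (rw6 b e1) = e1 ∧
      (rw6 a (rw6 b v) = e2 ∨ rw6 a (rw6 b v) = e1 + e2)) _
    (by rw [← qV_split hc2]; exact Qf _ hc) hc1 hcW
  set k := rr p' q' * k2 with hk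
  have hkE : k ∈ Ev := mul_mem (rr_mem' hp' hpq') hk2E
  have hu : k.1 a = u0 := by rw [hk, mul_apply, hu2, (rr_ext hp' hpq').hu]
  have hE1 : k.1 b1 = emb e1 := by
    rw [hk, mul_apply, hbe, show emb e1 = ((0 : ZMod 2), (0 : ZMod 2), e1) from rfl,
      (rr_ext hp' hpq').apply, hfix]
  have hE2 : ∃ c2 ∈ P, k.1 c2 = emb e2 := by
    have hkc : k.1 c = ((k2.1 c).1, 0, rw6 p' (rw6 q' (k2.1 c).2.2)) := by
      rw [hk, mul_apply, show k2.1 c = ((k2.1 c).1, (k2.1 c).2.1, (k2.1 c).2.2) from rfl,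
        (rr_ext hp' hpq').apply, hc2]
    obtain ⟨z, hz, e⟩ := hin k c a hc ha
    obtain ⟨z', hz', e'⟩ := hin k c b1 hc hb1
    obtain ⟨z'', hz'', e''⟩ := hin k z b1 hz hb1
    rw [hu] at e
    rw [hE1] at e' e''
    rcases zcases (k2.1 c).1 with h | h <;> rcases he2 with h' | h' <;> rw [h, h'] at hkc
    · exact ⟨c, hc, hkc⟩
    · exact ⟨z', hz', by rw [e', hkc]; decide⟩
    · exact ⟨z, hz, by rw [e, hkc]; decide⟩
    · exact ⟨z'', hz'', by rw [e'', e, hkc]; decide⟩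
  obtain ⟨c2, hc2P, hc2e⟩ := hE2
  let span8 : Finset V8 := {0, u0, emb e1, u0 + emb e1, emb e2, u0 + emb e2, emb e1 + emb e2, u0 + emb e1 + emb e2}
  obtain ⟨d, hd, hd0⟩ := big span8 (by decide) k
  have hperp : ∀ x ∈ P, BV (k.1 x) u0 = 0 ∧ BV (k.1 x) (emb e1) = 0 ∧ BV (k.1 x) (emb e2) = 0 :=
    fun x hx => ⟨hu ▸ B k hx ha, hE1 ▸ B k hx hb1, hc2e ▸ B k hx hc2P⟩
  have hd' := (by decide +kernel : ∀ v : V8, qV v = 0 →
      BV v u0 = 0 ∧ BV v (emb e1) = 0 ∧ BV v (emb e2) = 0 →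
      v ∉ ({0, u0, emb e1, u0 + emb e1, emb e2, u0 + emb e2, emb e1 + emb e2,
        u0 + emb e1 + emb e2} : Finset V8) →
      ∃ α β γ : ZMod 2, v + (α • u0 + β • emb e1 + γ • emb e2) = emb e3 ∨
        v + (α • u0 + β • emb e1 + γ • emb e2) = emb f3) _ (Qf k hd) (hperp d hd) hd0
  obtain ⟨α, β, γ, hd'⟩ := hd'
  obtain ⟨d', hd'P, hd'e⟩ : ∃ d' ∈ P, k.1 d' = k.1 d + (α • u0 + β • emb e1 + γ • emb e2) := by
    have hs : ∀ (t : ZMod 2) {x : V8}, x ∈ P → t • x ∈ P := fun t x hx => by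
      rcases zcases t with rfl | rfl
      · rw [zero_smul]; exact h0
      · rw [one_smul]; exact hx
    exact ⟨d + (α • a + β • b1 + γ • c2),
      hadd _ hd _ (hadd _ (hadd _ (hs _ ha) _ (hs _ hb1)) _ (hs _ hc2P)),
      by simp only [map_add, map_smul, hu, hE1, hc2e]⟩
  refine ⟨k, hkE, ?_⟩
  rcases hd' with e | e <;> rw [e] at hd'e
  · refine Or.inl fun x hx => (by decide +kernel : ∀ v : V8, qV v = 0 →
      BV v u0 = 0 ∧ BV v (emb e1) = 0 ∧ BV v (emb e2) = 0 → BV v (emb e3) = 0 → InW v) _ (Qf k hx) (hperp x hx)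
      (hd'e ▸ B k hx hd'P)
  · refine Or.inr fun x hx => (by decide +kernel : ∀ v : V8, qV v = 0 →
      BV v u0 = 0 ∧ BV v (emb e1) = 0 ∧ BV v (emb e2) = 0 → BV v (emb f3) = 0 → InW' v) _ (Qf k hx) (hperp x hx)
      (hd'e ▸ B k hx hd'P)

end CfsgLib.CoOneEleven
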