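import Cfsg.Agent.Lib.CoOneEleven.Frame
import Cfsg.Agent.Lib.CoOneEleven.Classify

/-!
The numbering of the elementary abelian subgroup of order `2 ^ 11` and its centralizer property.
-/

set_option autoImplicit false
set_option linter.style.haveILetI false
set_option synthInstance.maxSize 20000
set_option maxRecDepth 20000
set_option maxHeartbeats 1000000

namespace CfsgLib.CoOneEleven

open CfsgLib.Classical.Quad CfsgLib.CoOneType
open CfsgLib.LargeFischer CfsgLib.LargeFischer.Plane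

universe u

variable {G : Type u} [Group G]

/-- A bit of a number in the field with two elements. -/
def bz (n i : ℕ) : ZMod 2 := if n.testBit i then 1 else 0

/-- The displacement of a vector by the root transformations at the binary digits. -/
def delta (r : ℕ) (x : V8) : V8 :=
  let d (i : Fin 6) : V8 := bz r i.val • (BV x (wv (pI i)) • wv (pJ i) + BV x (wv (pJ i)) • wv (pI i))
  d 0 + (d 1 + (d 2 + (d 3 + (d 4 + d 5))))

theorem bz_rule (n : ℕ) (c : G) :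
    (bif Nat.beq (n % 2) 1 then c else 1) = pw c (bz n 0) := by
  rcases Nat.mod_two_eq_zero_or_one n with h | h <;>
    simp [h, bz, Nat.testBit_zero, pw, beq_zero_one]

theorem bz_div (n i : ℕ) : bz (n / 2) i = bz n (i + 1) := by simp [bz, Nat.testBit_succ]

section Cent

variable [Finite G] {S : Sys G} {s : G} {π : G → V8} (M : Model s (S.E s) π)

omit [Finite G] in
/-- The six bits of an action determine it. -/
theorem fix_action_ext {g g' : Orth Q8} (hg : ∀ i, g.1 (wv i) = wv i) (hg' : ∀ i, g'.1 (wv i) = wv i)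
    (h : ∀ i, BV (g.1 (dv (pI i))) (dv (pJ i)) = BV (g'.1 (dv (pI i))) (dv (pJ i))) : g = g' := by
  have hkey : ∀ (k : Orth Q8), (∀ i, k.1 (wv i) = wv i) → ∀ i, InW (k.1 (dv i) + dv i) ∧
      BV (k.1 (dv i) + dv i) (dv i) = 0 ∧
      ∀ j, BV (k.1 (dv i) + dv i) (dv j) = BV (k.1 (dv j) + dv j) (dv i) := fun k hk i => by
    have hin : ∀ i, InW (k.1 (dv i) + dv i) := fun i => inW_of_perp fun l => by
      rw [BV_add_left]
      conv_lhs => arg 1; rw [← hk l, BV_g]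
      exact CharTwo.add_self_eq_zero _
    refine ⟨hin i, ?_, fun j => ?_⟩
    · have h := qV_add (k.1 (dv i) + dv i) (dv i)
      rw [add_assoc, v8_add_self, add_zero, qV_g, (hin i).qV_eq, (wv_facts.1 i).2.2.1, zero_add, zero_add] at h
      exact h.symm
    · have h0 := (hin i).perp (hin j)
      simp only [BV_add_left, BV_add_right, BV_g, (wv_facts.2.1 i j).2.1, add_zero, zero_add] at h0
      simp only [BV_add_left, (wv_facts.2.1 i j).2.1, (wv_facts.2.1 j i).2.1, add_zero]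
      rw [BV_comm (k.1 (dv j))]
      exact zadd.1 (by rw [add_comm] at h0; exact h0)
  have hd : ∀ i, g.1 (dv i) = g'.1 (dv i) := fun i => by
    obtain ⟨h1, h1d, h1s⟩ := hkey g hg i
    obtain ⟨h2, h2d, h2s⟩ := hkey g' hg' i
    have hz : g.1 (dv i) + dv i + (g'.1 (dv i) + dv i) = 0 := by
      refine dv_coords _ (h1.add h2) fun j => ?_
      rw [BV_add_left, zadd]
      rcases (by decide : ∀ i j : Fin 4, i = j ∨ (∃ l, pI l = i ∧ pJ l = j) ∨ ∃ l, pI l = j ∧ pJ l = i) i j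
        with rfl | ⟨l, rfl, rfl⟩ | ⟨l, rfl, rfl⟩
      · rw [h1d, h2d]
      · rw [BV_add_left, BV_add_left, h l]
      · rw [h1s, h2s, BV_add_left, BV_add_left, h l]
    have := zadd_v8.1 hz
    exact add_right_cancel this
  refine ext8 ((hg 0).trans (hg' 0).symm) (hd 0) fun x => ?_
  obtain ⟨a1, a2, a3, a4, a5, a6⟩ := x
  have e : emb ((a1, a2, a3, a4, a5, a6) : W6) =
      a1 • wv 1 + a2 • dv 1 + a3 • wv 2 + a4 • dv 2 + a5 • wv 3 + a6 • dv 3 := by
    simp [wv, dv, emb, e1, f1, e2, f2, e3, f3, Prod.ext_iff]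
  rw [e]
  simp only [map_add, map_smul, hg, hg', hd]

/-- The centralizer of the subgroup over the totally singular space. -/
noncomputable def cent : Subgroup G := Subgroup.centralizer (p5 M : Set G)

theorem mem_cent {c : G} : c ∈ cent M ↔ Fix M c :=
  ⟨fun h q hq => (Subgroup.mem_centralizer_iff.1 h q hq).symm,
    fun h => Subgroup.mem_centralizer_iff.2 fun q hq => (h q hq).symm⟩

theorem card_p5_le : Nat.card (p5 M) ≤ 32 := by
  classical
  choose q hq hπ using fun a : Fin 16 => M.surj (wOf a)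
  have h : Function.Surjective fun e : Fin 16 × ZMod 2 =>
      if hm : q e.1 * pw s e.2 ∈ p5 M then (⟨_, hm⟩ : p5 M) else 1 := by
    rintro ⟨x, hx, hxW⟩
    obtain ⟨a, ha⟩ := inW_wOf (π x) hxW
    rcases M.eq_of_map hx (hq a) (ha.symm.trans (hπ a).symm) with e | e
    · refine ⟨(a, 0), ?_⟩
      simp only [pw_zero, mul_one]
      rw [dif_pos (show q a ∈ p5 M from e ▸ ⟨hx, hxW⟩)]
      exact Subtype.ext e.symm
    · refine ⟨(a, 1), ?_⟩
      simp only [pw_one]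
      rw [dif_pos (show q a * s ∈ p5 M from e ▸ ⟨hx, hxW⟩)]
      exact Subtype.ext e.symm
  simpa using Nat.card_le_card_of_surjective _ h

theorem card_cent_le : Nat.card (cent M) ≤ 2048 := by
  classical
  choose act hact using fun c : cent M => M.act c.1 ((mem_cent M).1 c.2).comm_s
  have hfix : ∀ c i, (act c).1 (wv i) = wv i := fun c i => by
    obtain ⟨q, hq, hπ⟩ := M.surj (wv i)
    rw [← hπ, ← (hact c).2.2 q hq,
      conj_eq_iff_commute.2 ((mem_cent M).1 c.2 q ⟨hq, by rw [hπ]; exact (wv_facts.1 i).1⟩)]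
  let code : cent M → (Fin 6 → ZMod 2) := fun c i => BV ((act c).1 (dv (pI i))) (dv (pJ i))
  let rep : cent M → cent M := fun c => Function.invFun code (code c)
  have hrep : ∀ c, code (rep c) = code c := fun c => Function.invFun_eq ⟨c, rfl⟩
  have hdiff : ∀ c, (rep c).1⁻¹ * c.1 ∈ p5 M := fun c =>
    adjust M ((mem_cent M).1 (rep c).2) ((mem_cent M).1 c.2) (hact (rep c)).2
      ((fix_action_ext (hfix _) (hfix _) fun i => congrFun (hrep c) i) ▸ (hact c).2)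
  have hinj : Function.Injective fun c => (code c, (⟨_, hdiff c⟩ : p5 M)) := fun c c' h => by
    simp only [Prod.mk.injEq, Subtype.mk.injEq] at h
    have e : rep c = rep c' := congrArg (Function.invFun code) h.1
    exact Subtype.ext (mul_left_cancel (h.2.trans (by rw [e])))
  refine (Nat.card_le_card_of_injective _ hinj).trans ?_
  rw [Nat.card_prod, Nat.card_fun, Nat.card_zmod, Nat.card_fin]
  have := card_p5_le M
  norm_num
  omega

end Cent

namespace Frame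

variable [Finite G] {S : Sys G} {s : G} (F : Frame S s)

/-- The eleven generators. -/
def cs : List G :=
  [s, F.qv 0, F.qv 1, F.qv 2, F.qv 3, F.y 0, F.y 1, F.y 2, F.y 3, F.y 4, F.y 5]

/-- The numbering. -/
def θ (n : ℕ) : G := apG F.cs n

theorem qv_p5 (i : Fin 4) : F.qv i ∈ p5 F.M := ⟨F.qv_mem i, by rw [F.qv_π]; exact (wv_facts.1 i).1⟩

theorem mem_cs {c : G} (hc : c ∈ F.cs) : c = s ∨ (∃ i, c = F.qv i) ∨ ∃ i, c = F.y i := by
  simp only [cs, List.mem_cons, List.not_mem_nil, or_false] at hc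
  rcases hc with h | h | h | h | h | h | h | h | h | h | h
  exacts [Or.inl h, Or.inr (Or.inl ⟨_, h⟩), Or.inr (Or.inl ⟨_, h⟩), Or.inr (Or.inl ⟨_, h⟩),
    Or.inr (Or.inl ⟨_, h⟩), Or.inr (Or.inr ⟨_, h⟩), Or.inr (Or.inr ⟨_, h⟩), Or.inr (Or.inr ⟨_, h⟩),
    Or.inr (Or.inr ⟨_, h⟩), Or.inr (Or.inr ⟨_, h⟩), Or.inr (Or.inr ⟨_, h⟩)]

theorem cs_fix {c : G} (hc : c ∈ F.cs) : Fix F.M c := by
  rcases F.mem_cs hc with rfl | ⟨i, rfl⟩ | ⟨i, rfl⟩
  exacts [fix_of_mem F.M (self_mem_p5 F.M), fix_of_mem F.M (F.qv_p5 i), F.y_fix i]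

/-- The subgroup of order `2 ^ 11`. -/
def A : Subgroup G := Subgroup.closure {c | c ∈ F.cs}

theorem cs_comm {a b : G} (ha : a ∈ F.cs) (hb : b ∈ F.cs) : Commute a b := by
  rcases F.mem_cs ha with rfl | ⟨i, rfl⟩ | ⟨i, rfl⟩
  · exact ((F.cs_fix hb).comm_s).symm
  · exact ((F.cs_fix hb) _ (F.qv_p5 i)).symm
  · rcases F.mem_cs hb with rfl | ⟨j, rfl⟩ | ⟨j, rfl⟩
    exacts [(F.y_fix i).comm_s, F.y_fix i _ (F.qv_p5 j), F.y_comm i j]

theorem A_comm : ∀ a ∈ F.A, ∀ b ∈ F.A, a * b = b * a := by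
  have h1 : ∀ a ∈ F.cs, ∀ b ∈ F.A, Commute a b := fun a ha b hb =>
    Subgroup.closure_induction (fun x hx => F.cs_comm ha hx) (Commute.one_right a)
      (fun _ _ _ _ h h' => h.mul_right h') (fun _ _ h => h.inv_right) hb
  intro a ha b hb
  exact (Subgroup.closure_induction (p := fun x _ => Commute b x) (fun x hx => (h1 x hx b hb).symm) (Commute.one_right b)
    (fun _ _ _ _ h h' => h.mul_right h') (fun _ _ h => h.inv_right) ha).symm

theorem A_sq : ∀ a ∈ F.A, a * a = 1 := by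
  intro a ha
  refine Subgroup.closure_induction (p := fun x _ => x * x = 1) (fun x hx => ?_) (one_mul 1)
    (fun x y hx hy h h' => ?_) (fun x _ h => by rw [← mul_inv_rev, h, inv_one]) ha
  · rcases F.mem_cs hx with rfl | ⟨i, rfl⟩ | ⟨i, rfl⟩
    · exact F.M.sq_one
    · exact (F.M.sq_eq_one (F.qv_mem i)).2 (F.qv_p5 i).2.qV_eq
    · exact F.y_sq i
  · rw [mul_assoc, ← mul_assoc y, F.A_comm y hy x hx, mul_assoc x y, h', mul_one, h]

theorem cs_mem {c : G} (hc : c ∈ F.cs) : c ∈ F.A := Subgroup.subset_closure hc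

theorem θ_mem (n : ℕ) : F.θ n ∈ F.A := apG_mem (fun _ hc => F.cs_mem hc) n

theorem θ_xor (a b : ℕ) : F.θ (a ^^^ b) = F.θ a * F.θ b :=
  apG_xor F.A_comm F.A_sq (fun _ hc => F.cs_mem hc) a b

theorem θ_zero : F.θ 0 = 1 := apG_zero _

theorem θ_two_pow (k : ℕ) : F.θ (2 ^ k) = F.cs.getD k 1 := apG_two_pow _ k

theorem θ_surj {a : G} (ha : a ∈ F.A) : ∃ n < 2048, F.θ n = a := by
  refine Subgroup.closure_induction (p := fun x _ => ∃ n < 2048, F.θ n = x) (fun x hx => ?_)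
    ⟨0, by norm_num, F.θ_zero⟩ ?_ ?_ ha
  · obtain ⟨k, hk, e⟩ := List.getElem_of_mem hx
    refine ⟨2 ^ k, ?_, ?_⟩
    · have : k < 11 := by simpa [cs] using hk
      exact Nat.pow_lt_pow_right (by norm_num) this |>.trans_le (by norm_num)
    · rw [F.θ_two_pow, List.getD_eq_getElem _ _ hk, e]
  · rintro x y - - ⟨m, hm, rfl⟩ ⟨n, hn, rfl⟩
    exact ⟨m ^^^ n, Nat.xor_lt_two_pow (n := 11) hm hn, F.θ_xor m n⟩
  · rintro x - ⟨m, hm, rfl⟩
    exact ⟨m, hm, (inv_eq_of_mul_eq_one_left (F.A_sq _ (F.θ_mem m))).symm⟩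

theorem θ_fix (n : ℕ) : Fix F.M (F.θ n) :=
  (mem_cent F.M).1 (apG_mem (fun _ hc => (mem_cent F.M).2 (F.cs_fix hc)) n)

/-- The part over the totally singular space and the part from the root elements. -/
theorem θ_split (n : ℕ) : F.θ n =
    (pw s (bz n 0) * (pw (F.qv 0) (bz n 1) * (pw (F.qv 1) (bz n 2) * (pw (F.qv 2) (bz n 3) *
      pw (F.qv 3) (bz n 4))))) *
    (pw (F.y 0) (bz n 5) * (pw (F.y 1) (bz n 6) * (pw (F.y 2) (bz n 7) * (pw (F.y 3) (bz n 8) *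
      (pw (F.y 4) (bz n 9) * pw (F.y 5) (bz n 10)))))) := by
  simp only [θ, cs, apG, bz_rule, bz_div, mul_one, mul_assoc]

theorem low_mem (n : ℕ) : pw s (bz n 0) * (pw (F.qv 0) (bz n 1) * (pw (F.qv 1) (bz n 2) * (pw (F.qv 2) (bz n 3) *
      pw (F.qv 3) (bz n 4)))) ∈ p5 F.M ∧
    F.π (pw s (bz n 0) * (pw (F.qv 0) (bz n 1) * (pw (F.qv 1) (bz n 2) * (pw (F.qv 2) (bz n 3) *
      pw (F.qv 3) (bz n 4))))) = wOf (n / 2) := by
  have hm : ∀ i c, pw (F.qv i) c ∈ S.E s := fun i c => by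
    unfold pw; split_ifs; exacts [(S.E s).one_mem, F.qv_mem i]
  have hp : ∀ i c, F.π (pw (F.qv i) c) = c • wv i := fun i c => by
    rcases zcases c with rfl | rfl
    · rw [pw_zero, F.M.map_one, zero_smul]
    · rw [pw_one, F.qv_π, one_smul]
  have hπ : F.π (pw s (bz n 0) * (pw (F.qv 0) (bz n 1) * (pw (F.qv 1) (bz n 2) * (pw (F.qv 2) (bz n 3) *
      pw (F.qv 3) (bz n 4))))) = wOf (n / 2) := by
    rw [F.M.map_mul _ (F.M.pw_mem _) _ ((S.E s).mul_mem (hm _ _) ((S.E s).mul_mem (hm _ _)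
        ((S.E s).mul_mem (hm _ _) (hm _ _)))),
      F.M.map_mul _ (hm _ _) _ ((S.E s).mul_mem (hm _ _) ((S.E s).mul_mem (hm _ _) (hm _ _))),
      F.M.map_mul _ (hm _ _) _ ((S.E s).mul_mem (hm _ _) (hm _ _)), F.M.map_mul _ (hm _ _) _ (hm _ _),
      F.M.map_pw, zero_add, hp, hp, hp, hp]
    simp only [wOf, bz, Nat.testBit_succ, add_assoc]
  refine ⟨⟨(S.E s).mul_mem (F.M.pw_mem _) ((S.E s).mul_mem (hm _ _) ((S.E s).mul_mem (hm _ _)
    ((S.E s).mul_mem (hm _ _) (hm _ _)))), ?_⟩, hπ⟩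
  rw [hπ]
  exact (((((wv_facts.1 0).1).smul _).add (((wv_facts.1 1).1).smul _)).add (((wv_facts.1 2).1).smul _)).add
    (((wv_facts.1 3).1).smul _)

theorem θ_p5 {n : ℕ} (hn : n < 32) : F.θ n ∈ p5 F.M ∧ F.π (F.θ n) = wOf (n / 2) := by
  have h : ∀ j, 5 ≤ j → bz n j = 0 := fun j hj => by
    rw [bz, if_neg]
    rw [Nat.testBit_lt_two_pow (lt_of_lt_of_le hn (le_trans (by norm_num) (Nat.pow_le_pow_right (by norm_num) hj)))]
    simp
  rw [θ_split, h 5 le_rfl, h 6 (by norm_num), h 7 (by norm_num), h 8 (by norm_num), h 9 (by norm_num),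
    h 10 (by norm_num)]
  simpa [pw_zero] using F.low_mem n

theorem p5_num {q : G} (hq : q ∈ p5 F.M) : ∃ n < 32, F.θ n = q := by
  obtain ⟨a, ha⟩ := inW_wOf _ hq.2
  obtain ⟨h1, h2⟩ := F.θ_p5 (n := 2 * a.val) (by omega)
  have h : F.π q = F.π (F.θ (2 * a.val)) := by rw [h2, ← ha, Nat.mul_div_cancel_left _ (by norm_num : 0 < 2)]
  rcases F.M.eq_of_map hq.1 h1.1 h with e | e
  · exact ⟨2 * a.val, by omega, e.symm⟩
  · refine ⟨2 * a.val ^^^ 1, (Nat.xor_lt_two_pow (n := 5) (by omega) (by norm_num)), ?_⟩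
    rw [F.θ_xor, e]
    exact congrArg _ (F.θ_two_pow 0)

/-- The action on the coordinates. -/
theorem θ_act (n : ℕ) {q : G} (hq : q ∈ S.E s) :
    F.π (F.θ n * q * (F.θ n)⁻¹) = F.π q + delta (n / 32) (F.π q) := by
  have hstep : ∀ (i : Fin 6) (c : ZMod 2) {x : G}, x ∈ S.E s →
      pw (F.y i) c * x * (pw (F.y i) c)⁻¹ ∈ S.E s ∧ F.π (pw (F.y i) c * x * (pw (F.y i) c)⁻¹) =
        F.π x + c • (BV (F.π x) (wv (pI i)) • wv (pJ i) + BV (F.π x) (wv (pJ i)) • wv (pI i)) := by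
    intro i c x hx
    rcases zcases c with rfl | rfl
    · rw [pw_zero, one_mul, inv_one, mul_one, zero_smul, add_zero]; exact ⟨hx, rfl⟩
    · rw [pw_one, one_smul, F.y_act i x hx, rootMap, add_assoc]
      exact ⟨F.M.normal _ (F.y_fix i).comm_s x hx, rfl⟩
  obtain ⟨h5, e5⟩ := hstep 5 (bz n 10) hq
  obtain ⟨h4, e4⟩ := hstep 4 (bz n 9) h5
  obtain ⟨h3, e3⟩ := hstep 3 (bz n 8) h4
  obtain ⟨h2, e2⟩ := hstep 2 (bz n 7) h3
  obtain ⟨h1, e1⟩ := hstep 1 (bz n 6) h2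
  obtain ⟨h0, e0⟩ := hstep 0 (bz n 5) h1
  have hlow := F.low_mem n
  have e : F.θ n * q * (F.θ n)⁻¹ = (pw s (bz n 0) * (pw (F.qv 0) (bz n 1) * (pw (F.qv 1) (bz n 2) *
      (pw (F.qv 2) (bz n 3) * pw (F.qv 3) (bz n 4))))) *
      (pw (F.y 0) (bz n 5) * (pw (F.y 1) (bz n 6) * (pw (F.y 2) (bz n 7) * (pw (F.y 3) (bz n 8) *
        (pw (F.y 4) (bz n 9) * (pw (F.y 5) (bz n 10) * q * (pw (F.y 5) (bz n 10))⁻¹) *
        (pw (F.y 4) (bz n 9))⁻¹) * (pw (F.y 3) (bz n 8))⁻¹) * (pw (F.y 2) (bz n 7))⁻¹) *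
        (pw (F.y 1) (bz n 6))⁻¹) * (pw (F.y 0) (bz n 5))⁻¹) *
      (pw s (bz n 0) * (pw (F.qv 0) (bz n 1) * (pw (F.qv 1) (bz n 2) *
      (pw (F.qv 2) (bz n 3) * pw (F.qv 3) (bz n 4)))))⁻¹ := by
    rw [θ_split]; group
  rw [e, F.M.map_conj hlow.1.1 h0, e0, e1, e2, e3, e4, e5]
  have hW : ∀ (x : V8) (c a b : ZMod 2) (i j k : Fin 4), BV (x + c • (a • wv i + b • wv j)) (wv k) = BV x (wv k) :=
    fun x c a b i j k => by
      rw [BV_add_left, ((((wv_facts.1 i).1).smul a).add (((wv_facts.1 j).1).smul b)).smul c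
        |>.perp (wv_facts.1 k).1, add_zero]
  have hb : ∀ i, bz (n / 32) i = bz n (i + 5) := fun i => by
    rw [bz, bz, show (32 : ℕ) = 2 ^ 5 from rfl, ← Nat.shiftRight_eq_div_pow, Nat.testBit_shiftRight, add_comm 5]
  simp only [hW, delta, hb, Fin.val_zero, show ((1 : Fin 6) : ℕ) = 1 from rfl,
    show ((2 : Fin 6) : ℕ) = 2 from rfl, show ((3 : Fin 6) : ℕ) = 3 from rfl,
    show ((4 : Fin 6) : ℕ) = 4 from rfl, show ((5 : Fin 6) : ℕ) = 5 from rfl, Nat.reduceAdd]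
  abel

theorem θ_ker {n : ℕ} (hn : n < 2048) (h : F.θ n = 1) : n = 0 := by
  have hd : ∀ i : Fin 4, delta (n / 32) (dv i) = 0 := fun i => by
    have e := F.θ_act n (F.qd_mem i)
    rw [h, one_mul, inv_one, mul_one, F.qd_π] at e
    exact (left_eq_add.1 e)
  have h32 : n / 32 = 0 :=
    (by decide +kernel : ∀ r : Fin 64, (∀ i : Fin 4, delta r.val (dv i) = 0) → r.val = 0) ⟨n / 32, by omega⟩ hd
  obtain ⟨h1, h2⟩ := F.θ_p5 (n := n) (by omega)
  rw [h, F.M.map_one] at h2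
  have h3 : n / 2 = 0 := (congrArg Fin.val (wOf_inj ⟨n / 2, by omega⟩ 0
    (h2.symm.trans (by decide : (0 : V8) = wOf 0)))).trans rfl
  rcases Nat.lt_or_ge n 1 with h4 | h4
  · omega
  · obtain rfl : n = 1 := by omega
    rw [show (1 : ℕ) = 2 ^ 0 from rfl, F.θ_two_pow] at h
    exact absurd h F.M.ne_one

theorem θ_inj {a b : ℕ} (ha : a < 2048) (hb : b < 2048) (h : F.θ a = F.θ b) : a = b := by
  have h' : F.θ (a ^^^ b) = 1 := by rw [F.θ_xor, h, F.A_sq _ (F.θ_mem b)]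
  exact Nat.xor_eq_zero_iff.1 (F.θ_ker (Nat.xor_lt_two_pow (n := 11) ha hb) h')

theorem card_A : Nat.card F.A = 2048 := by
  have h : Function.Bijective fun n : Fin 2048 => (⟨F.θ n.val, F.θ_mem _⟩ : F.A) :=
    ⟨fun a b e => Fin.ext (F.θ_inj a.isLt b.isLt (congrArg Subtype.val e)), fun a => by
      obtain ⟨n, hn, e⟩ := F.θ_surj a.2
      exact ⟨⟨n, hn⟩, Subtype.ext e⟩⟩
  rw [← Nat.card_congr (Equiv.ofBijective _ h), Nat.card_fin]

theorem A_le_cent : F.A ≤ cent F.M :=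
  (Subgroup.closure_le _).2 fun _ hc => (mem_cent F.M).2 (F.cs_fix hc)

/-- The subgroup is the centralizer of the subgroup over the totally singular space. -/
theorem cent_eq : cent F.M = F.A :=
  (Subgroup.eq_of_le_of_card_ge F.A_le_cent (by rw [card_A]; exact card_cent_le F.M)).symm

theorem mem_A_iff {c : G} : c ∈ F.A ↔ Fix F.M c := by rw [← F.cent_eq, mem_cent]

theorem p5_le : p5 F.M ≤ F.A := fun _ hq => F.mem_A_iff.2 (fix_of_mem F.M hq)

end Frame

end CfsgLib.CoOneEleven
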