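import Cfsg.Agent.Lib.CoOneEleven.Lifts
import Cfsg.Agent.Lib.CoOneEleven.Checks
import Cfsg.Agent.Lib.LargeFischer.ThompsonProduct

/-!
A basis of the elementary abelian subgroup of order `2 ^ 11` adapted to the dual vectors.
-/

set_option autoImplicit false
set_option linter.style.haveILetI false
set_option synthInstance.maxSize 20000
set_option maxRecDepth 20000
set_option maxHeartbeats 1000000

namespace CfsgLib.CoOneEleven

open CfsgLib.Classical.Quad CfsgLib.CoOneType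

universe u

variable {G : Type u} [Group G] [Finite G]

/-- The coordinates, the lifts of the two bases and the root elements of the six lines. -/
structure Frame (S : Sys G) (s : G) where
  π : G → V8
  M : Model s (S.E s) π
  hK : S.K s
  qv : Fin 4 → G
  qd : Fin 4 → G
  y : Fin 6 → G
  qv_mem : ∀ i, qv i ∈ S.E s
  qv_π : ∀ i, π (qv i) = wv i
  qd_mem : ∀ i, qd i ∈ S.E s
  qd_π : ∀ i, π (qd i) = dv i
  y_sq : ∀ i, y i * y i = 1
  y_fix : ∀ i, Fix M (y i)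
  y_act : ∀ i, ∀ q ∈ S.E s, π (y i * q * (y i)⁻¹) = rootMap (wv (pI i)) (wv (pJ i)) (π q)
  y_conj : ∀ i k, qd k * y i * (qd k)⁻¹ =
    y i * (if k = pI i then qv (pJ i) else if k = pJ i then qv (pI i) else 1)
  y_comm : ∀ i j, Commute (y i) (y j)
  bad : ∃ x x', Fix (comp' M flipK) x ∧ Fix (comp' M flipK) x' ∧ ¬ Commute x x'

theorem rootMap_comm (a b x : V8) : rootMap a b x = rootMap b a x := by
  simp only [rootMap]; abel

variable {S : Sys G} {s : G}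

/-- The square relation forcing commutation on a third pair of opposite lines. -/
theorem comm_of_sum {π : G → V8} (M : Model s (S.E s) π) (hK : S.K s) {y : Fin 6 → G}
    (hsq : ∀ i, y i * y i = 1) (hfix : ∀ i, Fix M (y i))
    (hact : ∀ i, ∀ q ∈ S.E s, π (y i * q * (y i)⁻¹) = rootMap (wv (pI i)) (wv (pJ i)) (π q))
    {i j k l : Fin 6} (hij : Commute (y i) (y j)) (hik : Commute (y i) (y k)) (hil : Commute (y i) (y l))
    (hjl : Commute (y j) (y l)) (hkl : Commute (y k) (y l)) {a b : V8} (ha : InW a) (hb : InW b) (ha0 : a ≠ 0)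
    (hb0 : b ≠ 0) (hne : b ≠ a)
    (hmap : ∀ v, rootMap a b v = rootMap (wv (pI i)) (wv (pJ i)) (rootMap (wv (pI j)) (wv (pJ j))
      (rootMap (wv (pI k)) (wv (pJ k)) (rootMap (wv (pI l)) (wv (pJ l)) v)))) :
    Commute (y j) (y k) := by
  obtain ⟨qa, hqa, hπ⟩ := M.surj a
  obtain ⟨z, -, hzz, -, -, hzF, hza⟩ := exists_fix_root M hK ha hb ha0 hb0 hne hqa hπ
  set P := y i * (y j * (y k * y l)) with hP
  have hPF : Fix M P := (hfix i).mul M ((hfix j).mul M ((hfix k).mul M (hfix l)))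
  have hPa : ∀ q ∈ S.E s, π (z * q * z⁻¹) = π (P * q * P⁻¹) := fun q hq => by
    have hn := fun m => M.normal (y m) (hfix m).comm_s
    have m1 := hn l q hq
    have m2 := hn k _ m1
    have m3 := hn j _ m2
    rw [hza q hq, hmap, show P * q * P⁻¹ =
      y i * (y j * (y k * (y l * q * (y l)⁻¹) * (y k)⁻¹) * (y j)⁻¹) * (y i)⁻¹ by rw [hP]; group,
      hact i _ m3, hact j _ m2, hact k _ m1, hact l _ hq]
  have hp := adjust' M hzF hPF hPa
  have hPP : P * P = 1 := by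
    have e : P = z * (z⁻¹ * P) := by group
    have hc : Commute z (z⁻¹ * P) := hzF _ hp
    have h1 : z⁻¹ * P * (z⁻¹ * P) = 1 := (M.sq_eq_one hp.1).2 hp.2.qV_eq
    rw [e, mul_assoc, ← mul_assoc (z⁻¹ * P) z, ← hc.eq, mul_assoc z, h1, mul_one, hzz]
  have e1 : Commute (y i) (y j * (y k * y l)) := hij.mul_right (hik.mul_right hil)
  rw [hP, mul_assoc, ← mul_assoc (y j * (y k * y l)), ← e1.eq, mul_assoc (y i), ← mul_assoc, hsq i,
    one_mul, ← mul_assoc (y j)] at hPP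
  have e2 : Commute (y l) (y j * y k) := hjl.symm.mul_right hkl.symm
  rw [mul_assoc, ← mul_assoc (y l), e2.eq, mul_assoc _ (y l), hsq l, mul_one] at hPP
  have h1 : (y j)⁻¹ = y j := inv_eq_of_mul_eq_one_left (hsq j)
  have h2 : (y k)⁻¹ = y k := inv_eq_of_mul_eq_one_left (hsq k)
  have e3 := eq_inv_of_mul_eq_one_left hPP
  rwa [mul_inv_rev, h1, h2] at e3

/-- Frames exist. -/
theorem exists_frame' (hK : S.K s) : Nonempty (Frame S s) := by
  classical
  obtain ⟨π₀, M₀⟩ := S.model s hK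
  obtain ⟨π, M, hgood, hbad⟩ := exists_good M₀ hK
  choose qv hqv hqvπ using fun i => M.surj (wv i)
  choose qd hqd hqdπ using fun i => M.surj (dv i)
  choose y₀ hyE hysq _hyn _hyK hyF hya using fun i : Fin 6 => exists_fix_root M hK
    (a := wv (pI i)) (b := wv (pJ i)) (wv_facts.1 _).1 (wv_facts.1 _).1 (wv_facts.1 _).2.2.2
    (wv_facts.1 _).2.2.2 (wv_facts.2.2 i).symm (hqv (pI i)) (hqvπ (pI i))
  have hW : ∀ i, qv i ∈ p5 M := fun i => ⟨hqv i, by rw [hqvπ]; exact (wv_facts.1 i).1⟩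
  have hvv : ∀ i j, Commute (qv i) (qv j) := fun i j => fix_of_mem M (hW i) _ (hW j)
  have hv2 : ∀ i, qv i * qv i = 1 := fun i => (M.sq_eq_one (hqv i)).2 (by
    rw [hqvπ]; exact (wv_facts.1 i).2.1)
  -- commutators with the dual lifts
  have hd : ∀ i k, k ≠ pI i → k ≠ pJ i → qd k * y₀ i * (qd k)⁻¹ = y₀ i := fun i k h1 h2 => by
    refine conj_eq_iff_commute.2 (comm_of_mem M hK (a := wv (pI i)) (b := wv (pJ i)) (wv_facts.1 _).2.1
      (wv_facts.1 _).2.2.2 (wv_facts.2.1 _ _).1 (wv_facts.1 _).2.1 (hqv _) (hqvπ _) (hyE i) (hyF i).comm_s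
      (hya i) (hqd k) ?_ ?_).symm
    · rw [hqdπ, (wv_facts.2.1 _ _).2.2, if_neg h1]
    · rw [hqdπ, (wv_facts.2.1 _ _).2.2, if_neg h2]
  have hIJ : ∀ i, pI i ≠ pJ i := by decide
  have hkey : ∀ i k j, (k = pI i ∧ j = pJ i ∨ k = pJ i ∧ j = pI i) →
      ∃ ε : ZMod 2, qd k * y₀ i * (qd k)⁻¹ = y₀ i * (qv j * pw s ε) := fun i k j hkj => by
    set d := (y₀ i)⁻¹ * (qd k * y₀ i * (qd k)⁻¹) with hd'
    have hn : (y₀ i)⁻¹ * qd k * (y₀ i)⁻¹⁻¹ ∈ S.E s := M.normal _ (hyF i).comm_s.inv_left _ (hqd k)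
    have hdE : d ∈ S.E s := by
      rw [hd', show (y₀ i)⁻¹ * (qd k * y₀ i * (qd k)⁻¹) = (y₀ i)⁻¹ * qd k * (y₀ i)⁻¹⁻¹ * (qd k)⁻¹ by group]
      exact (S.E s).mul_mem hn ((S.E s).inv_mem (hqd k))
    have hdπ : π d = wv j := by
      rw [hd', show (y₀ i)⁻¹ * (qd k * y₀ i * (qd k)⁻¹) = (y₀ i)⁻¹ * qd k * (y₀ i)⁻¹⁻¹ * (qd k)⁻¹ by group,
        M.map_mul _ hn _ ((S.E s).inv_mem (hqd k)), M.map_inv (hqd k),
        inv_eq_of_mul_eq_one_left (hysq i), hya i _ (hqd k), hqdπ]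
      rcases hkj with ⟨rfl, rfl⟩ | ⟨rfl, rfl⟩
      · exact (by decide +kernel : ∀ i, rootMap (wv (pI i)) (wv (pJ i)) (dv (pI i)) + dv (pI i) = wv (pJ i)) i
      · exact (by decide +kernel : ∀ i, rootMap (wv (pI i)) (wv (pJ i)) (dv (pJ i)) + dv (pJ i) = wv (pI i)) i
    have he : qd k * y₀ i * (qd k)⁻¹ = y₀ i * d := by rw [hd']; group
    rcases M.eq_of_map hdE (hqv j) (by rw [hdπ, hqvπ]) with e | e
    · exact ⟨0, by rw [he, e, pw_zero, mul_one]⟩
    · exact ⟨1, by rw [he, e, pw_one]⟩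
  choose εI hεI using fun i => hkey i (pI i) (pJ i) (Or.inl ⟨rfl, rfl⟩)
  choose εJ hεJ using fun i => hkey i (pJ i) (pI i) (Or.inr ⟨rfl, rfl⟩)
  let ad : Fin 6 → G := fun i => pw (qv (pI i)) (εI i) * pw (qv (pJ i)) (εJ i)
  let y : Fin 6 → G := fun i => y₀ i * ad i
  have had : ∀ i, ad i ∈ p5 M := fun i => by
    refine mul_mem ?_ ?_ <;> (unfold pw; split_ifs)
    exacts [one_mem _, hW _, one_mem _, hW _]
  have hpwv : ∀ k j (c : ZMod 2), qd k * pw (qv j) c * (qd k)⁻¹ =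
      pw (qv j) c * pw s (c * (if k = j then 1 else 0)) := fun k j c => by
    rcases zcases c with rfl | rfl
    · simp [pw_zero]
    · rw [pw_one, M.conj_eq (hqd k) (hqv j), hqdπ, hqvπ, (wv_facts.2.1 _ _).2.2, one_mul]
  have hyc : ∀ i k, qd k * y i * (qd k)⁻¹ =
      y i * (if k = pI i then qv (pJ i) else if k = pJ i then qv (pI i) else 1) := fun i k => by
    show qd k * (y₀ i * (pw (qv (pI i)) (εI i) * pw (qv (pJ i)) (εJ i))) * (qd k)⁻¹ = _
    have e : qd k * (y₀ i * (pw (qv (pI i)) (εI i) * pw (qv (pJ i)) (εJ i))) * (qd k)⁻¹ =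
        (qd k * y₀ i * (qd k)⁻¹) * ((qd k * pw (qv (pI i)) (εI i) * (qd k)⁻¹) *
          (qd k * pw (qv (pJ i)) (εJ i) * (qd k)⁻¹)) := by group
    rw [e, hpwv, hpwv]
    have cs : ∀ (c : ZMod 2) (x : G), x ∈ p5 M → Commute (pw s c) x := fun c x hx =>
      fix_of_mem M ⟨M.pw_mem c, by rw [M.map_pw]; exact inW_zero⟩ x hx
    have hp : ∀ (c : ZMod 2) j, pw (qv j) c ∈ p5 M := fun c j => by
      unfold pw; split_ifs; exacts [one_mem _, hW _]
    have hs2 : ∀ c : ZMod 2, pw s c * pw s c = 1 := fun c => by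
      rw [← pw_add M.sq_one, CharTwo.add_self_eq_zero, pw_zero]
    rcases eq_or_ne k (pI i) with rfl | hI
    · rw [if_pos rfl, if_pos rfl, if_neg (hIJ i), mul_zero, pw_zero, mul_one, mul_one, hεI]
      show y₀ i * (qv (pJ i) * pw s (εI i)) * (pw (qv (pI i)) (εI i) * pw s (εI i) * pw (qv (pJ i)) (εJ i)) =
        y₀ i * (pw (qv (pI i)) (εI i) * pw (qv (pJ i)) (εJ i)) * qv (pJ i)
      have h1 : Commute (qv (pJ i)) (pw (qv (pI i)) (εI i) * pw (qv (pJ i)) (εJ i)) :=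
        fix_of_mem M (hW _) _ (mul_mem (hp _ _) (hp _ _))
      calc _ = y₀ i * (qv (pJ i) * ((pw s (εI i) * pw (qv (pI i)) (εI i)) * pw s (εI i)) *
            pw (qv (pJ i)) (εJ i)) := by simp only [mul_assoc]
        _ = y₀ i * (qv (pJ i) * (pw (qv (pI i)) (εI i) * (pw s (εI i) * pw s (εI i))) *
            pw (qv (pJ i)) (εJ i)) := by rw [(cs _ _ (hp _ _)).eq]; simp only [mul_assoc]
        _ = y₀ i * (qv (pJ i) * (pw (qv (pI i)) (εI i) * pw (qv (pJ i)) (εJ i))) := by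
          rw [hs2, mul_one]; simp only [mul_assoc]
        _ = _ := by rw [h1.eq]; simp only [mul_assoc]
    · rcases eq_or_ne k (pJ i) with rfl | hJ
      · rw [if_neg (hIJ i).symm, if_neg (hIJ i).symm, if_pos rfl, if_pos rfl, mul_zero, pw_zero, mul_one,
          mul_one, hεJ]
        show y₀ i * (qv (pI i) * pw s (εJ i)) * (pw (qv (pI i)) (εI i) * (pw (qv (pJ i)) (εJ i) * pw s (εJ i))) =
          y₀ i * (pw (qv (pI i)) (εI i) * pw (qv (pJ i)) (εJ i)) * qv (pI i)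
        have h1 : Commute (qv (pI i)) (pw (qv (pI i)) (εI i) * pw (qv (pJ i)) (εJ i)) :=
          fix_of_mem M (hW _) _ (mul_mem (hp _ _) (hp _ _))
        calc _ = y₀ i * (qv (pI i) * ((pw s (εJ i) * (pw (qv (pI i)) (εI i) * pw (qv (pJ i)) (εJ i))) *
              pw s (εJ i))) := by simp only [mul_assoc]
          _ = y₀ i * (qv (pI i) * (pw (qv (pI i)) (εI i) * pw (qv (pJ i)) (εJ i) *
              (pw s (εJ i) * pw s (εJ i)))) := by
            rw [(cs _ _ (mul_mem (hp _ _) (hp _ _))).eq]; simp only [mul_assoc]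
          _ = _ := by rw [hs2, mul_one, h1.eq]; simp only [mul_assoc]
      · rw [if_neg hI, if_neg hJ, if_neg hI, if_neg hJ, mul_zero, mul_zero, pw_zero, mul_one, mul_one, mul_one,
          hd i k hI hJ]
  have hyF' : ∀ i, Fix M (y i) := fun i => (hyF i).mul M (fix_of_mem M (had i))
  have hya' : ∀ i, ∀ q ∈ S.E s, π (y i * q * (y i)⁻¹) = rootMap (wv (pI i)) (wv (pJ i)) (π q) :=
    fun i q hq => by
      rw [show y i * q * (y i)⁻¹ = y₀ i * (ad i * q * (ad i)⁻¹) * (y₀ i)⁻¹ by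
          show y₀ i * ad i * q * (y₀ i * ad i)⁻¹ = _; group,
        hya i _ (M.normal _ ((fix_of_mem M (had i)).comm_s) q hq), M.map_conj (had i).1 hq]
  have hy2 : ∀ i, y i * y i = 1 := fun i => by
    show y₀ i * ad i * (y₀ i * ad i) = 1
    rw [mul_assoc, ← mul_assoc (ad i), ← (hyF i _ (had i)).eq, mul_assoc (y₀ i),
      (M.sq_eq_one (had i).1).2 (had i).2.qV_eq, mul_one, hysq]
  have meet : ∀ i j (a b c : Fin 4), (pI i = a ∧ pJ i = b ∨ pI i = b ∧ pJ i = a) →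
      (pI j = a ∧ pJ j = c ∨ pI j = c ∧ pJ j = a) → a ≠ b → a ≠ c → Commute (y i) (y j) := by
    intro i j a b c h1 h2 hab hac
    have hne : ∀ {p q : Fin 4}, p ≠ q → wv q ≠ wv p :=
      fun {p q} h => (by decide : ∀ p q : Fin 4, p ≠ q → wv q ≠ wv p) p q h
    refine comm_meet M hK (wv_facts.1 a).1 (wv_facts.1 b).1 (wv_facts.1 c).1 (wv_facts.1 a).2.2.2
      (wv_facts.1 b).2.2.2 (wv_facts.1 c).2.2.2 (hne hab) (hne hac) (hyF' i) (hyF' j) (fun q hq => ?_)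
      fun q hq => ?_
    · rw [hya' i q hq]
      rcases h1 with ⟨e, e'⟩ | ⟨e, e'⟩ <;> rw [e, e']
      exact rootMap_comm _ _ _
    · rw [hya' j q hq]
      rcases h2 with ⟨e, e'⟩ | ⟨e, e'⟩ <;> rw [e, e']
      exact rootMap_comm _ _ _
  have meet' : ∀ i j, i ≠ j → i.val + j.val ≠ 5 → Commute (y i) (y j) := fun i j h1 h2 => by
    obtain ⟨a, b, c, e1, e2, e3, e4⟩ := (by decide +kernel : ∀ i j : Fin 6, i ≠ j → i.val + j.val ≠ 5 →
      ∃ a b c : Fin 4, (pI i = a ∧ pJ i = b ∨ pI i = b ∧ pJ i = a) ∧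
        (pI j = a ∧ pJ j = c ∨ pI j = c ∧ pJ j = a) ∧ a ≠ b ∧ a ≠ c) i j h1 h2
    exact meet i j a b c e1 e2 e3 e4
  have h05 : Commute (y 0) (y 5) := hgood _ _ (hyF' 0) (hyF' 5) (hya' 0) (hya' 5)
  have h23 : Commute (y 2) (y 3) := comm_of_sum M hK hy2 hyF' hya' (i := 0) (j := 2) (k := 3) (l := 5)
    (meet' _ _ (by decide) (by decide)) (meet' _ _ (by decide) (by decide)) h05
    (meet' _ _ (by decide) (by decide)) (meet' _ _ (by decide) (by decide))
    (a := wv 0 + wv 2) (b := wv 1 + wv 3) (by decide) (by decide) (by decide) (by decide) (by decide)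
    (by decide +kernel)
  have h14 : Commute (y 1) (y 4) := comm_of_sum M hK hy2 hyF' hya' (i := 0) (j := 1) (k := 4) (l := 5)
    (meet' _ _ (by decide) (by decide)) (meet' _ _ (by decide) (by decide)) h05
    (meet' _ _ (by decide) (by decide)) (meet' _ _ (by decide) (by decide))
    (a := wv 0 + wv 3) (b := wv 1 + wv 2) (by decide) (by decide) (by decide) (by decide) (by decide)
    (by decide +kernel)
  refine ⟨⟨π, M, hK, qv, qd, y, hqv, hqvπ, hqd, hqdπ, hy2, hyF', hya', hyc, fun i j => ?_, hbad⟩⟩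
  rcases eq_or_ne i j with rfl | hne
  · exact Commute.refl _
  by_cases h5 : i.val + j.val = 5
  · rcases (by decide : ∀ i j : Fin 6, i.val + j.val = 5 → (i = 0 ∧ j = 5) ∨ (i = 5 ∧ j = 0) ∨
      (i = 1 ∧ j = 4) ∨ (i = 4 ∧ j = 1) ∨ (i = 2 ∧ j = 3) ∨ (i = 3 ∧ j = 2)) i j h5 with
      ⟨rfl, rfl⟩ | ⟨rfl, rfl⟩ | ⟨rfl, rfl⟩ | ⟨rfl, rfl⟩ | ⟨rfl, rfl⟩ | ⟨rfl, rfl⟩
    exacts [h05, h05.symm, h14, h14.symm, h23, h23.symm]
  · exact meet' i j hne h5

end CfsgLib.CoOneEleven
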