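import Cfsg.Agent.Lib.CoOneEleven.Orbit

/-!
The orbit of the central involution is the standard class of 759 elements in suitable coordinates.
-/

set_option autoImplicit false
set_option linter.style.haveILetI false
set_option synthInstance.maxSize 20000
set_option maxRecDepth 20000
set_option maxHeartbeats 1000000

namespace CfsgLib.CoOneEleven

open CfsgLib.Classical.Quad CfsgLib.CoOneType
open CfsgLib.LargeFischer CfsgLib.LargeFischer.Plane CfsgLib.Golay

universe u

namespace Data

theorem ev_trim {v w : ℕ → Bool} {e : ℕ} {k : ℕ} : ∀ n, (∀ i < n, e.testBit i = true → i < k ∧ v i = w i) →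
    k ≤ n → ev n v e = ev k w e
  | 0, _, hk => by obtain rfl : k = 0 := Nat.le_zero.1 hk; rfl
  | n + 1, h, hk => by
    rcases Nat.eq_or_lt_of_le hk with rfl | hk'
    · simp only [ev]
      have h' : ∀ i < n, e.testBit i = true → i < n ∧ v i = w i := fun i hi hb =>
        ⟨hi, (h i (Nat.lt_succ_of_lt hi) hb).2⟩
      rw [ev_trim n h' le_rfl]
      cases hb : e.testBit n
      · simp
      · rw [(h n (Nat.lt_succ_self n) hb).2]
    · have hk'' : k ≤ n := Nat.lt_succ_iff.1 hk'
      simp only [ev]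
      rw [ev_trim n (fun i hi hb => h i (Nat.lt_succ_of_lt hi) hb) hk'']
      cases hb : e.testBit n
      · simp
      · exact absurd (h n (Nat.lt_succ_self n) hb).1 (not_lt.2 hk'')

theorem bigs_facts : allLt 28 (fun i => Nat.blt (bigs.getD i 0) 64 && Nat.beq (bigs.idxOf (bigs.getD i 0)) i) =
    true ∧ (∀ n < 6, ∀ k < 6, 28 + 6 * n + k < 64) := by
  refine ⟨by decide +kernel, fun n hn k hk => by omega⟩

theorem mem_bigs {r : ℕ} (h : r ∈ bigs) : ∃ i < 28, bigs.getD i 0 = r ∧ r < 64 ∧ bigs.idxOf r = i := by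
  obtain ⟨i, hi, e⟩ := List.getElem_of_mem h
  have hi' : i < 28 := by rw [cover_check.2.2] at hi; exact hi
  have e' : bigs.getD i 0 = r := by rw [List.getD_eq_getElem _ _ hi, e]
  have hf := allLt_spec bigs_facts.1 i hi'
  simp only [Bool.and_eq_true, Nat.blt_eq, Nat.beq_eq, e'] at hf
  exact ⟨i, hi', e', hf.1, hf.2⟩

theorem getD_mem {i : ℕ} (hi : i < 28) : bigs.getD i 0 ∈ bigs ∧ bigs.getD i 0 < 64 ∧
    bigs.idxOf (bigs.getD i 0) = i := by
  have hi' : i < bigs.length := by rw [cover_check.2.2]; exact hi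
  have hf := allLt_spec bigs_facts.1 i hi
  simp only [Bool.and_eq_true, Nat.blt_eq, Nat.beq_eq] at hf
  exact ⟨by rw [List.getD_eq_getElem _ _ hi']; exact List.getElem_mem hi', hf.1, hf.2⟩

theorem rOf_mem {n r : ℕ} (hn : n < 6) (hr : r ∈ bigs) : rOf n r ∈ bigs := by
  obtain ⟨i, hi, e, -, -⟩ := mem_bigs hr
  have h := allLt_spec (allLt_spec eqns_check.1 n hn) i hi
  simp only [Bool.and_eq_true, List.contains_iff_mem, e] at h
  exact h.2

theorem side_flip {x : ℕ} (h : x / 32 ∈ bigs) (b : Bool) :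
    side (x ^^^ bif b then 1 else 0) = xor (side x) b := by
  cases b
  · simp
  · have := List.all_eq_true.1 (List.all_eq_true.1 orbit_check.2 _ h) (x % 32)
      (List.mem_range.2 (Nat.mod_lt _ (by norm_num)))
    simp only [Nat.div_add_mod] at this
    cases hs : side x <;> rw [hs] at this <;> simp at this ⊢ <;> exact this

theorem bit_lt_32 (b : Bool) : (bif b then 1 else 0 : ℕ) < 32 := by cases b <;> norm_num

theorem mk_div (r : ℕ) (b : Bool) : (32 * r + bif b then 1 else 0) / 32 = r := by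
  have := bit_lt_32 b; omega

theorem mk_xor (r : ℕ) (b : Bool) : 32 * r + (bif b then 1 else 0) = 32 * r ^^^ bif b then 1 else 0 := by
  cases b
  · simp
  · simp only [cond_true]
    refine Nat.eq_of_testBit_eq fun i => ?_
    rw [Nat.testBit_xor, show 32 * r + 1 = 2 ^ 5 * r + 1 from rfl, Nat.testBit_two_pow_mul_add r (by norm_num),
      show 32 * r = 2 ^ 5 * r from rfl, Nat.testBit_two_pow_mul]
    rcases Nat.lt_or_ge i 5 with h | h
    · simp [h, not_le.2 h]
    · rw [if_neg (not_lt.2 h), show (1 : ℕ) = 2 ^ 0 from rfl, Nat.testBit_two_pow]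
      have : ¬ (0 : ℕ) = i := by omega
      simp [h, this]

theorem gb_big (g r : ℕ) : gb g (32 * r) = bif ev 6 g.testBit r then 1 else 0 := by
  rw [gb, Nat.mul_div_cancel_left _ (by norm_num : 0 < 32)]

theorem eqMask_ev (v : ℕ → Bool) (g : ℕ) {n i : ℕ} (hn : n < 6) (hi : i < 28)
    (hg : ∀ k < 6, v (28 + 6 * n + k) = g.testBit k) :
    ev 64 v (eqMask n i) = xor (xor (v i) (v (bigs.idxOf (rOf n (bigs.getD i 0)))))
      (ev 6 g.testBit (bigs.getD i 0)) := by
  obtain ⟨-, hr, -⟩ := getD_mem hi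
  obtain ⟨t, ht, -, -, hti⟩ := mem_bigs (rOf_mem hn (getD_mem hi).1)
  have hmap : ev 64 v (ap ((List.range 6).map fun k => 2 ^ (28 + 6 * n + k)) (bigs.getD i 0)) =
      ev 6 g.testBit (bigs.getD i 0) := by
    refine ext_bits (f := fun r => ev 64 v (ap ((List.range 6).map fun k => 2 ^ (28 + 6 * n + k)) r))
      (g := fun r => ev 6 g.testBit r) xor (fun a b => by simp only [ap_add, ev_xor])
      (fun a b => ev_xor _ a b 6) (by simp [ap_zero, ev_zero]) 6 (fun k hk => ?_) _ hr
    have hap : ap ((List.range 6).map fun j => 2 ^ (28 + 6 * n + j)) (2 ^ k) = 2 ^ (28 + 6 * n + k) := by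
      obtain rfl | rfl | rfl | rfl | rfl | rfl : k = 0 ∨ k = 1 ∨ k = 2 ∨ k = 3 ∨ k = 4 ∨ k = 5 := by omega
      all_goals simp [List.range_succ, ap_cons, ap_nil, show Nat.beq 0 1 = false from rfl]
    rw [hap, ev_two_pow, ev_two_pow, ← hg k hk]
    have hlt : 28 + 6 * n + k < 64 := by omega
    simp [hlt, hk]
  rw [eqMask, ev_xor, ev_xor, hmap, hti, ev_two_pow, ev_two_pow]
  have h1 : i < 64 := by omega
  have h2 : t < 64 := by omega
  simp [h1, h2]

/-- The shift of the central coordinate by a functional. -/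
def sh (h x : ℕ) : ℕ := x ^^^ gb h x

theorem count_eq (p : ℕ → Bool) (n : ℕ) :
    (List.range n).countP p = ((Finset.range n).filter fun x => p x = true).card := by
  simp [Finset.card, Finset.filter, Finset.range, Multiset.range, List.countP_eq_length_filter]

theorem free_choice : ∀ b : Fin 8 → Bool, ∃ a : Fin 256, ∀ k : Fin 8, a.val.testBit k.val = b k := by
  decide +kernel

theorem frees_facts : frees.length = 8 ∧ pivots.all (fun e => Nat.blt e.1 28 && !frees.contains e.1) = true := by
  decide +kernel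

end Data

namespace Frame

variable {G : Type u} [Group G] [Finite G] {S : Sys G} {s : G} (F : Frame S s)

theorem big_step {n r : ℕ} (hn : n < 6) (hr : r ∈ Data.bigs) {g : ℕ} {c : G} (hc : c ∈ F.N)
    (hconj : ∀ x < 2048, c * F.θ x * c⁻¹ = F.θ (ap (Data.fCols.getD n []) x ^^^ Data.gb g x)) (b : Bool) :
    F.BigAt r b ↔ F.BigAt (Data.rOf n r)
      (xor (xor (Data.side (ap (Data.fCols.getD n []) (32 * r))) b) (Data.ev 6 g.testBit r)) := by
  obtain ⟨i, hi, hir, hr64, -⟩ := Data.mem_bigs hr
  set v := ap (Data.fCols.getD n []) (32 * r) with hv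
  have hF1 : ∀ n : Fin 6, ∀ b : Bool, ap (Data.fCols.getD n.val []) (bif b then 1 else 0) = bif b then 1 else 0 := by
    decide +kernel
  have hx : 32 * r + (bif b then 1 else 0) < 2048 := by have := Data.bit_lt_32 b; omega
  rw [BigAt, F.orb_conj hc (hconj _ hx), Data.mk_xor, ap_add, hF1 ⟨n, hn⟩ b, Data.gb_xor,
    Data.gb_low g (Data.bit_lt_32 b), Nat.xor_zero, Data.gb_big, ← hv]
  have hvr : v / 32 = Data.rOf n r := rfl
  have hd : ((v ^^^ bif b then 1 else 0) ^^^ bif Data.ev 6 g.testBit r then 1 else 0) / 32 = Data.rOf n r := by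
    rw [Data.div_xor, Data.div_xor, Nat.div_eq_of_lt (Data.bit_lt_32 _), Nat.div_eq_of_lt (Data.bit_lt_32 _),
      Nat.xor_zero, Nat.xor_zero, hvr]
  have hd' : (v ^^^ bif b then 1 else 0) / 32 ∈ Data.bigs := by
    rw [Data.div_xor, Nat.div_eq_of_lt (Data.bit_lt_32 _), Nat.xor_zero, hvr]
    exact Data.rOf_mem hn hr
  rw [F.orb_big (by rw [hd]; exact Data.rOf_mem hn hr), hd, Data.side_flip hd',
    Data.side_flip (hvr ▸ Data.rOf_mem hn hr)]

/-- The number of orbits in an indecomposable coset is constant. -/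
theorem uniform {P : ℕ → Prop}
    (hP : ∀ n < 6, ∀ r ∈ Data.bigs, (P r ↔ P (Data.rOf n r))) {r : ℕ} (hr : r ∈ Data.bigs) :
    P r ↔ P (Data.bigs.getD 0 0) := by
  set r0 := Data.bigs.getD 0 0 with hr0
  let f : ℕ → ℕ := fun x =>
    bif Nat.beq x r0 then x else (Data.bigTree.getD (Data.bigs.idxOf x) (0, 0)).2
  have hf : ∀ x ∈ Data.bigs, (P x ↔ P (f x)) ∧ f x ∈ Data.bigs := by
    intro x hx
    obtain ⟨i, hi, hix, -, hidx⟩ := Data.mem_bigs hx
    rcases Bool.eq_false_or_eq_true (Nat.beq x r0) with h | h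
    · simp only [f, h, cond_true]; exact ⟨trivial, hx⟩
    · simp only [f, h, cond_false]
      have hc := allLt_spec Data.bigTree_check.1 i hi
      simp only [hix, ← hr0, h, Bool.false_or, Bool.and_eq_true, Nat.blt_eq, Nat.beq_eq,
        List.contains_iff_mem] at hc
      rw [hidx, ← hc.1.2]
      exact ⟨hP _ hc.1.1 x hx, hc.1.2 ▸ hc.2⟩
  obtain ⟨i, hi, hir, -, -⟩ := Data.mem_bigs hr
  have hend := allLt_spec Data.bigTree_check.2 i hi
  simp only [Nat.beq_eq, hir, ← hr0] at hend
  obtain ⟨e1, m1⟩ := hf r hr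
  obtain ⟨e2, m2⟩ := hf _ m1
  obtain ⟨e3, m3⟩ := hf _ m2
  obtain ⟨e4, m4⟩ := hf _ m3
  obtain ⟨e5, m5⟩ := hf _ m4
  obtain ⟨e6, m6⟩ := hf _ m5
  obtain ⟨e7, -⟩ := hf _ m6
  have e : f (f (f (f (f (f (f r)))))) = r0 := hend
  rw [e1, e2, e3, e4, e5, e6, e7, e]

/-- The coordinates with the central coordinate shifted. -/
def shift (h : ℕ) : Frame S s where
  π := F.π
  M := F.M
  hK := F.hK
  qv := F.qv
  qd := F.qd
  y i := F.y i * pw s (bz h i.val)
  qv_mem := F.qv_mem
  qv_π := F.qv_π
  qd_mem := F.qd_mem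
  qd_π := F.qd_π
  y_sq i := by
    have hc : Commute (F.y i) (pw s (bz h i.val)) := commute_pw (F.y_fix i).comm_s _
    rw [mul_assoc, ← mul_assoc (pw s _), ← hc.eq, mul_assoc (F.y i), ← pw_add F.M.sq_one,
      CharTwo.add_self_eq_zero, pw_zero, mul_one, F.y_sq]
  y_fix i := (F.y_fix i).mul F.M
    (fix_of_mem F.M ⟨F.M.pw_mem _, by rw [F.M.map_pw]; exact inW_zero⟩)
  y_act i q hq := by
    have hc : pw s (bz h i.val) * q * (pw s (bz h i.val))⁻¹ = q :=
      conj_eq_iff_commute.2 (commute_pw (F.M.le_cent q hq) _).symm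
    rw [show F.y i * pw s (bz h i.val) * q * (F.y i * pw s (bz h i.val))⁻¹ =
      F.y i * (pw s (bz h i.val) * q * (pw s (bz h i.val))⁻¹) * (F.y i)⁻¹ by group, hc, F.y_act i q hq]
  y_conj i k := by
    have hc : Commute (F.qd k) (pw s (bz h i.val)) := commute_pw (F.M.le_cent _ (F.qd_mem k)) _
    have e : F.qd k * (F.y i * pw s (bz h i.val)) * (F.qd k)⁻¹ =
        F.qd k * F.y i * (F.qd k)⁻¹ * (F.qd k * pw s (bz h i.val) * (F.qd k)⁻¹) := by group
    rw [e, conj_eq_iff_commute.2 hc, F.y_conj, mul_assoc, mul_assoc]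
    refine congrArg (F.y i * ·) ?_
    split_ifs
    · exact commute_pw (F.M.le_cent _ (F.qv_mem _)) _
    · exact commute_pw (F.M.le_cent _ (F.qv_mem _)) _
    · rw [one_mul, mul_one]
  y_comm i j := by
    have h1 : ∀ k l, Commute (F.y k) (pw s (bz h l)) := fun k l => commute_pw (F.y_fix k).comm_s _
    exact Commute.mul_left ((F.y_comm i j).mul_right (h1 i j.val))
      (((h1 j i.val).symm).mul_right (commute_pw ((commute_pw (Commute.refl s) _).symm) _))
  bad := F.bad

theorem shift_θ (h : ℕ) {x : ℕ} (hx : x < 2048) : (F.shift h).θ x = F.θ (Data.sh h x) := by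
  refine Data.ext_bits (f := (F.shift h).θ) (g := fun x => F.θ (Data.sh h x)) (· * ·) (F.shift h).θ_xor
    (fun a b => by
      simp only [← F.θ_xor, Data.sh, Data.gb_xor]
      congr 1
      rw [Nat.xor_assoc, Nat.xor_assoc, ← Nat.xor_assoc b, Nat.xor_comm b (Data.gb h a), Nat.xor_assoc])
    (by simp [θ_zero, Data.sh, Data.gb_low]) 11 (fun j hj => ?_) x hx
  rcases Nat.lt_or_ge j 5 with h5 | h5
  · rw [Data.sh, Data.gb_low h (by
      calc 2 ^ j < 2 ^ 5 := Nat.pow_lt_pow_right (by norm_num) h5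
        _ = 32 := rfl), Nat.xor_zero, θ_two_pow, θ_two_pow]
    obtain rfl | rfl | rfl | rfl | rfl : j = 0 ∨ j = 1 ∨ j = 2 ∨ j = 3 ∨ j = 4 := by omega
    all_goals rfl
  · obtain ⟨i, rfl⟩ : ∃ i : Fin 6, j = 5 + i.val := ⟨⟨j - 5, by omega⟩, by show j = 5 + (j - 5); omega⟩
    rw [θ_y, Data.sh, θ_xor, θ_y]
    show F.y i * pw s (bz h i.val) = _
    congr 1
    have : 2 ^ (5 + i.val) / 32 = 2 ^ i.val := by rw [pow_add]; norm_num
    rw [Data.gb, this, Data.ev_two_pow, bz]
    cases h.testBit i.val <;> simp [θ_one, θ_zero, i.isLt, pw]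

theorem shift_A (h : ℕ) : (F.shift h).A = F.A := by
  refine le_antisymm ?_ ?_ <;> intro a ha
  · obtain ⟨n, hn, rfl⟩ := (F.shift h).θ_surj ha
    rw [F.shift_θ h hn]; exact F.θ_mem _
  · rw [(F.shift h).mem_A_iff]
    exact F.mem_A_iff.1 ha

theorem shift_orb (h : ℕ) {x : ℕ} (hx : x < 2048) : (F.shift h).Orb x ↔ F.Orb (Data.sh h x) := by
  unfold Orb N
  rw [F.shift_A h, F.shift_θ h hx]

/-- Translation numbers are constant on the orbit. -/
theorem count_const {j : ℕ} (hj : ∀ x < 2048, (F.Orb x ↔ Data.inM j x = true)) {a : ℕ} (ha : a < 2048)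
    (hOa : F.Orb a) : Data.pairCount j 1 = Data.pairCount j a := by
  classical
  obtain ⟨n, hn, e⟩ := hOa
  have hex : ∀ x, ∃ y < 2048, F.θ y = n * F.θ x * n⁻¹ := fun x => F.θ_surj (F.conj_mem hn (F.θ_mem x))
  choose act hlt hact using hex
  have h1 : ∀ x < 2048, (Data.inM j x = true ↔ Data.inM j (act x) = true) := fun x hx => by
    rw [← hj x hx, ← hj _ (hlt x), F.orb_conj hn (hact x).symm]
  have hxor : ∀ x < 2048, act (x ^^^ 1) = act x ^^^ a := fun x hx => by
    refine F.θ_inj (hlt _) (Nat.xor_lt_two_pow (n := 11) (hlt x) ha) ?_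
    rw [hact, θ_xor, θ_xor, hact, ← e, θ_one]
    group
  rw [Data.pairCount, Data.pairCount, Data.count_eq, Data.count_eq]
  refine Finset.card_bij (fun x _ => act x) (fun x hx => ?_) (fun x hx y hy h => ?_) (fun y hy => ?_)
  · simp only [Finset.mem_filter, Finset.mem_range, Bool.and_eq_true] at hx ⊢
    exact ⟨hlt x, (h1 x hx.1).1 hx.2.1, hxor x hx.1 ▸
      (h1 _ (Nat.xor_lt_two_pow (n := 11) hx.1 (by norm_num))).1 hx.2.2⟩
  · simp only [Finset.mem_filter, Finset.mem_range] at hx hy
    refine F.θ_inj hx.1 hy.1 ?_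
    have e1 := congrArg F.θ h
    rw [hact, hact] at e1
    exact mul_left_cancel (mul_right_cancel e1)
  · simp only [Finset.mem_filter, Finset.mem_range, Bool.and_eq_true] at hy
    obtain ⟨x, hx, hxe⟩ := F.θ_surj (F.conj_mem (inv_mem hn) (F.θ_mem y))
    have hxy : act x = y := F.θ_inj (hlt x) hy.1 (by rw [hact, hxe]; group)
    refine ⟨x, ?_, hxy⟩
    simp only [Finset.mem_filter, Finset.mem_range, Bool.and_eq_true]
    refine ⟨hx, (h1 x hx).2 (hxy ▸ hy.2.1), (h1 _ (Nat.xor_lt_two_pow (n := 11) hx (by norm_num))).2 ?_⟩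
    rw [hxor x hx, hxy]
    exact hy.2.2

theorem not_candidate {j : ℕ} (hj : j ∈ [0, 1, 3, 4, 5])
    (h : ∀ x < 2048, (F.Orb x ↔ Data.inM j x = true)) : False := by
  have hw := List.all_eq_true.1 Data.witness_check.1 j hj
  simp only [Bool.and_eq_true, Bool.not_eq_true', ← Bool.not_eq_true, Nat.beq_eq, Nat.blt_eq] at hw
  exact hw.1.2 (F.count_const h hw.2 ((h _ hw.2).2 hw.1.1))

theorem extreme_orb {b : Bool} (hall : ∀ r ∈ Data.bigs, ∀ c, (F.BigAt r c ↔ b = true)) :
    ∀ x < 2048, (F.Orb x ↔ Data.inM (bif b then 5 else 4) x = true) := by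
  intro x hx
  have h := allR_spec Data.extremes_check x (Nat.zero_le _) (by simpa using hx)
  simp only [Bool.and_eq_true, beq_iff_eq] at h
  by_cases hb : x / 32 ∈ Data.bigs
  · rw [F.orb_big hb, hall _ hb]
    have hr := List.all_eq_true.1 (List.all_eq_true.1 Data.root_r0.2.1 _ hb) (x % 32)
      (List.mem_range.2 (Nat.mod_lt _ (by norm_num)))
    simp only [Nat.div_add_mod, Bool.not_eq_true'] at hr
    have hc : Data.bigs.contains (x / 32) = true := List.contains_iff_mem.2 hb
    unfold Data.inM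
    cases b <;> simp only [cond_true, cond_false, h.1, h.2, hr, hc] <;> simp
  · rw [F.orb_fixed hx hb]
    have hc : Data.bigs.contains (x / 32) = false := by
      rw [← Bool.not_eq_true, List.contains_iff_mem]; exact hb
    unfold Data.inM
    cases b <;> simp only [cond_true, cond_false, h.1, h.2, hc] <;> simp

include F in
/-- Coordinates in which the orbit is the standard class. -/
theorem exists_standard : ∃ F' : Frame S s, ∀ x < 2048, (F'.Orb x ↔ Data.oMask.testBit x = true) := by
  classical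
  choose c hc hcs hcπ g hg hconj using fun n : Fin 6 => F.exists_lift n
  have step : ∀ (n : Fin 6) (r : ℕ), r ∈ Data.bigs → ∀ b, (F.BigAt r b ↔ F.BigAt (Data.rOf n.val r)
      (xor (xor (Data.side (ap (Data.fCols.getD n.val []) (32 * r))) b) (Data.ev 6 (g n).testBit r))) :=
    fun n r hr b => F.big_step n.isLt hr (hc n) (hconj n) b
  set r0 := Data.bigs.getD 0 0
  have hboth : ∀ r ∈ Data.bigs, ((F.BigAt r false ∧ F.BigAt r true) ↔ (F.BigAt r0 false ∧ F.BigAt r0 true)) :=
    fun r hr => uniform (P := fun r => F.BigAt r false ∧ F.BigAt r true) (fun n hn r hr => by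
      rw [step ⟨n, hn⟩ r hr false, step ⟨n, hn⟩ r hr true]
      generalize Data.side _ = u
      generalize Data.ev 6 _ r = w
      cases u <;> cases w <;> simp [and_comm]) hr
  have hsome : ∀ r ∈ Data.bigs, ((F.BigAt r false ∨ F.BigAt r true) ↔ (F.BigAt r0 false ∨ F.BigAt r0 true)) :=
    fun r hr => uniform (P := fun r => F.BigAt r false ∨ F.BigAt r true) (fun n hn r hr => by
      rw [step ⟨n, hn⟩ r hr false, step ⟨n, hn⟩ r hr true]
      generalize Data.side _ = u
      generalize Data.ev 6 _ r = w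
      cases u <;> cases w <;> simp [or_comm]) hr
  by_cases h2 : F.BigAt r0 false ∧ F.BigAt r0 true
  · refine (F.not_candidate (j := 5) (by simp) (F.extreme_orb (b := true) fun r hr b => ?_)).elim
    obtain ⟨h1, h1'⟩ := (hboth r hr).2 h2
    cases b <;> simp [h1, h1']
  by_cases h0 : ¬ (F.BigAt r0 false ∨ F.BigAt r0 true)
  · refine (F.not_candidate (j := 4) (by simp) (F.extreme_orb (b := false) fun r hr b => ?_)).elim
    have h := fun e => h0 ((hsome r hr).1 e)
    have hf : ¬ F.BigAt r false := fun e => h (Or.inl e)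
    have ht : ¬ F.BigAt r true := fun e => h (Or.inr e)
    cases b <;> simp [hf, ht]
  rw [not_not] at h0
  let ε : ℕ → Bool := fun r => decide (F.BigAt r true)
  have hε : ∀ r ∈ Data.bigs, ∀ b, (F.BigAt r b ↔ b = ε r) := by
    intro r hr b
    have h1 := (hsome r hr).2 h0
    have h2' := fun e => h2 ((hboth r hr).1 e)
    by_cases ht : F.BigAt r true
    · have hf : ¬ F.BigAt r false := fun e => h2' ⟨e, ht⟩
      cases b <;> simp [ε, ht, hf]
    · cases b <;> simp [ε, ht, h1.resolve_right ht]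
  let v : ℕ → Bool := fun i => if i < 28 then ε (Data.bigs.getD i 0)
    else (g ⟨(i - 28) / 6 % 6, Nat.mod_lt _ (by norm_num)⟩).testBit ((i - 28) % 6)
  have heq : ∀ j < 168, Data.ev 64 v (Data.eqns.getD j (0, false)).1 = (Data.eqns.getD j (0, false)).2 := by
    intro j hj
    have hn : j / 28 < 6 := by omega
    have hi : j % 28 < 28 := Nat.mod_lt _ (by norm_num)
    have h := allLt_spec (allLt_spec Data.eqns_check.1 _ hn) _ hi
    simp only [Nat.div_add_mod, Bool.and_eq_true, Nat.beq_eq, beq_iff_eq] at h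
    rw [h.1.1, h.1.2, Data.eqMask_ev v (g ⟨j / 28, hn⟩) hn hi (fun k hk => by
      simp only [v, if_neg (show ¬ 28 + 6 * (j / 28) + k < 28 by omega)]
      have e1 : (28 + 6 * (j / 28) + k - 28) % 6 = k := by omega
      have e2 : (28 + 6 * (j / 28) + k - 28) / 6 % 6 = j / 28 := by omega
      simp only [e1, e2])]
    obtain ⟨hrm, -, -⟩ := Data.getD_mem hi
    obtain ⟨t, ht, htr, -, hti⟩ := Data.mem_bigs (Data.rOf_mem hn hrm)
    simp only [v, hti, if_pos hi, if_pos ht, htr]
    have hb := (hε _ hrm _).2 rfl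
    rw [step ⟨j / 28, hn⟩ _ hrm, hε _ (Data.rOf_mem hn hrm)] at hb
    rw [← hb]
    generalize Data.side _ = a
    generalize Data.ev 6 _ _ = b
    cases a <;> cases b <;> cases ε (Data.bigs.getD (j % 28) 0) <;> rfl
  have hsum : ∀ l : List ℕ, (∀ j ∈ l, j < 168) → Data.ev 64 v (Data.eqSum l).1 = (Data.eqSum l).2 := by
    intro l
    induction l with
    | nil => intro _; exact Data.ev_zero 64 v
    | cons j l ih =>
      intro h
      simp only [Data.eqSum, Data.ev_xor, heq j (h j List.mem_cons_self),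
        ih fun k hk => h k (List.mem_cons_of_mem _ hk)]
  obtain ⟨a, ha⟩ := Data.free_choice fun k => v (Data.frees.getD k.val 0)
  let f : ℕ → Bool := fun j => Data.frees.contains j && a.val.testBit (Data.frees.idxOf j)
  have hfv : ∀ j, Data.frees.contains j = true → f j = v j := by
    intro j hj
    have hlt : Data.frees.idxOf j < 8 := by
      rw [← Data.frees_facts.1]; exact List.idxOf_lt_length_of_mem (List.contains_iff_mem.1 hj)
    simp only [f, hj, Bool.true_and]
    rw [ha ⟨_, hlt⟩]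
    congr 1
    rw [List.getD_eq_getElem _ _ (List.idxOf_lt_length_of_mem (List.contains_iff_mem.1 hj))]
    exact List.getElem_idxOf _
  have hsol : ∀ i < 28, v i = Data.sol a.val i := by
    intro i hi
    simp only [Data.sol]
    cases hc' : Data.frees.contains i
    · simp only [cond_false]
      have hp := allLt_spec Data.pivots_check.2 i hi
      simp only [hc', Bool.false_or, List.contains_iff_mem] at hp
      set k := (Data.pivots.map Prod.fst).idxOf i with hk
      have hklt : k < (Data.pivots.map Prod.fst).length := List.idxOf_lt_length_of_mem hp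
      have hklt' : k < Data.pivots.length := by simpa using hklt
      rw [List.getD_eq_getElem _ _ hklt']
      set e := Data.pivots[k] with he
      have he1 : e.1 = i := by
        have := List.getElem_idxOf (x := i) (xs := Data.pivots.map Prod.fst) hklt
        rw [List.getElem_map] at this
        exact this
      have hmem : e ∈ Data.pivots := List.getElem_mem hklt'
      have h1 := List.all_eq_true.1 Data.pivots_check.1 _ hmem
      simp only [Bool.and_eq_true, Nat.beq_eq, beq_iff_eq, List.all_eq_true, Nat.blt_eq] at h1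
      have h2 := hsum e.2.2.2 h1.2
      rw [h1.1.1, h1.1.2, Data.ev_xor, he1, Data.ev_two_pow,
        Data.ev_trim (k := 28) (w := fun j => Data.frees.contains j && a.val.testBit (Data.frees.idxOf j)) 64
          (fun m hm hb => ?_) (by norm_num)] at h2
      · have h64 : i < 64 := by omega
        simp only [h64, decide_true, Bool.true_and] at h2
        rw [← h2]
        generalize Data.ev 28 _ _ = z
        cases v i <;> cases z <;> rfl
      · have h3 := allLt_spec (List.all_eq_true.1 Data.pivots_free _ hmem) m hm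
        simp only [hb, Bool.not_true, Bool.false_or, Bool.and_eq_true, Nat.blt_eq] at h3
        exact ⟨h3.1, (hfv m h3.2).symm⟩
    · simp only [cond_true]
      rw [← hfv i hc']
      simp only [f, hc']
  have hs := allR_spec Data.sol_check a.val (Nat.zero_le _) (by simpa using a.isLt)
  simp only [Bool.and_eq_true, Nat.blt_eq] at hs
  set h := (Data.solTab.getD a.val (0, 0)).1
  set j := (Data.solTab.getD a.val (0, 0)).2
  have hj4 : j < 4 := hs.1.2
  refine ⟨F.shift h, ?_⟩
  have hmask : ∀ x < 2048, ((F.shift h).Orb x ↔ Data.inM j x = true) := by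
    intro x hx
    have hm := allR_spec (allLt_spec Data.masks_check j hj4) x (Nat.zero_le _) (by simpa using hx)
    simp only [beq_iff_eq] at hm
    rw [Data.inM, hm]
    by_cases hb : x / 32 ∈ Data.bigs
    · obtain ⟨i, hi, hir, hr64, hidx⟩ := Data.mem_bigs hb
      have hr := List.all_eq_true.1 (List.all_eq_true.1 Data.root_r0.2.1 _ hb) (x % 32)
        (List.mem_range.2 (Nat.mod_lt _ (by norm_num)))
      simp only [Nat.div_add_mod, Bool.not_eq_true'] at hr
      have hd : Data.sh h x / 32 = x / 32 := by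
        rw [Data.sh, Data.div_xor]
        rcases Data.gb_cases h x with e | e <;> rw [e] <;> simp
      rw [F.shift_orb h hx, F.orb_big (hd ▸ hb), hd, hε _ hb, Data.sh, Data.gb, Data.side_flip hb]
      have hc1 := allLt_spec hs.2 i hi
      simp only [beq_iff_eq] at hc1
      have hv : ε (x / 32) = Data.sol a.val i := by rw [← hsol i hi, ← hir]; simp [v, hi]
      rw [hv, hc1, hir, hr, List.contains_iff_mem.2 hb, hidx]
      generalize Data.side x = p
      generalize Data.ev 6 _ _ = q
      generalize (Data.cands.getD j 0).testBit i = o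
      cases p <;> cases q <;> cases o <;> simp
    · rw [(F.shift h).orb_fixed hx hb]
      have hc' : Data.bigs.contains (x / 32) = false := by
        rw [← Bool.not_eq_true, List.contains_iff_mem]; exact hb
      simp [hb, hc']
  intro x hx
  obtain hj | hj | hj | hj : j = 0 ∨ j = 1 ∨ j = 2 ∨ j = 3 := by omega
  · exact ((F.shift h).not_candidate (j := 0) (by simp) (hj ▸ hmask)).elim
  · exact ((F.shift h).not_candidate (j := 1) (by simp) (hj ▸ hmask)).elim
  · rw [hmask x hx, hj, Data.inM, Data.witness_check.2.2.1]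
  · exact ((F.shift h).not_candidate (j := 3) (by simp) (hj ▸ hmask)).elim

end Frame

end CfsgLib.CoOneEleven
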