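import Cfsg.Agent.Lib.CoOneEleven.Space

/-!
The elements over a maximal totally singular space, their centralizer, and the choice of the family.
-/

set_option autoImplicit false
set_option linter.style.haveILetI false
set_option synthInstance.maxSize 20000
set_option maxRecDepth 20000
set_option maxHeartbeats 1000000

namespace CfsgLib.CoOneEleven

open CfsgLib.Classical.Quad CfsgLib.CoOneType

universe u

variable {G : Type u} [Group G]

/-- Coordinates changed by any isometry. -/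
theorem comp' {s : G} {E : Subgroup G} {π : G → V8} (M : Model s E π) (k : Orth Q8) :
    Model s E fun x => k.1 (π x) where
  ne_one := M.ne_one
  sq_one := M.sq_one
  mem := M.mem
  le_cent := M.le_cent
  map_mul p hp q hq := by rw [M.map_mul p hp q hq, g_add]
  ker q hq := by rw [LinearEquiv.map_eq_zero_iff]; exact M.ker q hq
  surj v := by
    obtain ⟨q, hq, e⟩ := M.surj ((k⁻¹).1 v)
    exact ⟨q, hq, by rw [e, self_apply_inv]⟩
  square q hq := by rw [qV_g]; exact M.square q hq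
  swap p hp q hq := by rw [BV_g]; exact M.swap p hp q hq
  normal := M.normal
  faith c hc := M.faith c ⟨hc.1, fun q hq => by
    have := hc.2 q hq
    rw [one_apply] at this
    rw [one_apply]
    exact k.1.injective this⟩
  act c hc := by
    obtain ⟨g, hg, ha⟩ := M.act c hc
    refine ⟨k * g * k⁻¹, ?_, hc, fun q hq => ?_⟩
    · exact (inferInstance : (commutator (Orth Q8)).Normal).conj_mem g hg k
    · simp only [mul_apply, inv_apply_self, ha.2 q hq]
  lift g hg := by
    obtain ⟨c, hc, ha⟩ := M.lift (k⁻¹ * g * k) (by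
      have := (inferInstance : (commutator (Orth Q8)).Normal).conj_mem g hg k⁻¹
      rwa [inv_inv] at this)
    refine ⟨c, hc, fun q hq => ?_⟩
    simp only [ha q hq, mul_apply, self_apply_inv]

section Basic

variable [Finite G] {S : Sys G} {s : G} {π : G → V8}

/-- The preimage of the totally singular space. -/
def p5 (M : Model s (S.E s) π) : Subgroup G where
  carrier := {q | q ∈ S.E s ∧ InW (π q)}
  one_mem' := ⟨(S.E s).one_mem, by rw [M.map_one]; exact inW_zero⟩
  mul_mem' := fun {a b} ha hb => ⟨(S.E s).mul_mem ha.1 hb.1, by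
    rw [M.map_mul a ha.1 b hb.1]; exact ha.2.add hb.2⟩
  inv_mem' := fun {a} ha => ⟨(S.E s).inv_mem ha.1, by rw [M.map_inv ha.1]; exact ha.2⟩

/-- An element centralizing everything over the totally singular space. -/
def Fix (M : Model s (S.E s) π) (c : G) : Prop := ∀ q ∈ p5 M, Commute c q

variable (M : Model s (S.E s) π)

theorem mem_p5 {q : G} : q ∈ p5 M ↔ q ∈ S.E s ∧ InW (π q) := Iff.rfl

omit [Finite G] in
theorem self_mem_p5 : s ∈ p5 M := ⟨M.mem, by rw [M.map_s]; exact inW_zero⟩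

omit [Finite G] in
theorem Fix.comm_s {c : G} (h : Fix M c) : Commute c s := h s (self_mem_p5 M)

theorem Fix.mul {c d : G} (hc : Fix M c) (hd : Fix M d) : Fix M (c * d) :=
  fun q hq => (hc q hq).mul_left (hd q hq)

theorem Fix.inv {c : G} (hc : Fix M c) : Fix M c⁻¹ := fun q hq => (hc q hq).inv_left

theorem fix_of_mem {q : G} (hq : q ∈ p5 M) : Fix M q := fun r hr =>
  (M.commute_iff hq.1 hr.1).2 (hq.2.perp hr.2)

/-- Two elements with the same action, both centralizing the subgroup, differ inside it. -/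
theorem adjust {c c' : G} {g : Orth Q8} (hc : Fix M c) (hc' : Fix M c')
    (ha : Acts s (S.E s) π c g) (ha' : Acts s (S.E s) π c' g) : c⁻¹ * c' ∈ p5 M := by
  have he : c⁻¹ * c' ∈ S.E s := M.faith _ (by
    have := M.acts_mul (M.acts_inv ha) ha'
    rwa [inv_mul_cancel] at this)
  refine ⟨he, inW_of_perp fun i => ?_⟩
  obtain ⟨q, hq, hπ⟩ := M.surj (wv i)
  rw [← hπ]
  exact (M.commute_iff he hq).1 ((hc.inv.mul M hc') q ⟨hq, by rw [hπ]; exact (wv_facts.1 i).1⟩)

/-- Elements with the same action. -/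
theorem adjust' {c c' : G} (hc : Fix M c) (hc' : Fix M c')
    (ha : ∀ q ∈ S.E s, π (c * q * c⁻¹) = π (c' * q * c'⁻¹)) : c⁻¹ * c' ∈ p5 M := by
  obtain ⟨g, -, hg⟩ := M.act c hc.comm_s
  exact adjust M hc hc' hg ⟨hc'.comm_s, fun q hq => by rw [← ha q hq, hg.2 q hq]⟩

variable (hK : S.K s)
include hK

theorem fix_of_root {a b : V8} (ha : InW a) (ha0 : a ≠ 0) (hb : InW b) {qa t : G} (hqa : qa ∈ S.E s)
    (hπ : π qa = a) (ht : t ∈ S.E qa) (hts : Commute t s)
    (hact : ∀ q ∈ S.E s, π (t * q * t⁻¹) = rootMap a b (π q)) : Fix M t := fun q hq =>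
  comm_of_mem M hK ha.qV_eq ha0 (hb.perp ha) hb.qV_eq hqa hπ ht hts hact hq.1 (hq.2.perp ha) (hq.2.perp hb)

/-- A root element over a line of the totally singular space. -/
theorem exists_fix_root {a b : V8} (ha : InW a) (hb : InW b) (ha0 : a ≠ 0) (hb0 : b ≠ 0) (hne : b ≠ a)
    {qa : G} (hqa : qa ∈ S.E s) (hπ : π qa = a) :
    ∃ t, t ∈ S.E qa ∧ t * t = 1 ∧ t ∉ S.E s ∧ S.K t ∧ Fix M t ∧
      ∀ q ∈ S.E s, π (t * q * t⁻¹) = rootMap a b (π q) := by
  obtain ⟨t, h1, h2, h3, h4, h5, h6⟩ :=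
    exists_root M hK ha.qV_eq hb.qV_eq (hb.perp ha) ha0 hb0 hne hqa hπ
  exact ⟨t, h1, h2, h3, h4, fix_of_root M hK ha ha0 hb hqa hπ h1 h5 h6, h6⟩

/-- Root elements on two lines through a point commute. -/
theorem comm_meet {a b c : V8} (ha : InW a) (hb : InW b) (hc : InW c) (ha0 : a ≠ 0) (hb0 : b ≠ 0)
    (hc0 : c ≠ 0) (hbne : b ≠ a) (hcne : c ≠ a) {x y : G} (hx : Fix M x) (hy : Fix M y)
    (hxa : ∀ q ∈ S.E s, π (x * q * x⁻¹) = rootMap a b (π q))
    (hya : ∀ q ∈ S.E s, π (y * q * y⁻¹) = rootMap a c (π q)) : Commute x y := by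
  obtain ⟨qa, hqa, hπ⟩ := M.surj a
  obtain ⟨k, π', -, hka, p⟩ := exists_frame M hK ha.qV_eq ha0 hqa hπ
  obtain ⟨g, hg, -, -, hgB, -⟩ := p.exists_iso
  have hbr : ∀ {d : V8} {t : G}, InW d → t ∈ S.E qa → Commute t s →
      (∀ q ∈ S.E s, π (t * q * t⁻¹) = rootMap a d (π q)) →
      Br S s qa (fun v => k.1 (π v)) t (k.1 d).2.2 ∧ (k.1 d).2.1 = 0 := fun {d t} hd ht hts hta => by
    have h0 : (k.1 d).2.1 = 0 := perp_snd (by rw [← hka, BV_g, hd.perp ha])
    refine ⟨⟨ht, hts, fun q hq => ?_⟩, h0⟩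
    rw [sg_apply, sgf_eq_rootMap h0 (by rw [← qV_split h0, qV_g, hd.qV_eq]), ← hka, ← rootMap_map]
    exact congrArg k.1 (hta q hq)
  obtain ⟨x', hx'E, -, -, -, hx'F, hx'a⟩ := exists_fix_root M hK ha hb ha0 hb0 hbne hqa hπ
  obtain ⟨y', hy'E, -, -, -, hy'F, hy'a⟩ := exists_fix_root M hK ha hc ha0 hc0 hcne hqa hπ
  obtain ⟨hBx, hxb⟩ := hbr hb hx'E hx'F.comm_s hx'a
  obtain ⟨hBy, hyb⟩ := hbr hc hy'E hy'F.comm_s hy'a
  have hxy : Commute x' y' := (p.right.commute_iff hx'E hy'E).2 (by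
    rw [BV_split (perp_snd (by rw [← p.hs]; exact (p.right.commute_iff hx'E p.memR).1 hx'F.comm_s))
      (perp_snd (by rw [← p.hs]; exact (p.right.commute_iff hy'E p.memR).1 hy'F.comm_s)),
      hg _ _ hBx, hg _ _ hBy, hgB, ← BV_split hxb hyb, BV_g, hb.perp hc])
  have ex := adjust' M hx'F hx fun q hq => by rw [hx'a q hq, hxa q hq]
  have ey := adjust' M hy'F hy fun q hq => by rw [hy'a q hq, hya q hq]
  have e1 : x = x' * (x'⁻¹ * x) := by group
  have e2 : y = y' * (y'⁻¹ * y) := by group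
  rw [e1, e2]
  refine Commute.mul_left (hxy.mul_right (hx'F _ ey)) ?_
  exact ((hy'F _ ex).symm).mul_right ((fix_of_mem M ex) _ ey)

omit hK in
/-- The family is good: root elements of the two standard opposite lines commute. -/
def Good : Prop :=
  ∀ x y, Fix M x → Fix M y → (∀ q ∈ S.E s, π (x * q * x⁻¹) = rootMap (wv 0) (wv 1) (π q)) →
    (∀ q ∈ S.E s, π (y * q * y⁻¹) = rootMap (wv 2) (wv 3) (π q)) → Commute x y

/-- The exchange of the two families. -/
noncomputable def flipK : Orth Q8 := refl Q8 (emb (e3 + f3))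

omit [Finite G] hK in
theorem flip_apply (x : V8) : flipK.1 x = rf (emb (e3 + f3)) x := refl8 (by decide) x

include M in
/-- One of the two families is good; and then the other has two non-commuting root elements. -/
theorem exists_good : ∃ (π₁ : G → V8) (M₁ : Model s (S.E s) π₁), Good M₁ ∧
    ∃ x y, Fix (comp' M₁ flipK) x ∧ Fix (comp' M₁ flipK) y ∧ ¬ Commute x y := by
  obtain ⟨qu, hqu, hπu⟩ := M.surj (wv 0)
  obtain ⟨qe, hqe, hπe⟩ := M.surj (wv 2)
  obtain ⟨t, htE, htt, -, -, htF, hta⟩ := exists_fix_root M hK (a := wv 0) (b := wv 1) (by decide)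
    (by decide) (by decide) (by decide) (by decide) hqu hπu
  obtain ⟨yA, hAE, -, -, -, hAF, hAa⟩ := exists_fix_root M hK (a := wv 2) (b := wv 3) (by decide)
    (by decide) (by decide) (by decide) (by decide) hqe hπe
  obtain ⟨yB, hBE, -, -, -, hBs, hBa⟩ := exists_root M hK (a := emb e2) (b := emb f3) (by decide)
    (by decide) (by decide) (by decide) (by decide) (by decide) hqe hπe
  set M' := comp' M flipK with hM'
  have hflip : ∀ v : V8, flipK.1 v = rf (emb (e3 + f3)) v := flip_apply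
  have hπ'u : (fun x => flipK.1 (π x)) qu = wv 0 := by
    show flipK.1 (π qu) = _; rw [hπu, hflip]; decide
  have hπ'e : (fun x => flipK.1 (π x)) qe = wv 2 := by
    show flipK.1 (π qe) = _; rw [hπe, hflip]; decide
  have ht' : ∀ q ∈ S.E s, (fun x => flipK.1 (π x)) (t * q * t⁻¹) =
      rootMap (wv 0) (wv 1) ((fun x => flipK.1 (π x)) q) := fun q hq => by
    show flipK.1 (π (t * q * t⁻¹)) = _
    rw [hta q hq, rootMap_map, hflip (wv 0), hflip (wv 1)]
    exact congrArg₂ (fun a b => rootMap a b _) (by decide) (by decide)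
  have hB' : ∀ q ∈ S.E s, (fun x => flipK.1 (π x)) (yB * q * yB⁻¹) =
      rootMap (wv 2) (wv 3) ((fun x => flipK.1 (π x)) q) := fun q hq => by
    show flipK.1 (π (yB * q * yB⁻¹)) = _
    rw [hBa q hq, rootMap_map, hflip (emb e2), hflip (emb f3)]
    exact congrArg₂ (fun a b => rootMap a b _) (by decide) (by decide)
  have htF' : Fix M' t := fix_of_root M' hK (a := wv 0) (b := wv 1) (by decide) (by decide) (by decide)
    hqu hπ'u htE htF.comm_s ht'
  have hBF' : Fix M' yB := fix_of_root M' hK (a := wv 2) (b := wv 3) (by decide) (by decide) (by decide)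
    hqe hπ'e hBE hBs hB'
  have hAF' : ∀ {π₁ : G → V8} (M₁ : Model s (S.E s) π₁) (x₀ y₀ : G), Fix M₁ x₀ → Fix M₁ y₀ →
      (∀ q ∈ S.E s, π₁ (x₀ * q * x₀⁻¹) = rootMap (wv 0) (wv 1) (π₁ q)) →
      (∀ q ∈ S.E s, π₁ (y₀ * q * y₀⁻¹) = rootMap (wv 2) (wv 3) (π₁ q)) → Commute x₀ y₀ → Good M₁ := by
    intro π₁ M₁ x₀ y₀ hx₀ hy₀ hxa hya hc x y hx hy hxa' hya'
    have ex := adjust' M₁ hx₀ hx fun q hq => by rw [hxa q hq, hxa' q hq]
    have ey := adjust' M₁ hy₀ hy fun q hq => by rw [hya q hq, hya' q hq]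
    have e1 : x = x₀ * (x₀⁻¹ * x) := by group
    have e2 : y = y₀ * (y₀⁻¹ * y) := by group
    rw [e1, e2]
    refine Commute.mul_left (hc.mul_right (hx₀ _ ey)) ?_
    exact ((hy₀ _ ex).symm).mul_right ((fix_of_mem M₁ ex) _ ey)
  have hne := family_ne M hK hqu hπu hqe hπe htE htt htF.comm_s hta hAE hAF.comm_s hAa hBE hBs hBa
  by_cases hc : Commute t yA
  · exact ⟨π, M, hAF' M t yA htF hAF hta hAa hc, t, yB, htF', hBF', hne.1 hc⟩
  · have hcB : Commute t yB := not_not.1 fun h => hc (hne.2 h)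
    refine ⟨_, M', hAF' M' t yB htF' hBF' ht' hB' hcB, t, yA, ?_, ?_, hc⟩
    all_goals
      intro q hq
      have hinv : flipK.1 (flipK.1 (π q)) = π q := by
        rw [hflip, hflip]
        exact (by decide +kernel : ∀ v : V8, rf (emb (e3 + f3)) (rf (emb (e3 + f3)) v) = v) _
      have hq' : q ∈ p5 M := ⟨hq.1, hinv ▸ hq.2⟩
    · exact htF q hq'
    · exact hAF q hq'

end Basic

end CfsgLib.CoOneEleven
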