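import Cfsg.Agent.Lib.CoOneEleven.TwoOrbits

/-!
The quotient of the normalizer by the subgroup of order `2 ^ 11` is the Mathieu group.
-/

set_option autoImplicit false
set_option linter.style.haveILetI false
set_option synthInstance.maxSize 20000
set_option maxRecDepth 20000
set_option maxHeartbeats 1000000

namespace CfsgLib.CoOneEleven

open CfsgLib.Classical.Quad CfsgLib.CoOneType
open CfsgLib.LargeFischer CfsgLib.LargeFischer.Plane CfsgLib.Golay

universe u

namespace Data

theorem ev_low (v : ℕ → Bool) : ∀ (n : ℕ) {x y : ℕ}, (∀ i < n, x.testBit i = y.testBit i) → ev n v x = ev n v y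
  | 0, _, _, _ => rfl
  | n + 1, x, y, h => by
    simp only [ev, ev_low v n (fun i hi => h i (Nat.lt_succ_of_lt hi)), h n (Nat.lt_succ_self n)]

theorem ev_xor_left (a b : ℕ) : ∀ (n x : ℕ),
    ev n (a ^^^ b).testBit x = xor (ev n a.testBit x) (ev n b.testBit x)
  | 0, _ => rfl
  | n + 1, x => by
    simp only [ev, ev_xor_left a b n x, Nat.testBit_xor]
    cases ev n a.testBit x <;> cases ev n b.testBit x <;> cases x.testBit n <;> cases a.testBit n <;>
      cases b.testBit n <;> rfl

theorem ev_pow (i x : ℕ) : ∀ n, ev n (2 ^ i).testBit x = (decide (i < n) && x.testBit i)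
  | 0 => by simp [ev]
  | n + 1 => by
    simp only [ev, ev_pow i x n, Nat.testBit_two_pow]
    rcases lt_trichotomy i n with h | h | h
    · simp [h, h.ne, Nat.lt_succ_of_lt h]
    · subst h; simp
    · simp [h.ne', not_lt.2 h.le, show ¬ i < n + 1 by omega]

theorem countP_xor_const (f g : ℕ → Bool) (l : List ℕ) :
    l.countP (fun x => f x && !g x) = l.countP f - l.countP (fun x => f x && g x) := by
  suffices h : l.countP (fun x => f x && !g x) + l.countP (fun x => f x && g x) = l.countP f by omega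
  induction l with
  | nil => rfl
  | cons a l ih =>
    simp only [List.countP_cons]
    cases f a <;> cases g a <;> simp <;> omega

theorem walsh_spec : ∀ (n : ℕ) (f : ℕ → Bool), (walsh n f).length = 2 ^ n ∧
    ∀ h < 2 ^ n, (walsh n f).getD h 0 = (List.range (2 ^ n)).countP fun x => f x && ev n h.testBit x
  | 0, f => ⟨rfl, fun h hh => by
      obtain rfl : h = 0 := by simpa using hh
      simp [walsh, ev]⟩
  | n + 1, f => by
    obtain ⟨hA, eA⟩ := walsh_spec n f
    obtain ⟨hB, eB⟩ := walsh_spec n fun x => f (2 ^ n + x)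
    refine ⟨?_, fun h hh => ?_⟩
    · simp only [walsh, comb, List.length_append, List.length_zipWith, hA, hB]
      simp [pow_succ]; omega
    have hsplit : ∀ g : ℕ → Bool, (List.range (2 ^ (n + 1))).countP g =
        (List.range (2 ^ n)).countP g + (List.range (2 ^ n)).countP fun x => g (2 ^ n + x) := fun g => by
      rw [pow_succ, mul_two, List.range_add, List.countP_append, List.countP_map]
      rfl
    rw [hsplit]
    rcases Nat.lt_or_ge h (2 ^ n) with hlt | hge
    · have e1 : ∀ x, x < 2 ^ n → ev (n + 1) h.testBit x = ev n h.testBit x := fun x hx => by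
        simp [ev, Nat.testBit_lt_two_pow hx]
      have e2 : ∀ x, x < 2 ^ n → ev (n + 1) h.testBit (2 ^ n + x) = ev n h.testBit x := fun x hx => by
        simp [ev, Nat.testBit_lt_two_pow hlt, ev_low h.testBit n
          (x := 2 ^ n + x) (y := x) fun i hi => Nat.testBit_two_pow_add_gt hi x]
      simp only [walsh, comb]
      rw [List.getD_append _ _ _ _ (by simp [hA, hB, hlt]), List.getD_eq_getElem _ _ (by simp [hA, hB, hlt]),
        List.getElem_zipWith, ← List.getD_eq_getElem _ 0, ← List.getD_eq_getElem _ 0, eA h hlt, eB h hlt]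
      exact congrArg₂ (· + ·)
        (List.countP_congr fun x hx => by rw [e1 x (List.mem_range.1 hx)])
        (List.countP_congr fun x hx => by rw [e2 x (List.mem_range.1 hx)])
    · obtain ⟨h', rfl⟩ : ∃ h', h = 2 ^ n + h' := ⟨h - 2 ^ n, by omega⟩
      have hlt : h' < 2 ^ n := by rw [pow_succ] at hh; omega
      have hev : ∀ x, ev n (2 ^ n + h').testBit x = ev n h'.testBit x := fun x =>
        ev_congr (fun i hi => Nat.testBit_two_pow_add_gt hi h') x
      have htop : (2 ^ n + h').testBit n = true := by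
        rw [Nat.testBit_two_pow_add_eq, Nat.testBit_lt_two_pow hlt]; rfl
      have e1 : ∀ x, x < 2 ^ n → ev (n + 1) (2 ^ n + h').testBit x = ev n h'.testBit x := fun x hx => by
        simp [ev, hev, Nat.testBit_lt_two_pow hx]
      have e2 : ∀ x, x < 2 ^ n → ev (n + 1) (2 ^ n + h').testBit (2 ^ n + x) = !ev n h'.testBit x :=
        fun x hx => by
        simp [ev, hev, htop, Nat.testBit_two_pow_add_eq, Nat.testBit_lt_two_pow hx, ev_low h'.testBit n
          (x := 2 ^ n + x) (y := x) fun i hi => Nat.testBit_two_pow_add_gt hi x]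
      simp only [walsh, comb]
      rw [List.getD_append_right _ _ _ _ (by simp [hA, hB]), List.length_zipWith, hA, hB, Nat.min_self,
        Nat.add_sub_cancel_left, List.getD_eq_getElem _ _ (by simp [hA, hB, hlt]),
        List.getElem_zipWith, ← List.getD_eq_getElem _ 0, ← List.getD_eq_getElem _ 0, eA h' hlt, eB h' hlt,
        ← countP_xor_const]
      exact congrArg₂ (· + ·)
        (List.countP_congr fun x hx => by rw [e1 x (List.mem_range.1 hx)])
        (List.countP_congr fun x hx => by rw [e2 x (List.mem_range.1 hx)])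

/-- The number of members of the class at which a functional is odd. -/
def oddCount (h : ℕ) : ℕ := (List.range 2048).countP fun x => oMask.testBit x && ev 11 h.testBit x

theorem duad_iff {h : ℕ} (hh : h < 2048) :
    Thompson.duadMask.testBit (ap pCols h) = true ↔ oddCount h = 352 := by
  obtain ⟨hlen, hget⟩ := walsh_spec 11 fun x => oMask.testBit x
  have hmem : (oddCount h, h) ∈ (walsh 11 fun x => oMask.testBit x).zip (List.range 2048) := by
    have hb : h < ((walsh 11 fun x => oMask.testBit x).zip (List.range 2048)).length := by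
      rw [List.length_zip, hlen, List.length_range]; exact lt_min hh hh
    have e := List.getElem_mem hb
    rw [List.getElem_zip, List.getElem_range, ← List.getD_eq_getElem _ 0, hget h hh] at e
    exact e
  have hc := List.all_eq_true.1 walsh_check _ hmem
  rw [beq_iff_eq] at hc
  dsimp only at hc
  rw [← hc]
  rw [Nat.beq_eq]

theorem pCols_spec {x : ℕ} (hx : x < 2048) :
    ap piCols (ap pCols x) = x ∧ ap pCols (ap piCols x) = x ∧ ap pCols x < 2048 ∧ ap piCols x < 2048 := by
  have h := allR_spec pCols_check x (Nat.zero_le _) (by simpa using hx)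
  simp only [Bool.and_eq_true, Nat.beq_eq, Nat.blt_eq] at h
  exact ⟨h.1.1.1, h.1.1.2, h.1.2, h.2⟩

/-- The number with the given first bits. -/
def ofBits (f : ℕ → Bool) : ℕ → ℕ
  | 0 => 0
  | n + 1 => bif f n then 2 ^ n + ofBits f n else ofBits f n

theorem ofBits_spec (f : ℕ → Bool) : ∀ n, ofBits f n < 2 ^ n ∧ ∀ i < n, (ofBits f n).testBit i = f i
  | 0 => ⟨by simp [ofBits], fun i hi => absurd hi (Nat.not_lt_zero i)⟩
  | n + 1 => by
    obtain ⟨hlt, hbit⟩ := ofBits_spec f n
    cases hf : f n
    · simp only [ofBits, hf, cond_false]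
      refine ⟨hlt.trans (Nat.pow_lt_pow_right (by norm_num) (Nat.lt_succ_self n)), fun i hi => ?_⟩
      rcases Nat.lt_succ_iff_lt_or_eq.1 hi with h | rfl
      · exact hbit i h
      · rw [Nat.testBit_lt_two_pow hlt, hf]
    · simp only [ofBits, hf, cond_true]
      refine ⟨by rw [pow_succ]; omega, fun i hi => ?_⟩
      rcases Nat.lt_succ_iff_lt_or_eq.1 hi with h | rfl
      · rw [Nat.testBit_two_pow_add_gt h]; exact hbit i h
      · rw [Nat.testBit_two_pow_add_eq, Nat.testBit_lt_two_pow hlt, hf]; rfl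

theorem eq_of_bits {a b : ℕ} (ha : a < 2048) (hb : b < 2048) (h : ∀ i < 11, a.testBit i = b.testBit i) : a = b :=
  Nat.eq_of_testBit_eq fun i => by
    rcases Nat.lt_or_ge i 11 with hi | hi
    · exact h i hi
    · have h2 : 2048 ≤ 2 ^ i := (show 2048 = 2 ^ 11 by norm_num) ▸ Nat.pow_le_pow_right (by norm_num) hi
      rw [Nat.testBit_lt_two_pow (lt_of_lt_of_le ha h2), Nat.testBit_lt_two_pow (lt_of_lt_of_le hb h2)]

end Data

namespace Frame

variable {G : Type u} [Group G] [Finite G] {S : Sys G} {s : G} (F : Frame S s)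

/-- The number of an element of the subgroup. -/
noncomputable def idx (a : G) : ℕ :=
  open scoped _root_.Classical in if h : a ∈ F.A then (F.θ_surj h).choose else 0

theorem idx_spec {a : G} (ha : a ∈ F.A) : F.idx a < 2048 ∧ F.θ (F.idx a) = a := by
  rw [idx, dif_pos ha]; exact (F.θ_surj ha).choose_spec

theorem idx_eq {a : G} {x : ℕ} (hx : x < 2048) (h : F.θ x = a) : F.idx a = x := by
  obtain ⟨h1, h2⟩ := F.idx_spec (h ▸ F.θ_mem x)
  exact F.θ_inj h1 hx (h2.trans h.symm)

/-- The preimage under conjugation, on numbers. -/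
noncomputable def back (n : G) (x : ℕ) : ℕ := F.idx (n⁻¹ * F.θ x * n)

theorem back_spec {n : G} (hn : n ∈ F.N) (x : ℕ) :
    F.back n x < 2048 ∧ F.θ (F.back n x) = n⁻¹ * F.θ x * n := by
  refine F.idx_spec ?_
  have := F.conj_mem (inv_mem hn) (F.θ_mem x)
  rwa [inv_inv] at this

theorem back_xor {n : G} (hn : n ∈ F.N) (x y : ℕ) : F.back n (x ^^^ y) = F.back n x ^^^ F.back n y := by
  refine F.idx_eq (Nat.xor_lt_two_pow (n := 11) (F.back_spec hn x).1 (F.back_spec hn y).1) ?_
  rw [F.θ_xor, (F.back_spec hn x).2, (F.back_spec hn y).2, F.θ_xor]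
  group

theorem back_mul {n m : G} (hn : n ∈ F.N) (x : ℕ) :
    F.back (n * m) x = F.back m (F.back n x) := by
  show F.idx _ = F.idx _
  rw [(F.back_spec hn x).2]
  congr 1
  group

theorem back_one {x : ℕ} (hx : x < 2048) : F.back 1 x = x := F.idx_eq hx (by rw [inv_one, one_mul, mul_one])

/-- The action on functionals. -/
noncomputable def dual (n : G) (h : ℕ) : ℕ :=
  Data.ofBits (fun j => Data.ev 11 h.testBit (F.back n (2 ^ j))) 11

theorem dual_lt (n : G) (h : ℕ) : F.dual n h < 2048 := (Data.ofBits_spec _ 11).1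

theorem ev_dual {n : G} (hn : n ∈ F.N) (h : ℕ) {x : ℕ} (hx : x < 2048) :
    Data.ev 11 (F.dual n h).testBit x = Data.ev 11 h.testBit (F.back n x) := by
  refine Data.ext_bits (f := fun x => Data.ev 11 (F.dual n h).testBit x)
    (g := fun x => Data.ev 11 h.testBit (F.back n x)) xor (fun a b => Data.ev_xor _ a b 11)
    (fun a b => by simp only [F.back_xor hn, Data.ev_xor]) ?_ 11 (fun j hj => ?_) x hx
  · have h0 : F.back n 0 = 0 := F.idx_eq (by norm_num) (by simp [θ_zero])
    simp [h0, Data.ev_zero]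
  · simp only [Data.ev_two_pow, hj, decide_true, Bool.true_and, dual, (Data.ofBits_spec _ 11).2 j hj]

theorem dual_xor (n : G) (a b : ℕ) : F.dual n (a ^^^ b) = F.dual n a ^^^ F.dual n b := by
  refine Data.eq_of_bits (F.dual_lt _ _) (Nat.xor_lt_two_pow (n := 11) (F.dual_lt _ _) (F.dual_lt _ _))
    fun i hi => ?_
  simp only [Nat.testBit_xor, dual, (Data.ofBits_spec _ 11).2 i hi, Data.ev_xor_left]

theorem dual_mul {n m : G} (hn : n ∈ F.N) (hm : m ∈ F.N) (h : ℕ) :
    F.dual (n * m) h = F.dual n (F.dual m h) := by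
  refine Data.eq_of_bits (F.dual_lt _ _) (F.dual_lt _ _) fun i hi => ?_
  simp only [dual, (Data.ofBits_spec _ 11).2 i hi]
  rw [F.back_mul hn]
  exact (F.ev_dual hm h (F.back_spec hn _).1).symm

theorem dual_one {h : ℕ} (hh : h < 2048) : F.dual 1 h = h := by
  refine Data.eq_of_bits (F.dual_lt _ _) hh fun i hi => ?_
  simp only [dual, (Data.ofBits_spec _ 11).2 i hi, F.back_one (show 2 ^ i < 2048 from
    (show 2048 = 2 ^ 11 by norm_num) ▸ Nat.pow_lt_pow_right (by norm_num) hi), Data.ev_two_pow, hi,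
    decide_true, Bool.true_and]

/-- The action in the model with duads, as a map. -/
noncomputable def trFun (n : G) (x : Fin 2048) : Fin 2048 :=
  ⟨ap Data.pCols (F.dual n (ap Data.piCols x.val)), (Data.pCols_spec (F.dual_lt _ _)).2.2.1⟩

theorem trFun_mul (n m : F.N) (x : Fin 2048) :
    F.trFun (n * m : F.N).1 x = F.trFun n.1 (F.trFun m.1 x) := by
  refine Fin.ext ?_
  simp only [trFun, Subgroup.coe_mul]
  rw [(Data.pCols_spec (F.dual_lt m.1 _)).1, F.dual_mul n.2 m.2]

theorem trFun_one (x : Fin 2048) : F.trFun ((1 : F.N) : G) x = x := by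
  refine Fin.ext ?_
  simp only [trFun, Subgroup.coe_one]
  rw [F.dual_one (Data.pCols_spec x.isLt).2.2.2, (Data.pCols_spec x.isLt).2.1]

/-- The action in the model with duads. -/
noncomputable def tr : F.N →* Equiv.Perm (Fin 2048) :=
  MonoidHom.mk' (fun n =>
    { toFun := F.trFun n.1
      invFun := F.trFun (n⁻¹ : F.N).1
      left_inv := fun x => by rw [← F.trFun_mul, inv_mul_cancel, F.trFun_one]
      right_inv := fun x => by rw [← F.trFun_mul, mul_inv_cancel, F.trFun_one] })
    fun n m => Equiv.ext fun x => F.trFun_mul n m x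

theorem tr_ker (n : F.N) : F.tr n = 1 ↔ n.1 ∈ F.A := by
  constructor
  · intro h
    refine F.mem_A_iff.2 fun q hq => ?_
    obtain ⟨y, hy, rfl⟩ := F.θ_surj (F.p5_le hq)
    have hb : F.back n.1 y = y := by
      refine Data.eq_of_bits (F.back_spec n.2 y).1 hy fun i hi => ?_
      have h2 : 2 ^ i < 2048 := (show 2048 = 2 ^ 11 by norm_num) ▸ Nat.pow_lt_pow_right (by norm_num) hi
      have hd : F.dual n.1 (2 ^ i) = 2 ^ i := by
        have e := congrArg Fin.val (DFunLike.congr_fun h ⟨ap Data.pCols (2 ^ i), (Data.pCols_spec h2).2.2.1⟩)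
        simp only [tr, MonoidHom.mk'_apply, Equiv.coe_fn_mk, trFun, Equiv.Perm.one_apply,
          (Data.pCols_spec h2).1] at e
        have e' := congrArg (ap Data.piCols) e
        rwa [(Data.pCols_spec (F.dual_lt _ _)).1, (Data.pCols_spec h2).1] at e'
      have he := F.ev_dual n.2 (2 ^ i) hy
      rw [hd, Data.ev_pow, Data.ev_pow] at he
      simpa [hi] using he.symm
    have e := (F.back_spec n.2 y).2
    rw [hb] at e
    show n.1 * F.θ y = F.θ y * n.1
    conv_lhs => rw [e]
    group
  · intro h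
    refine Equiv.ext fun x => Fin.ext ?_
    have hd : F.dual n.1 (ap Data.piCols x.val) = ap Data.piCols x.val := by
      refine Data.eq_of_bits (F.dual_lt _ _) (Data.pCols_spec x.isLt).2.2.2 fun i hi => ?_
      have h2 : 2 ^ i < 2048 := (show 2048 = 2 ^ 11 by norm_num) ▸ Nat.pow_lt_pow_right (by norm_num) hi
      have hb : F.back n.1 (2 ^ i) = 2 ^ i := by
        refine F.idx_eq h2 ?_
        rw [mul_assoc, F.A_comm _ (F.θ_mem _) _ h, inv_mul_cancel_left]
      simp only [dual, (Data.ofBits_spec _ 11).2 i hi, hb, Data.ev_two_pow, hi, decide_true, Bool.true_and]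
    show ap Data.pCols (F.dual n.1 (ap Data.piCols x.val)) = x.val
    rw [hd, (Data.pCols_spec x.isLt).2.1]

instance : (F.A.subgroupOf F.N).Normal :=
  ⟨fun a ha n => Subgroup.mem_subgroupOf.2 (by simpa using F.conj_mem n.2 (Subgroup.mem_subgroupOf.1 ha))⟩

theorem A_le_N : F.A ≤ F.N := Subgroup.le_normalizer

variable {F} (hF : F.Standard)
include hF

theorem tr_duad (n : F.N) (d : Fin 2048) (hd : d.val ∈ Thompson.duads) : (F.tr n d).val ∈ Thompson.duads := by
  obtain ⟨h, hh, hd'⟩ : ∃ h < 2048, ap Data.pCols h = d.val :=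
    ⟨_, (Data.pCols_spec d.isLt).2.2.2, (Data.pCols_spec d.isLt).2.1⟩
  have hv : (F.tr n d).val = ap Data.pCols (F.dual n.1 h) := by
    show ap Data.pCols (F.dual n.1 (ap Data.piCols d.val)) = _
    rw [← hd', (Data.pCols_spec hh).1]
  rw [Thompson.mem_duads_iff d.isLt, ← hd', Data.duad_iff hh] at hd
  rw [Thompson.mem_duads_iff (F.tr n d).isLt, hv, Data.duad_iff (F.dual_lt _ _), ← hd, Data.oddCount,
    Data.oddCount, Data.count_eq, Data.count_eq]
  have hO : ∀ x < 2048, Data.oMask.testBit (F.back n.1 x) = Data.oMask.testBit x := fun x hx =>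
    (not_orb_rel hF hx (F.back_spec n.2 x).1 ⟨n.1⁻¹, inv_mem n.2, by
      rw [inv_inv, (F.back_spec n.2 x).2]⟩).symm
  refine Finset.card_bij (fun x _ => F.back n.1 x) (fun x hx => ?_) (fun x hx y hy e => ?_) (fun y hy => ?_)
  · simp only [Finset.mem_filter, Finset.mem_range, Bool.and_eq_true] at hx ⊢
    refine ⟨(F.back_spec n.2 x).1, ?_, ?_⟩
    · rw [hO x hx.1]; exact hx.2.1
    · rw [← F.ev_dual n.2 h hx.1]; exact hx.2.2
  · simp only [Finset.mem_filter, Finset.mem_range] at hx hy
    refine F.θ_inj hx.1 hy.1 ?_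
    have e' := congrArg F.θ e
    rw [(F.back_spec n.2 x).2, (F.back_spec n.2 y).2] at e'
    exact mul_left_cancel (mul_right_cancel e')
  · simp only [Finset.mem_filter, Finset.mem_range, Bool.and_eq_true] at hy
    obtain ⟨x, hx, hxe⟩ := F.θ_surj (F.conj_mem n.2 (F.θ_mem y))
    have hxy : F.back n.1 x = y := F.idx_eq hy.1 (by rw [hxe]; group)
    refine ⟨x, ?_, hxy⟩
    simp only [Finset.mem_filter, Finset.mem_range, Bool.and_eq_true]
    exact ⟨hx, by rw [← hO x hx, hxy]; exact hy.2.1, by rw [F.ev_dual n.2 h hx, hxy]; exact hy.2.2⟩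

/-- The quotient is the Mathieu group. -/
theorem quot_M24 : Nonempty (↥F.N ⧸ F.A.subgroupOf F.N ≃* ↥Cfsg.M24) := by
  let phi : ↥F.N ⧸ F.A.subgroupOf F.N →* Equiv.Perm (Fin 2048) :=
    QuotientGroup.lift _ F.tr fun n hn => (F.tr_ker n).2 (Subgroup.mem_subgroupOf.1 hn)
  have hinj : Function.Injective phi := by
    rw [injective_iff_map_eq_one]
    intro m hm
    obtain ⟨n, rfl⟩ := QuotientGroup.mk'_surjective _ m
    exact (QuotientGroup.eq_one_iff n).2 (Subgroup.mem_subgroupOf.2 ((F.tr_ker n).1 hm))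
  have hadd : ∀ m (a b : Fin 2048), (phi m (a ^^^ b)).val = (phi m a).val ^^^ (phi m b).val := by
    intro m a b
    obtain ⟨n, rfl⟩ := QuotientGroup.mk'_surjective _ m
    show ap Data.pCols (F.dual n.1 (ap Data.piCols (a ^^^ b).val)) = _
    rw [show (a ^^^ b).val = (a.val ^^^ b.val) % 2048 from rfl,
      Nat.mod_eq_of_lt (Nat.xor_lt_two_pow (n := 11) a.isLt b.isLt), ap_add, F.dual_xor, ap_add]
    rfl
  have hduad : ∀ m (d : Fin 2048), d.val ∈ Thompson.duads → (phi m d).val ∈ Thompson.duads := by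
    intro m d hd
    obtain ⟨n, rfl⟩ := QuotientGroup.mk'_surjective _ m
    exact tr_duad hF n d hd
  obtain ⟨ψ, hψM, hψ⟩ := Thompson.exists_hom phi hadd hduad
  have hψi := Thompson.hom_injective phi hinj hadd hduad ψ hψ
  have hle : Nat.card (↥F.N ⧸ F.A.subgroupOf F.N) ≤ 244823040 := by
    rw [← CfsgLib.Golay.card_M24]
    exact Nat.card_le_card_of_injective (fun m => (⟨ψ m, hψM m⟩ : Cfsg.M24))
      fun a b e => hψi (congrArg Subtype.val e)
  have hge : 244823040 ≤ Nat.card (↥F.N ⧸ F.A.subgroupOf F.N) := by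
    have h := card_N_ge hF
    rw [Subgroup.card_eq_card_quotient_mul_card_subgroup (F.A.subgroupOf F.N),
      Nat.card_congr (Subgroup.subgroupOfEquivOfLe F.A_le_N).toEquiv, F.card_A, mul_comm] at h
    exact Nat.le_of_mul_le_mul_right h (by norm_num)
  exact (Thompson.exists_equiv_M24 (le_antisymm hle hge) phi hinj hadd hduad).1

end Frame

end CfsgLib.CoOneEleven
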