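import Cfsg.Agent.Lib.CoOneEleven.Coord

/-!
Elements of the normalizer moving the central involution, and the part of its class above the lines.
-/

set_option autoImplicit false
set_option linter.style.haveILetI false
set_option synthInstance.maxSize 20000
set_option maxRecDepth 20000
set_option maxHeartbeats 1000000

namespace CfsgLib.CoOneEleven

open CfsgLib.Classical.Quad CfsgLib.CoOneType
open CfsgLib.LargeFischer CfsgLib.LargeFischer.Plane CfsgLib.Golay

universe u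

variable {G : Type u} [Group G] [Finite G] {S : Sys G} {s : G}

theorem inW'_iff_flip : ∀ v : V8, InW' v ↔ InW (rf (emb (e3 + f3)) v) := by decide +kernel

theorem BV_smul_right (c : ZMod 2) (x y : V8) : BV x (c • y) = c * BV x y := by
  rcases zcases c with rfl | rfl
  · rw [zero_smul, zero_mul]; simp [BV, BW]
  · rw [one_smul, one_mul]

/-- Conjugation between centralizers. -/
theorem cent_eq_of_conj {π : G → V8} (M : Model s (S.E s) π) {A : Subgroup G} (hA : Nat.card A = 2048)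
    {P : Subgroup G} (hAP : A ≤ Subgroup.centralizer (P : Set G)) {n : G}
    (hn : ∀ q ∈ p5 M, n * q * n⁻¹ ∈ P) : Subgroup.centralizer (P : Set G) = A := by
  refine (Subgroup.eq_of_le_of_card_ge hAP ?_).symm
  rw [hA]
  refine le_trans (Nat.card_le_card_of_injective
    (fun y : Subgroup.centralizer (P : Set G) => (⟨n⁻¹ * y.1 * n, (mem_cent M).2 fun q hq => ?_⟩ : cent M))
    fun x y h => Subtype.ext (mul_left_cancel (mul_right_cancel (congrArg Subtype.val h)))) (card_cent_le M)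
  have h := Subgroup.mem_centralizer_iff.1 y.2 _ (hn q hq)
  show n⁻¹ * y.1 * n * q = q * (n⁻¹ * y.1 * n)
  calc n⁻¹ * y.1 * n * q = n⁻¹ * (y.1 * (n * q * n⁻¹)) * n := by group
    _ = n⁻¹ * ((n * q * n⁻¹) * y.1) * n := by rw [h]
    _ = q * (n⁻¹ * y.1 * n) := by group

/-- A complement of a non-zero number below sixteen. -/
def bOf (a : Fin 16) (j : Fin 8) : Fin 16 :=
  let l := Nat.log2 a.val
  ⟨(j.val % 2 ^ l + 2 ^ (l + 1) * (j.val / 2 ^ l)) % 16, Nat.mod_lt _ (by norm_num)⟩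

theorem bOf_facts : ∀ a : Fin 16, a ≠ 0 →
    bOf a 0 = 0 ∧ (∀ j, bOf a j ≠ a ∧ (wOf (bOf a j).val = 0 → bOf a j = 0)) ∧
    ∀ j j', (∀ i, rootMap (wOf a.val) (wOf (bOf a j).val) (dv i) = rootMap (wOf a.val) (wOf (bOf a j').val) (dv i)) →
      j = j' := by
  decide +kernel

theorem inW_wOf' : ∀ a : Fin 16, InW (wOf a.val) ∧ (a ≠ 0 → wOf a.val ≠ 0) := by decide +kernel

namespace Frame

variable (F : Frame S s)

/-- The normalizer. -/
def N : Subgroup G := Subgroup.normalizer (F.A : Set G)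

theorem self_mem : s ∈ F.A := F.p5_le (self_mem_p5 F.M)

theorem p5_K {q : G} (hq : q ∈ p5 F.M) (h1 : q ≠ 1) : S.K q :=
  S.K_of_mem F.hK hq.1 ((F.M.sq_eq_one hq.1).2 hq.2.qV_eq) h1

theorem p5_image_ne {qa : G} (hq : qa ∈ p5 F.M) (h1 : qa ≠ 1) (hs : qa ≠ s) : F.π qa ≠ 0 := fun e => by
  rcases (F.M.ker qa hq.1).1 e with e | e
  exacts [h1 e, hs e]

theorem mem_E_of {qa : G} (hq : qa ∈ p5 F.M) (h1 : qa ≠ 1) (hs : qa ≠ s) : s ∈ S.E qa :=
  S.mem_symm F.hK (F.p5_K hq h1) hq.1 hs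

theorem card_point_le {qa : G} (hqa : qa ∈ p5 F.M) (h1 : qa ≠ 1) (hs : qa ≠ s) :
    32 ≤ Nat.card ↥(S.E qa ⊓ F.A) := by
  classical
  have ha0 := F.p5_image_ne hqa h1 hs
  obtain ⟨a, ha⟩ := inW_wOf _ hqa.2
  have hane : a ≠ 0 := fun e => ha0 (by rw [← ha, e]; decide)
  obtain ⟨hb0, hbne, hbinj⟩ := bOf_facts a hane
  obtain ⟨π', hN⟩ := S.model qa (F.p5_K hqa h1)
  have ht : ∀ j : Fin 8, ∃ t, t ∈ S.E qa ∧ Fix F.M t ∧
      ∀ q ∈ S.E s, F.π (t * q * t⁻¹) = rootMap (wOf a.val) (wOf (bOf a j).val) (F.π q) := fun j => by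
    by_cases hb : bOf a j = 0
    · refine ⟨1, (S.E qa).one_mem, fun q _ => Commute.one_left q, fun q _ => ?_⟩
      rw [one_mul, inv_one, mul_one, hb, show wOf ((0 : Fin 16) : ℕ) = 0 by decide]
      simp [rootMap, BV, BW]
    · obtain ⟨t, h1, -, -, -, h5, h6⟩ := exists_fix_root F.M F.hK (inW_wOf' a).1 (inW_wOf' (bOf a j)).1
        ((inW_wOf' a).2 hane) ((inW_wOf' _).2 hb)
        (fun e => (hbne j).1 (wOf_inj _ _ e)) hqa.1 ha.symm
      exact ⟨t, h1, h5, h6⟩
  choose t htE htF hta using ht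
  have hlow : ∀ e : ZMod 2 × ZMod 2, pw qa e.1 * pw s e.2 ∈ S.E qa ∧ pw qa e.1 * pw s e.2 ∈ p5 F.M := fun e => by
    constructor <;> refine mul_mem ?_ ?_ <;> (unfold pw; split_ifs)
    exacts [(S.E qa).one_mem, hN.mem, (S.E qa).one_mem, F.mem_E_of hqa h1 hs, one_mem _, hqa, one_mem _,
      self_mem_p5 F.M]
  have hmem : ∀ e : Fin 8 × ZMod 2 × ZMod 2, t e.1 * (pw qa e.2.1 * pw s e.2.2) ∈ S.E qa ⊓ F.A := fun e =>
    ⟨(S.E qa).mul_mem (htE _) (hlow e.2).1, F.mem_A_iff.2 ((htF _).mul F.M (fix_of_mem F.M (hlow e.2).2))⟩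
  have hinj : Function.Injective fun e => (⟨_, hmem e⟩ : ↥(S.E qa ⊓ F.A)) := by
    rintro ⟨j, e⟩ ⟨j', e'⟩ h
    have h' : t j * (pw qa e.1 * pw s e.2) = t j' * (pw qa e'.1 * pw s e'.2) := congrArg Subtype.val h
    have hj : j = j' := hbinj j j' fun i => by
      have hc : ∀ {x q : G}, x ∈ p5 F.M → q ∈ S.E s → ∀ j,
          F.π (t j * x * q * (t j * x)⁻¹) = rootMap (wOf a.val) (wOf (bOf a j).val) (F.π q) := fun {x q} hx hq j => by
        rw [show t j * x * q * (t j * x)⁻¹ = t j * (x * q * x⁻¹) * (t j)⁻¹ by group,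
          hta j _ (F.M.normal x (fix_of_mem F.M hx).comm_s q hq), F.M.map_conj hx.1 hq]
      have e1 := hc (hlow e).2 (F.qd_mem i) j
      have e2 := hc (hlow e').2 (F.qd_mem i) j'
      rw [h', e2, F.qd_π] at e1
      exact e1.symm
    subst hj
    have h'' := mul_left_cancel h'
    have hπ : ∀ e : ZMod 2 × ZMod 2, F.π (pw qa e.1 * pw s e.2) = e.1 • F.π qa := fun e => by
      rw [F.M.map_mul _ (by unfold pw; split_ifs; exacts [(S.E s).one_mem, hqa.1]) _ (F.M.pw_mem _), F.M.map_pw,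
        add_zero]
      rcases zcases e.1 with r | r <;> rw [r]
      · rw [pw_zero, F.M.map_one, zero_smul]
      · rw [pw_one, one_smul]
    have e1 : e.1 = e'.1 := by
      have h3 := congrArg F.π h''
      rw [hπ, hπ] at h3
      rcases zcases e.1 with r | r <;> rcases zcases e'.1 with r' | r' <;> rw [r, r'] at h3 ⊢ <;>
        simp only [zero_smul, one_smul] at h3
      exacts [absurd h3.symm ha0, absurd h3 ha0]
    rw [e1, mul_right_inj] at h''
    exact Prod.ext rfl (Prod.ext e1 (pw_inj F.M.ne_one h''))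
  have h := Nat.card_le_card_of_injective _ hinj
  rwa [Nat.card_prod, Nat.card_prod, Nat.card_zmod, Nat.card_fin] at h

/-- An element of the normalizer carrying the subgroup over the totally singular space to the one at a point. -/
theorem exists_move {qa : G} (hqa : qa ∈ p5 F.M) (h1 : qa ≠ 1) (hs : qa ≠ s) :
    ∃ n ∈ F.N, n * s * n⁻¹ = qa ∧ ∀ x, x ∈ S.E qa → x ∈ F.A → n⁻¹ * x * n ∈ p5 F.M := by
  classical
  set P := S.E qa ⊓ F.A with hP
  obtain ⟨g, hg⟩ := isConj_iff.1 (S.K_isConj s qa F.hK (F.p5_K hqa h1))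
  have hpE : ∀ x : P, g⁻¹ * x.1 * g ∈ S.E s := fun x => by
    refine (S.E_conj g s F.hK _).1 ?_
    rw [hg, show g * (g⁻¹ * x.1 * g) * g⁻¹ = x.1 by group]
    exact x.2.1
  have hcomm : ∀ x y : P, Commute (g⁻¹ * x.1 * g) (g⁻¹ * y.1 * g) := fun x y => by
    have h : x.1 * y.1 = y.1 * x.1 := F.A_comm _ x.2.2 _ y.2.2
    show g⁻¹ * x.1 * g * (g⁻¹ * y.1 * g) = g⁻¹ * y.1 * g * (g⁻¹ * x.1 * g)
    rw [show g⁻¹ * x.1 * g * (g⁻¹ * y.1 * g) = g⁻¹ * (x.1 * y.1) * g by group, h]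
    group
  have hsq : ∀ x : P, g⁻¹ * x.1 * g * (g⁻¹ * x.1 * g) = 1 := fun x => by
    rw [show g⁻¹ * x.1 * g * (g⁻¹ * x.1 * g) = g⁻¹ * (x.1 * x.1) * g by group, F.A_sq _ x.2.2]
    group
  let f : P → V8 := fun x => F.π (g⁻¹ * x.1 * g)
  have himg : 16 ≤ Nat.card (Set.range f) := by
    let rep : V8 → P := fun v => if h : ∃ x, f x = v then h.choose else 1
    have hrep : ∀ x, f (rep (f x)) = f x := fun x => by
      have h : ∃ y, f y = f x := ⟨x, rfl⟩
      simp only [rep, dif_pos h]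
      exact h.choose_spec
    have hinj : Function.Injective fun x : P =>
        ((⟨f x, x, rfl⟩ : Set.range f), (if x = rep (f x) then (0 : ZMod 2) else 1)) := by
      intro x y h
      have hb : (if x = rep (f x) then (0 : ZMod 2) else 1) = if y = rep (f y) then 0 else 1 :=
        congrArg Prod.snd h
      replace h : f x = f y := congrArg (fun p : Set.range f × ZMod 2 => p.1.1) h
      rw [h] at hb
      by_cases hx : x = rep (f y) <;> by_cases hy : y = rep (f y)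
      · exact hx.trans hy.symm
      · simp [hx.symm, hy] at hb; exact hb.symm
      · simp [hx, hy.symm] at hb; exact hb
      · rcases F.M.eq_of_map (hpE x) (hpE (rep (f y))) (h.trans (hrep y).symm) with e | e
        · exact absurd (Subtype.ext (mul_left_cancel (mul_right_cancel e))) hx
        · rcases F.M.eq_of_map (hpE y) (hpE (rep (f y))) (hrep y).symm with e' | e'
          · exact absurd (Subtype.ext (mul_left_cancel (mul_right_cancel e'))) hy
          · exact Subtype.ext (mul_left_cancel (mul_right_cancel (e.trans e'.symm)))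
    have h := (F.card_point_le hqa h1 hs).trans (Nat.card_le_card_of_injective _ hinj)
    rw [Nat.card_prod, Nat.card_zmod] at h
    change 32 ≤ Nat.card ↥(Set.range f) * 2 at h
    show 16 ≤ Nat.card ↥(Set.range f)
    omega
  have hq : ∀ v ∈ Set.range f, qV v = 0 := by
    rintro _ ⟨x, rfl⟩
    exact (F.M.sq_eq_one (hpE x)).1 (hsq x)
  obtain ⟨k, hk, hcases⟩ := classify (Set.range f)
    ⟨1, by simp [f, F.M.map_one]⟩
    (by
      rintro _ ⟨x, rfl⟩ _ ⟨y, rfl⟩
      exact ⟨x * y, by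
        simp only [f]
        rw [← F.M.map_mul _ (hpE x) _ (hpE y)]
        congr 1
        simp only [Subgroup.coe_mul]
        group⟩) hq
    (by
      rintro _ ⟨x, rfl⟩ _ ⟨y, rfl⟩
      exact (F.M.commute_iff (hpE x) (hpE y)).1 (hcomm x y))
    himg
  obtain ⟨c, hc⟩ := F.M.lift k hk
  set n := g * c⁻¹ with hn
  have hns : n * s * n⁻¹ = qa := by
    rw [hn, ← hg, show g * c⁻¹ * s * (g * c⁻¹)⁻¹ = g * (c⁻¹ * s * c) * g⁻¹ by group,
      hc.1.inv_left.eq, inv_mul_cancel_right]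
  have hto : ∀ x : P, n⁻¹ * x.1 * n ∈ S.E s ∧ F.π (n⁻¹ * x.1 * n) = k.1 (f x) := fun x => by
    rw [hn, show (g * c⁻¹)⁻¹ * x.1 * (g * c⁻¹) = c * (g⁻¹ * x.1 * g) * c⁻¹ by group]
    exact ⟨F.M.normal c hc.1 _ (hpE x), hc.2 _ (hpE x)⟩
  have hAP : F.A ≤ Subgroup.centralizer (P : Set G) := fun a ha =>
    Subgroup.mem_centralizer_iff.2 fun x hx => F.A_comm x hx.2 a ha
  -- an injection of the point subgroup into a small subgroup is onto
  have honto : ∀ {π' : G → V8} (M' : Model s (S.E s) π'), (∀ x : P, n⁻¹ * x.1 * n ∈ p5 M') →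
      ∀ q ∈ p5 M', n * q * n⁻¹ ∈ P := fun {π'} M' h q hq => by
    have hb : Function.Bijective fun x : P => (⟨_, h x⟩ : p5 M') :=
      (Nat.bijective_iff_injective_and_card _).2
        ⟨fun x y e => Subtype.ext (mul_left_cancel (mul_right_cancel (congrArg Subtype.val e))),
          le_antisymm (Nat.card_le_card_of_injective _ fun x y e =>
            Subtype.ext (mul_left_cancel (mul_right_cancel (congrArg Subtype.val
              (show (⟨_, h x⟩ : p5 M') = ⟨_, h y⟩ from e)))))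
            ((card_p5_le M').trans (F.card_point_le hqa h1 hs))⟩
    obtain ⟨x, hx⟩ := hb.2 ⟨q, hq⟩
    have e : n⁻¹ * x.1 * n = q := congrArg Subtype.val hx
    rw [← e, show n * (n⁻¹ * x.1 * n) * n⁻¹ = x.1 by group]
    exact x.2
  rcases hcases with hW | hW
  · have hto' : ∀ x : P, n⁻¹ * x.1 * n ∈ p5 F.M := fun x =>
      ⟨(hto x).1, by rw [(hto x).2]; exact hW _ ⟨x, rfl⟩⟩
    have hPA := honto F.M hto'
    have heq := cent_eq_of_conj F.M F.card_A hAP hPA
    refine ⟨n, ?_, hns, fun x hx hxA => hto' ⟨x, hx, hxA⟩⟩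
    refine Subgroup.mem_normalizer_iff.2 fun y => ⟨fun hy => ?_, fun hy => ?_⟩
    · rw [← heq]
      refine Subgroup.mem_centralizer_iff.2 fun x hx => ?_
      have h : Commute y (n⁻¹ * x * n) := F.mem_A_iff.1 hy _ (hto' ⟨x, hx⟩)
      calc x * (n * y * n⁻¹) = n * ((n⁻¹ * x * n) * y) * n⁻¹ := by group
        _ = n * (y * (n⁻¹ * x * n)) * n⁻¹ := by rw [h.eq]
        _ = n * y * n⁻¹ * x := by group
    · refine F.mem_A_iff.2 fun q hq => ?_
      have h : n * q * n⁻¹ * (n * y * n⁻¹) = n * y * n⁻¹ * (n * q * n⁻¹) :=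
        Subgroup.mem_centralizer_iff.1 (hAP hy) _ (hPA q hq)
      show y * q = q * y
      calc y * q = n⁻¹ * (n * y * n⁻¹ * (n * q * n⁻¹)) * n := by group
        _ = n⁻¹ * (n * q * n⁻¹ * (n * y * n⁻¹)) * n := by rw [h]
        _ = q * y := by group
  · exfalso
    set M' := comp' F.M flipK with hM'
    have hto' : ∀ x : P, n⁻¹ * x.1 * n ∈ p5 M' := fun x =>
      ⟨(hto x).1, by
        show InW (flipK.1 (F.π (n⁻¹ * x.1 * n)))
        rw [(hto x).2, flip_apply]
        exact (inW'_iff_flip _).1 (hW _ ⟨x, rfl⟩)⟩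
    have hPA := honto M' hto'
    have heq := cent_eq_of_conj M' F.card_A hAP hPA
    have hmem : ∀ z, Fix M' z → n * z * n⁻¹ ∈ F.A := fun z hz => by
      rw [← heq]
      refine Subgroup.mem_centralizer_iff.2 fun x hx => ?_
      have h : Commute z (n⁻¹ * x * n) := hz _ (hto' ⟨x, hx⟩)
      calc x * (n * z * n⁻¹) = n * ((n⁻¹ * x * n) * z) * n⁻¹ := by group
        _ = n * (z * (n⁻¹ * x * n)) * n⁻¹ := by rw [h.eq]
        _ = n * z * n⁻¹ * x := by group
    obtain ⟨x, x', hx, hx', hne⟩ := F.bad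
    refine hne ?_
    have h := F.A_comm _ (hmem x hx) _ (hmem x' hx')
    show x * x' = x' * x
    calc x * x' = n⁻¹ * (n * x * n⁻¹ * (n * x' * n⁻¹)) * n := by group
      _ = n⁻¹ * (n * x' * n⁻¹ * (n * x * n⁻¹)) * n := by rw [h]
      _ = x' * x := by group

end Frame

end CfsgLib.CoOneEleven
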