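import Cfsg.Agent.Lib.CoOneEleven.Action

/-!
The orbit of the central involution under the normalizer.
-/

set_option autoImplicit false
set_option linter.style.haveILetI false
set_option synthInstance.maxSize 20000
set_option maxRecDepth 20000
set_option maxHeartbeats 1000000

namespace CfsgLib.CoOneEleven

open CfsgLib.Classical.Quad CfsgLib.CoOneType
open CfsgLib.LargeFischer CfsgLib.LargeFischer.Plane CfsgLib.Golay

universe u

namespace Data

theorem halves : (rootInfo.all fun e =>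
    let sub4 : List ℕ := [0, 1, 2 * e.2.1, 1 ^^^ 2 * e.2.1]
    (lineShift e.2.1 e.2.2.1).all fun z1 => (lineShift e.2.1 e.2.2.1).all fun z2 =>
      sub4.contains (z1 ^^^ z2) || (lineShift e.2.1 e.2.2.1).all fun z =>
        sub4.contains (z1 ^^^ z) || sub4.contains (z2 ^^^ z)) = true := by
  decide +kernel

theorem root_entries : (rootInfo.all fun e => Nat.blt e.1 64 && Nat.blt e.2.1 16 && Nat.blt e.2.2.1 16 &&
    !Nat.beq e.2.1 0 && !Nat.beq e.2.2.1 0 && !Nat.beq e.2.1 e.2.2.1 && Nat.blt e.2.2.2 2048) = true := by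
  decide +kernel

theorem entry_facts {r a b base : ℕ} (h : (r, a, b, base) ∈ rootInfo) :
    r < 64 ∧ a < 16 ∧ b < 16 ∧ a ≠ 0 ∧ b ≠ 0 ∧ a ≠ b ∧ base < 2048 := by
  have := List.all_eq_true.1 root_entries _ h
  simp only [Bool.and_eq_true, Nat.blt_eq, Bool.not_eq_true', ← Bool.not_eq_true, Nat.beq_eq] at this
  obtain ⟨⟨⟨⟨⟨⟨h1, h2⟩, h3⟩, h4⟩, h5⟩, h6⟩, h7⟩ := this
  exact ⟨h1, h2, h3, h4, h5, h6, h7⟩

theorem cover {r : ℕ} (hr : r < 64) (h0 : r ≠ 0) :
    (∃ a b base, (r, a, b, base) ∈ rootInfo) ∨ r ∈ bigs := by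
  have h := allR_spec cover_check.1 r (Nat.zero_le _) (by simpa using hr)
  simp only [Bool.or_eq_true, Nat.beq_eq, h0, false_or, bne_iff_ne, ne_eq] at h
  by_cases hb : r ∈ bigs
  · exact Or.inr hb
  · have hm : r ∈ rootInfo.map Prod.fst := by
      by_contra hm
      rw [← List.contains_iff_mem, Bool.not_eq_true] at hb hm
      exact h (hm.trans hb.symm)
    obtain ⟨⟨r', a, b, base⟩, hmem, rfl⟩ := List.mem_map.1 hm
    exact Or.inl ⟨a, b, base, hmem⟩

end Data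

theorem perp_coords : ∀ x : V8, ∃ q : Fin 16, ∀ i, BV x (wv i) = BV (dOf q.val) (wv i) := by decide +kernel

theorem root_delta_check : (Data.rootInfo.all fun e => (List.range 16).all fun q =>
    decide (dOf q + delta e.1 (dOf q) = rootMap (wOf e.2.1) (wOf e.2.2.1) (dOf q))) = true := by
  decide +kernel

theorem root_delta {r a b base : ℕ} (h : (r, a, b, base) ∈ Data.rootInfo) (x : V8) :
    rootMap (wOf a) (wOf b) x = x + delta r x := by
  obtain ⟨q, hq⟩ := perp_coords x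
  have hd : delta r x = delta r (dOf q.val) := by simp only [delta, hq]
  have hw : ∀ c : ℕ, BV x (wOf c) = BV (dOf q.val) (wOf c) := fun c => by
    simp only [wOf, BV_add_right, BV_smul_right, hq]
  have h1 := List.all_eq_true.1 (List.all_eq_true.1 root_delta_check _ h) q.val (List.mem_range.2 q.isLt)
  have h2 : dOf q.val + delta r (dOf q.val) = rootMap (wOf a) (wOf b) (dOf q.val) := of_decide_eq_true h1
  rw [rootMap, add_assoc (dOf q.val)] at h2
  rw [hd, add_left_cancel h2, rootMap, hw, hw, add_assoc]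

namespace Frame

variable {G : Type u} [Group G] [Finite G] {S : Sys G} {s : G} (F : Frame S s)

/-- Membership in the orbit of the central involution. -/
def Orb (x : ℕ) : Prop := ∃ n ∈ F.N, n * s * n⁻¹ = F.θ x

theorem orb_one : F.Orb 1 := ⟨1, one_mem _, by rw [one_mul, inv_one, mul_one, θ_one]⟩

theorem orb_conj {g : G} (hg : g ∈ F.N) {x y : ℕ} (h : g * F.θ x * g⁻¹ = F.θ y) : F.Orb x ↔ F.Orb y := by
  constructor
  · rintro ⟨n, hn, e⟩
    exact ⟨g * n, mul_mem hg hn, by rw [← h, ← e]; group⟩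
  · rintro ⟨n, hn, e⟩
    refine ⟨g⁻¹ * n, mul_mem (inv_mem hg) hn, ?_⟩
    rw [show g⁻¹ * n * s * (g⁻¹ * n)⁻¹ = g⁻¹ * (n * s * n⁻¹) * g by group, e, ← h]
    group

theorem orb_K {x : ℕ} (h : F.Orb x) : S.K (F.θ x) := by
  obtain ⟨n, -, e⟩ := h
  exact e ▸ S.K_conj n s F.hK

theorem not_orb_zero : ¬ F.Orb 0 := fun h => (S.K_sq (F.orb_K h)).2 F.θ_zero

theorem p5_orb {q : G} (hq : q ∈ p5 F.M) (h1 : q ≠ 1) : ∃ n ∈ F.N, n * s * n⁻¹ = q := by
  by_cases hs : q = s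
  · exact ⟨1, one_mem _, by rw [hs, one_mul, inv_one, mul_one]⟩
  · obtain ⟨n, hn, e, -⟩ := F.exists_move hq h1 hs
    exact ⟨n, hn, e⟩

theorem point_orb {qa : G} (hqa : qa ∈ p5 F.M) (h1 : qa ≠ 1) (hs : qa ≠ s) {x : ℕ}
    (hx : F.θ x ∈ S.E qa) (hx1 : F.θ x ≠ 1) : F.Orb x := by
  obtain ⟨n, hn, e, hP⟩ := F.exists_move hqa h1 hs
  have hne : n⁻¹ * F.θ x * n ≠ 1 := fun h => hx1 (by
    rw [show F.θ x = n * (n⁻¹ * F.θ x * n) * n⁻¹ by group, h]; group)
  obtain ⟨m, hm, em⟩ := F.p5_orb (hP _ hx (F.θ_mem x)) hne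
  exact ⟨n * m, mul_mem hn hm, by
    rw [show n * m * s * (n * m)⁻¹ = n * (m * s * m⁻¹) * n⁻¹ by group, em]; group⟩

theorem low_orb {x : ℕ} (hx : x < 32) : F.Orb x ↔ x ≠ 0 := by
  refine ⟨fun h e => F.not_orb_zero (e ▸ h), fun h0 => ?_⟩
  exact F.p5_orb (F.θ_p5 hx).1 fun e => h0 (F.θ_ker (by omega) e)

theorem θ_act_root {r a b base : ℕ} (h : (r, a, b, base) ∈ Data.rootInfo) {x : ℕ} (hr : x / 32 = r) {q : G}
    (hq : q ∈ S.E s) : F.π (F.θ x * q * (F.θ x)⁻¹) = rootMap (wOf a) (wOf b) (F.π q) := by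
  rw [F.θ_act x hq, hr, root_delta h]

theorem point_facts {a : ℕ} (ha : a < 16) (h0 : a ≠ 0) :
    F.θ (2 * a) ∈ p5 F.M ∧ F.π (F.θ (2 * a)) = wOf a ∧ F.θ (2 * a) ≠ 1 ∧ F.θ (2 * a) ≠ s ∧
      F.θ (2 * a) * s = F.θ (1 ^^^ 2 * a) ∧ InW (wOf a) ∧ wOf a ≠ 0 := by
  obtain ⟨h1, h2⟩ := F.θ_p5 (n := 2 * a) (by omega)
  refine ⟨h1, by rw [h2, Nat.mul_div_cancel_left _ (by norm_num : 0 < 2)], fun e => ?_, fun e => ?_, ?_,
    (inW_wOf' ⟨a, ha⟩).1, (inW_wOf' ⟨a, ha⟩).2 fun e => h0 (congrArg Fin.val e)⟩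
  · exact h0 (by have := F.θ_ker (by omega) e; omega)
  · have := F.θ_inj (by omega : 2 * a < 2048) (by norm_num) (e.trans F.θ_one.symm)
    omega
  · rw [Nat.xor_comm, θ_xor, θ_one]

theorem root_in_set {r a b base : ℕ} (h : (r, a, b, base) ∈ Data.rootInfo) {x : ℕ} (hx : x < 2048)
    (hr : x / 32 = r) (hK : S.K (F.θ x)) : (Data.lineShift a b).contains (x ^^^ base) = true := by
  obtain ⟨-, ha, hb, ha0, hb0, hab, -⟩ := Data.entry_facts h
  obtain ⟨hp, hpπ, hp1, hps, hpm, haW, haN⟩ := F.point_facts ha ha0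
  obtain ⟨-, -, -, -, -, hbW, hbN⟩ := F.point_facts hb hb0
  have hne : wOf b ≠ wOf a := fun e => hab (congrArg Fin.val (wOf_inj ⟨b, hb⟩ ⟨a, ha⟩ e)).symm
  have hact := fun q (hq : q ∈ S.E s) => F.θ_act_root h hr hq
  have hmem := mem_of_K F.M F.hK haW.qV_eq hbW.qV_eq (hbW.perp haW) haN hbN hne hp.1 hpπ hK
    (F.θ_fix x).comm_s hact
  have hfixq : ∀ q : ℕ, q < 16 → Data.dot4 q a = false → Data.dot4 q b = false → Data.tq q x = x := by
    intro q hq hqa hqb
    refine F.θ_inj (Data.tq_lt hx) hx ?_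
    rw [← qq_conj]
    refine conj_eq_iff_commute.2 (Commute.symm ?_)
    have h1 : BV (F.π (F.qq q)) (wOf a) = 0 := by
      rw [(F.qq_mem q).2, dot_facts ⟨q, hq⟩ ⟨a, ha⟩, hqa]; rfl
    have h2 : BV (F.π (F.qq q)) (wOf b) = 0 := by
      rw [(F.qq_mem q).2, dot_facts ⟨q, hq⟩ ⟨b, hb⟩, hqb]; rfl
    rcases hmem with hm | hm
    · exact comm_of_mem F.M F.hK haW.qV_eq haN (hbW.perp haW) hbW.qV_eq hp.1 hpπ hm (F.θ_fix x).comm_s hact
        (F.qq_mem q).1 h1 h2
    · exact comm_of_mem F.M F.hK haW.qV_eq haN (hbW.perp haW) hbW.qV_eq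
        ((S.E s).mul_mem hp.1 F.M.mem) (by rw [F.M.map_mul _ hp.1 _ F.M.mem, F.M.map_s, add_zero, hpπ]) hm
        (F.θ_fix x).comm_s hact (F.qq_mem q).1 h1 h2
  have hall : ((List.range 16).all fun q => Data.dot4 q a || Data.dot4 q b || Nat.beq (Data.tq q x) x) = true := by
    rw [List.all_eq_true]
    intro q hq
    cases h1 : Data.dot4 q a
    · cases h2 : Data.dot4 q b
      · simp only [Bool.false_or, Nat.beq_eq]
        exact hfixq q (List.mem_range.1 hq) h1 h2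
      · rfl
    · rfl
  have hchk := List.all_eq_true.1 (List.all_eq_true.1 Data.root_check _ h) (x % 32)
    (List.mem_range.2 (Nat.mod_lt _ (by norm_num)))
  simp only [show 32 * r + x % 32 = x by rw [← hr]; exact Nat.div_add_mod x 32] at hchk
  simpa only [hall, Bool.not_true, Bool.false_or] using hchk

theorem root_orb {r a b base : ℕ} (h : (r, a, b, base) ∈ Data.rootInfo) {z : ℕ}
    (hz : z ∈ Data.lineShift a b) : F.Orb (base ^^^ z) := by
  obtain ⟨hr64, ha, hb, ha0, hb0, hab, hbase⟩ := Data.entry_facts h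
  obtain ⟨hp, hpπ, hp1, hps, hpm, haW, haN⟩ := F.point_facts ha ha0
  obtain ⟨-, -, -, -, -, hbW, hbN⟩ := F.point_facts hb hb0
  have hne : wOf b ≠ wOf a := fun e => hab (congrArg Fin.val (wOf_inj ⟨b, hb⟩ ⟨a, ha⟩ e)).symm
  set qa := F.θ (2 * a) with hqa
  have hp' : qa * s ∈ p5 F.M := mul_mem hp (self_mem_p5 F.M)
  have hpπ' : F.π (qa * s) = wOf a := by rw [F.M.map_mul _ hp.1 _ F.M.mem, F.M.map_s, add_zero, hpπ]
  have hp1' : qa * s ≠ 1 := fun e => hps (mul_right_cancel (e.trans F.M.sq_one.symm))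
  have hps' : qa * s ≠ s := fun e => hp1 (mul_eq_right.1 e)
  have hKa : S.K qa := F.p5_K hp hp1
  obtain ⟨π₀, N₀⟩ := S.model qa hKa
  obtain ⟨π₀', N₀'⟩ := S.model (qa * s) (F.p5_K hp' hp1')
  have hsA : s ∈ S.E qa := F.mem_E_of hp hp1 hps
  have hsA' : s ∈ S.E (qa * s) := F.mem_E_of hp' hp1' hps'
  -- an element in each half
  have hmk : ∀ (q : G), q ∈ p5 F.M → F.π q = wOf a →
      ∃ z ∈ Data.lineShift a b, F.θ (base ^^^ z) ∈ S.E q := by
    intro q hq hqπ
    obtain ⟨t, htE, htt, htn, htK, htF, hta⟩ := exists_fix_root F.M F.hK haW hbW haN hbN hne hq.1 hqπ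
    obtain ⟨x, hx, hxt⟩ := F.θ_surj (F.mem_A_iff.2 htF)
    have hr : x / 32 = r := by
      refine congrArg Fin.val (delta_inj ⟨x / 32, by omega⟩ ⟨r, hr64⟩ fun m => ?_)
      have h1 := F.θ_act x (F.qd_mem m)
      rw [hxt, hta _ (F.qd_mem m), F.qd_π, root_delta h] at h1
      exact (add_left_cancel h1).symm
    have hmem := F.root_in_set h hx hr (hxt ▸ htK)
    refine ⟨x ^^^ base, List.contains_iff_mem.1 hmem, ?_⟩
    rw [show base ^^^ (x ^^^ base) = x by rw [Nat.xor_comm x, ← Nat.xor_assoc, Nat.xor_self, Nat.zero_xor], hxt]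
    exact htE
  obtain ⟨z1, hz1, hE1⟩ := hmk qa hp hpπ
  obtain ⟨z2, hz2, hE2⟩ := hmk (qa * s) hp' hpπ'
  have hsub : ∀ d ∈ [0, 1, 2 * a, 1 ^^^ 2 * a], F.θ d ∈ S.E qa ∧ F.θ d ∈ S.E (qa * s) := by
    intro d hd
    simp only [List.mem_cons, List.not_mem_nil, or_false] at hd
    have hq' : qa ∈ S.E (qa * s) := by
      have := (S.E (qa * s)).mul_mem N₀'.mem hsA'
      rwa [mul_assoc, F.M.sq_one, mul_one] at this
    rcases hd with rfl | rfl | rfl | rfl
    · rw [θ_zero]; exact ⟨one_mem _, one_mem _⟩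
    · rw [θ_one]; exact ⟨hsA, hsA'⟩
    · exact ⟨N₀.mem, hq'⟩
    · rw [← hpm]; exact ⟨(S.E qa).mul_mem N₀.mem hsA, N₀'.mem⟩
  have hline : ∀ {w}, w ∈ Data.lineShift a b → w < 32 := fun {w} hw => by
    simp only [Data.lineShift, List.mem_cons, List.not_mem_nil, or_false] at hw
    have h1 : 2 * a < 32 := by omega
    have h2 : 2 * b < 32 := by omega
    have h3 : (1 : ℕ) < 32 := by norm_num
    rcases hw with rfl | rfl | rfl | rfl | rfl | rfl | rfl | rfl
    exacts [by norm_num, h3, h1, h2, Nat.xor_lt_two_pow (n := 5) h3 h1, Nat.xor_lt_two_pow (n := 5) h3 h2,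
      Nat.xor_lt_two_pow (n := 5) h1 h2, Nat.xor_lt_two_pow (n := 5) (Nat.xor_lt_two_pow (n := 5) h3 h1) h2]
  have hdiff : [0, 1, 2 * a, 1 ^^^ 2 * a].contains (z1 ^^^ z2) = false := by
    rw [← Bool.not_eq_true, List.contains_iff_mem]
    intro hmem
    have hE2' : F.θ (base ^^^ z2) ∈ S.E qa := by
      rw [show base ^^^ z2 = (base ^^^ z1) ^^^ (z1 ^^^ z2) by
        rw [Nat.xor_assoc, ← Nat.xor_assoc z1, Nat.xor_self, Nat.zero_xor], θ_xor]
      exact (S.E qa).mul_mem hE1 (hsub _ hmem).1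
    have hq2 : qa * s ∈ S.E qa := (S.E qa).mul_mem N₀.mem hsA
    obtain ⟨π₁, M₁, hπ₁⟩ := N₀.adapted hq2 ((F.M.sq_eq_one hp'.1).2 hp'.2.qV_eq) hp1'
      (fun e => F.M.ne_one (mul_eq_left.1 e))
    obtain ⟨π₁', p₁⟩ := S.exists_pair hKa M₁ hq2 ((F.M.sq_eq_one hp'.1).2 hp'.2.qV_eq) hπ₁
    obtain ⟨β, α, e⟩ := p₁.inter hE2' hE2
    have hin : F.θ (base ^^^ z2) ∈ p5 F.M := e ▸ mul_mem
      (by unfold pw; split_ifs; exacts [one_mem _, hp']) (by unfold pw; split_ifs; exacts [one_mem _, hp])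
    obtain ⟨m, hm, em⟩ := F.p5_num hin
    have hb2 : base ^^^ z2 < 2048 := Nat.xor_lt_two_pow (n := 11) hbase (by have := hline hz2; omega)
    have hm2 := F.θ_inj (by omega) hb2 em
    have hbr : base / 32 = r := by
      have hh := List.all_eq_true.1 Data.root_r0.1 _ h
      simp only [Bool.and_eq_true, Nat.beq_eq] at hh
      exact hh.1
    have hr0 : r ≠ 0 := fun e0 => by
      subst e0
      exact (by decide +kernel : ((0 : ℕ) ∈ Data.rootInfo.map Prod.fst) → False) (List.mem_map.2 ⟨_, h, rfl⟩)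
    have h32 : (base ^^^ z2) / 32 = r := by
      rw [Data.div_xor, hbr, Nat.div_eq_of_lt (hline hz2), Nat.xor_zero]
    rw [← hm2, Nat.div_eq_of_lt hm] at h32
    exact hr0 h32.symm
  have hh := List.all_eq_true.1 (List.all_eq_true.1 (List.all_eq_true.1 Data.halves _ h) z1 hz1) z2 hz2
  simp only [hdiff, Bool.false_or] at hh
  have hzz := List.all_eq_true.1 hh z hz
  simp only [Bool.or_eq_true, List.contains_iff_mem] at hzz
  have hxne : ∀ {w}, w ∈ Data.lineShift a b → F.θ (base ^^^ w) ≠ 1 := fun {w} hw e => by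
    have hlt : base ^^^ w < 2048 := Nat.xor_lt_two_pow (n := 11) hbase (by have := hline hw; omega)
    have h0 := congrArg (· / 32) (F.θ_ker hlt e)
    simp only [Data.div_xor, Nat.div_eq_of_lt (hline hw), Nat.xor_zero, Nat.zero_div] at h0
    have hh := List.all_eq_true.1 Data.root_r0.1 _ h
    simp only [Bool.and_eq_true, Nat.beq_eq] at hh
    exact (by decide +kernel : ((0 : ℕ) ∈ Data.rootInfo.map Prod.fst) → False)
      (List.mem_map.2 ⟨_, h, hh.1.symm.trans h0⟩)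
  rcases hzz with hzz | hzz
  · refine F.point_orb hp hp1 hps ?_ (hxne hz)
    rw [show base ^^^ z = (base ^^^ z1) ^^^ (z1 ^^^ z) by
      rw [Nat.xor_assoc, ← Nat.xor_assoc z1, Nat.xor_self, Nat.zero_xor], θ_xor]
    exact (S.E qa).mul_mem hE1 (hsub _ hzz).1
  · refine F.point_orb hp' hp1' hps' ?_ (hxne hz)
    rw [show base ^^^ z = (base ^^^ z2) ^^^ (z2 ^^^ z) by
      rw [Nat.xor_assoc, ← Nat.xor_assoc z2, Nat.xor_self, Nat.zero_xor], θ_xor]
    exact (S.E (qa * s)).mul_mem hE2 (hsub _ hzz).2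

/-- The orbit off the indecomposable cosets. -/
theorem orb_fixed {x : ℕ} (hx : x < 2048) (hb : x / 32 ∉ Data.bigs) : F.Orb x ↔ Data.r0Mask.testBit x = true := by
  obtain ⟨hroot, hbig, hlow⟩ := Data.root_r0
  by_cases hr : x / 32 = 0
  · have hx32 : x < 32 := by omega
    have h := List.all_eq_true.1 hlow x (List.mem_range.2 hx32)
    rw [F.low_orb hx32]
    rcases eq_or_ne x 0 with rfl | h0
    · simp at h; simp [h]
    · have hbq : Nat.beq x 0 = false := by simpa [← Bool.not_eq_true] using h0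
      simp [hbq] at h
      simp [h0, h]
  · rcases Data.cover (by omega) hr with ⟨a, b, base, hm⟩ | hm
    · have h1 := List.all_eq_true.1 hroot _ hm
      simp only [Bool.and_eq_true, List.all_eq_true, List.mem_range, beq_iff_eq] at h1
      have h2 := h1.2 (x % 32) (Nat.mod_lt _ (by norm_num))
      rw [Nat.div_add_mod] at h2
      rw [h2]
      refine ⟨fun h => F.root_in_set hm hx rfl (F.orb_K h), fun h => ?_⟩
      have := F.root_orb hm (List.contains_iff_mem.1 h)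
      rwa [Nat.xor_comm x, ← Nat.xor_assoc, Nat.xor_self, Nat.zero_xor] at this
    · exact absurd hm hb

/-- The value on one side of an indecomposable coset. -/
def BigAt (r : ℕ) (b : Bool) : Prop := F.Orb (32 * r + bif b then 1 else 0)

theorem orb_big {x : ℕ} (hb : x / 32 ∈ Data.bigs) : F.Orb x ↔ F.BigAt (x / 32) (Data.side x) := by
  have h := List.all_eq_true.1 (List.all_eq_true.1 Data.orbit_check.1 _ hb) (x % 32)
    (List.mem_range.2 (Nat.mod_lt _ (by norm_num)))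
  rw [List.any_eq_true] at h
  obtain ⟨q, -, hq⟩ := h
  rw [Nat.div_add_mod, Nat.beq_eq] at hq
  exact (F.orb_conj (F.qq_N q) (by rw [qq_conj, hq])).symm

end Frame

end CfsgLib.CoOneEleven
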