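import Cfsg.Agent.Lib.CoOneType.Classes

/-!
# Root elements in a group of Conway type and the two families of totally singular four-spaces
-/

set_option autoImplicit false
set_option linter.style.haveILetI false
set_option synthInstance.maxSize 20000
set_option maxRecDepth 20000
set_option maxHeartbeats 1000000

namespace CfsgLib.CoOneEleven

open CfsgLib.Classical.Quad CfsgLib.CoOneType

universe u

variable {G : Type u} [Group G]

/-- The root transformation of the line through `a` and `b`. -/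
def rootMap (a b x : V8) : V8 := x + BV x a • b + BV x b • a

/-- The standard maximal totally singular space. -/
def InW (x : V8) : Prop :=
  x.2.1 = 0 ∧ x.2.2.2.1 = 0 ∧ x.2.2.2.2.2.1 = 0 ∧ x.2.2.2.2.2.2.2 = 0

/-- Its neighbour in the other family. -/
def InW' (x : V8) : Prop :=
  x.2.1 = 0 ∧ x.2.2.2.1 = 0 ∧ x.2.2.2.2.2.1 = 0 ∧ x.2.2.2.2.2.2.1 = 0

theorem sgf_eq_rootMap {b : V8} (hb : b.2.1 = 0) (hq : qW b.2.2 = 0) (x : V8) :
    sgf b.2.2 x = rootMap u0 b x := by
  obtain ⟨x1, x2, x3⟩ := x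
  obtain ⟨b1, b2, b3⟩ := b
  simp only at hb hq ⊢
  subst hb
  rcases zcases x2 with rfl | rfl <;> rcases zcases b1 with rfl | rfl <;>
    simp [sgf, rootMap, u0, BV, BW, hq, Prod.ext_iff, CharTwo.add_self_eq_zero, add_assoc,
      (by decide : ∀ a : ZMod 2, 1 + (1 + a) = a)]

theorem rootMap_map (k : Orth Q8) (a b x : V8) :
    k.1 (rootMap a b x) = rootMap (k.1 a) (k.1 b) (k.1 x) := by
  simp only [rootMap, g_add, map_smul, BV_g]

theorem BV_split {x y : V8} (hx : x.2.1 = 0) (hy : y.2.1 = 0) : BV x y = BW x.2.2 y.2.2 := by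
  simp [BV, hx, hy]

theorem qV_split {x : V8} (hx : x.2.1 = 0) : qV x = qW x.2.2 := by simp [qV, hx]

theorem perp_snd {x : V8} (h : BV x u0 = 0) : x.2.1 = 0 := by
  rw [perp_u0 h]

section Root

variable [Finite G] {S : Sys G} {s : G} {π : G → V8} (M : Model s (S.E s) π) (hK : S.K s)
include M hK

/-- A pair at a lift of a singular vector, with coordinates moving that vector to `u0`. -/
theorem exists_frame {a : V8} (ha : qV a = 0) (ha0 : a ≠ 0) {qa : G} (hqa : qa ∈ S.E s)
    (hπ : π qa = a) : ∃ (k : Orth Q8) (π' : G → V8), k ∈ Ev ∧ k.1 a = u0 ∧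
      Pair S s qa (fun x => k.1 (π x)) π' := by
  obtain ⟨g, hg, hga⟩ := ev_transitive ha ha0
  have h' : (g⁻¹).1 a = u0 := by rw [← hga, inv_apply_self]
  obtain ⟨π', p⟩ := S.exists_pair hK (M.comp (inv_mem hg)) hqa ((M.sq_eq_one hqa).2 (by rw [hπ]; exact ha))
    (by show (g⁻¹).1 (π qa) = u0; rw [hπ, h'])
  exact ⟨g⁻¹, π', inv_mem hg, h', p⟩

/-- An element of `E qa` acting as a root transformation centralizes what is perpendicular to the line. -/
theorem comm_of_mem {a b : V8} (ha : qV a = 0) (ha0 : a ≠ 0) (hab : BV b a = 0) (hb : qV b = 0)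
    {qa x : G} (hqa : qa ∈ S.E s) (hπ : π qa = a) (hx : x ∈ S.E qa) (hxs : Commute x s)
    (hact : ∀ q ∈ S.E s, π (x * q * x⁻¹) = rootMap a b (π q)) {q : G} (hq : q ∈ S.E s)
    (hqa' : BV (π q) a = 0) (hqb : BV (π q) b = 0) : Commute x q := by
  obtain ⟨k, π', hk, hka, p⟩ := exists_frame M hK ha ha0 hqa hπ
  obtain ⟨w, hw⟩ := p.exists_sg hx hxs
  have hb0 : (k.1 b).2.1 = 0 := perp_snd (by rw [← hka, BV_g, hab])
  have hwb : w = (k.1 b).2.2 := by
    refine sg_inj (orth_ext fun v => ?_)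
    obtain ⟨r, hr, rfl⟩ := p.left.surj v
    rw [← hw.2.2 r hr, sg_apply, sgf_eq_rootMap hb0 (by rw [← qV_split hb0, qV_g, hb])]
    show k.1 (π (x * r * x⁻¹)) = _
    rw [hact r hr, rootMap_map, hka]
  have hqu : Commute q qa := (M.commute_iff hq hqa).2 (by rw [hπ, hqa'])
  have h0 : BW (k.1 (π q)).2.2 w = 0 := by
    have hq0 : (k.1 (π q)).2.1 = 0 := perp_snd (by rw [← hka, BV_g, hqa'])
    rw [hwb, ← BV_split hq0 hb0, BV_g, hqb]
  have h := p.comm_rule hw hq hqu
  rw [h0, pw_zero, pw_zero, mul_one, mul_one] at h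
  exact conj_eq_iff_commute.1 h

/-- Root elements exist. -/
theorem exists_root {a b : V8} (ha : qV a = 0) (hb : qV b = 0) (hab : BV b a = 0) (ha0 : a ≠ 0)
    (hb0 : b ≠ 0) (hne : b ≠ a) {qa : G} (hqa : qa ∈ S.E s) (hπ : π qa = a) :
    ∃ t, t ∈ S.E qa ∧ t * t = 1 ∧ t ∉ S.E s ∧ S.K t ∧ Commute t s ∧
      ∀ q ∈ S.E s, π (t * q * t⁻¹) = rootMap a b (π q) := by
  obtain ⟨k, π', hk, hka, p⟩ := exists_frame M hK ha ha0 hqa hπ
  have hb2 : (k.1 b).2.1 = 0 := perp_snd (by rw [← hka, BV_g, hab])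
  have hw0 : (k.1 b).2.2 ≠ 0 := fun e => by
    have he : k.1 b = ((k.1 b).1, 0, 0) := by rw [← hb2, ← e]
    rcases zcases (k.1 b).1 with h | h
    · exact hb0 (k.1.injective (by rw [he, h, map_zero]; rfl))
    · exact hne (k.1.injective (by rw [he, h, hka]; rfl))
  have hwq : qW (k.1 b).2.2 = 0 := by rw [← qV_split hb2, qV_g, hb]
  obtain ⟨t, ht⟩ := p.exists_br (k.1 b).2.2
  have htt : t * t = 1 := by rw [p.sq_rule ht, hwq, pw_zero]
  have htn : t ∉ S.E s := fun h => by
    have := p.left.acts_unique ht.2 (p.left.acts_mem h)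
    exact hw0 (sg_inj (this.trans sg_zero.symm))
  refine ⟨t, ht.1, htt, htn, S.K_of_mem p.Ku ht.1 htt (fun e => htn (e ▸ (S.E s).one_mem)),
    ht.2.1, fun q hq => k.1.injective ?_⟩
  have := ht.2.2 q hq
  rw [sg_apply, sgf_eq_rootMap hb2 hwq] at this
  rw [rootMap_map, hka]
  exact this

/-- A member of the class acting as a root transformation lies in one of two extraspecial subgroups. -/
theorem mem_of_K {a b : V8} (ha : qV a = 0) (hb : qV b = 0) (hab : BV b a = 0) (ha0 : a ≠ 0)
    (hb0 : b ≠ 0) (hne : b ≠ a) {qa : G} (hqa : qa ∈ S.E s) (hπ : π qa = a) {x : G} (hKx : S.K x)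
    (hxs : Commute x s) (hact : ∀ q ∈ S.E s, π (x * q * x⁻¹) = rootMap a b (π q)) :
    x ∈ S.E qa ∨ x ∈ S.E (qa * s) := by
  obtain ⟨k, π', hk, hka, p⟩ := exists_frame M hK ha ha0 hqa hπ
  have hb2 : (k.1 b).2.1 = 0 := perp_snd (by rw [← hka, BV_g, hab])
  have hw0 : (k.1 b).2.2 ≠ 0 := fun e => by
    have he : k.1 b = ((k.1 b).1, 0, 0) := by rw [← hb2, ← e]
    rcases zcases (k.1 b).1 with h | h
    · exact hb0 (k.1.injective (by rw [he, h, map_zero]; rfl))
    · exact hne (k.1.injective (by rw [he, h, hka]; rfl))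
  have hwq : qW (k.1 b).2.2 = 0 := by rw [← qV_split hb2, qV_g, hb]
  refine p.K_root (w := (k.1 b).2.2) ⟨hxs, fun q hq => ?_⟩ hwq hw0 hKx
  rw [sg_apply, sgf_eq_rootMap hb2 hwq]
  show k.1 (π (x * q * x⁻¹)) = _
  rw [hact q hq, rootMap_map, hka]

omit M hK in
theorem smul_collect (α β b c : ZMod 2) (U E : W6) :
    (β * b) • E + c • U + b • (α • U + β • E) = (c + b * α) • U :=
  calc _ = ((β * b) • E + (β * b) • E) + (c + b * α) • U := by
        rw [smul_add, smul_smul, smul_smul, add_smul, mul_comm b β]; abel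
    _ = _ := by rw [w6_add_self, zero_add]

/-- Exactly one of the two families has commuting root elements: the two commutators with a root
element of the line of `u0` and `e1` differ. -/
theorem family_ne {qu qe t yA yB : G} (hqu : qu ∈ S.E s) (hπu : π qu = u0) (hqe : qe ∈ S.E s)
    (hπe : π qe = emb e2) (ht : t ∈ S.E qu) (htt : t * t = 1) (hts : Commute t s)
    (hta : ∀ q ∈ S.E s, π (t * q * t⁻¹) = rootMap u0 (emb e1) (π q))
    (hA : yA ∈ S.E qe) (hAs : Commute yA s)
    (hAa : ∀ q ∈ S.E s, π (yA * q * yA⁻¹) = rootMap (emb e2) (emb e3) (π q))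
    (hB : yB ∈ S.E qe) (hBs : Commute yB s)
    (hBa : ∀ q ∈ S.E s, π (yB * q * yB⁻¹) = rootMap (emb e2) (emb f3) (π q)) :
    (Commute t yA ↔ ¬ Commute t yB) := by
  obtain ⟨k, π', hk, hka, p⟩ := exists_frame M hK (a := emb e2) (by decide) (by decide) hqe hπe
  have htv : Commute t qe := comm_of_mem M hK (a := u0) (b := emb e1) (by decide) (by decide) (by decide)
    (by decide) hqu hπu ht hts hta hqe (by rw [hπe]; decide) (by rw [hπe]; decide)
  obtain ⟨τ, -, hτ⟩ := p.right.act t htv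
  obtain ⟨g, hg, hgadd, hgq, hgB, hgbij⟩ := p.exists_iso
  have hτu : τ.1 u0 = u0 := by rw [← p.hs, ← hτ.2 s p.memR, conj_eq_iff_commute.2 hts]
  -- the root action on the first side
  obtain ⟨τ₁, -, hτ₁⟩ := p.left.act t hts
  have hτ₁e : ∀ v, τ₁.1 v = rootMap (k.1 u0) (k.1 (emb e1)) v := fun v => by
    obtain ⟨r, hr, rfl⟩ := p.left.surj v
    rw [← hτ₁.2 r hr]
    show k.1 (π (t * r * t⁻¹)) = _
    rw [hta r hr, rootMap_map]
  set a' := k.1 u0 with ha'
  set b' := k.1 (emb e1) with hb'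
  have hperp : ∀ c : V8, BV c (emb e2) = 0 → (k.1 c).2.1 = 0 := fun c hc =>
    perp_snd ((congrArg (BV (k.1 c)) hka.symm).trans ((BV_g k c (emb e2)).trans hc))
  have ha2 : a'.2.1 = 0 := hperp _ (by decide)
  have hb2 : b'.2.1 = 0 := hperp _ (by decide)
  set U := g a'.2.2 with hU
  set E1 := g b'.2.2 with hE1
  set H : W6 → W6 := fun m => m + BW m U • E1 + BW m E1 • U with hH
  have hgs : ∀ (c : ZMod 2) (m : W6), g (c • m) = c • g m := fun c m => by
    rcases zcases c with rfl | rfl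
    · rw [zero_smul, zero_smul]
      have h := hgadd 0 0
      rw [add_zero] at h
      exact left_eq_add.1 h
    · rw [one_smul, one_smul]
  have hHm : ∀ m, (τ.1 (emb m)).2.2 = H m := fun m => by
    obtain ⟨m, rfl⟩ := hgbij.2 m
    rw [← p.equivariant hg hτ₁ hτ m, hτ₁e]
    have h1 : BV (emb m) a' = BW m a'.2.2 := BV_split rfl ha2
    have h2 : BV (emb m) b' = BW m b'.2.2 := BV_split rfl hb2
    simp only [rootMap, h1, h2, hH, hU, hE1, hgB]
    rw [Prod.snd_add, Prod.snd_add, Prod.snd_add, Prod.snd_add, hgadd, hgadd,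
      Prod.smul_snd, Prod.smul_snd, Prod.smul_snd, Prod.smul_snd, hgs, hgs]
    rfl
  set w := (τ.1 v0).2.2 with hw
  have hk2 : Ext (sg w * τ) H := by
    obtain ⟨a1, a2, a3⟩ := stab_split hτu
    exact ⟨a1, a2, fun m => by rw [a3 m, hHm m]⟩
  have hform : ∀ x : V8, τ.1 x = sgf w (x.1, x.2.1, H x.2.2) := fun x => by
    rw [stab_eq hτu, ← hw, mul_apply, sg_apply, hk2.apply x.1 x.2.1 x.2.2]
  have hUq : qW U = 0 := by rw [hU, hgq, ← qV_split ha2, ha', qV_g]; decide
  have hEq : qW E1 = 0 := by rw [hE1, hgq, ← qV_split hb2, hb', qV_g]; decide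
  have hUE : BW U E1 = 0 := by rw [hU, hE1, hgB, ← BV_split ha2 hb2, ha', hb', BV_g]; decide
  -- dual vectors
  have hdual : ∀ c d : ZMod 2, ∃ m, BW m U = c ∧ BW m E1 = d := fun c d => by
    obtain ⟨v, hv1, hv2, hv3⟩ := (by decide : ∀ c d : ZMod 2, ∃ v : V8,
      BV v (emb e2) = 0 ∧ BV v u0 = c ∧ BV v (emb e1) = d) c d
    have hv0 : (k.1 v).2.1 = 0 := perp_snd (by rw [← hka, BV_g, hv1])
    exact ⟨g (k.1 v).2.2, by rw [hU, hgB, ← BV_split hv0 ha2, ha', BV_g, hv2],
      by rw [hE1, hgB, ← BV_split hv0 hb2, hb', BV_g, hv3]⟩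
  have hτ2 : ∀ x, τ.1 (τ.1 x) = x := fun x => by
    have h := p.right.acts_mul hτ hτ
    rw [htt] at h
    have := p.right.acts_unique h (p.right.acts_mem (S.E qe).one_mem)
    rw [← mul_apply, this, one_apply]
  have hwperp : BW w U = 0 ∧ BW w E1 = 0 := by
    have h := hτ2 v0
    rw [hform v0, hform] at h
    have h' := congrArg (fun v : V8 => v.2.2) h
    simp [sgf, v0, hH, BW_zero_left] at h'
    obtain ⟨m1, hm1, hm1'⟩ := hdual 1 0
    obtain ⟨m2, hm2, hm2'⟩ := hdual 0 1
    have h1 := congrArg (BW m1) h'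
    have h2 := congrArg (BW m2) h'
    have hs : ∀ (c : ZMod 2) (m y : W6), BW m (c • y) = c * BW m y := fun c m y => by
      rcases zcases c with rfl | rfl <;> simp [BW_zero_right]
    simp only [BW_add_right, hs, BW_zero_right, hm1, hm1', hm2, hm2', mul_one, mul_zero,
      add_zero, zero_add] at h1 h2
    have ha1 : BW m1 w + BW m1 w = 0 := CharTwo.add_self_eq_zero _
    have ha2' : BW m2 w + BW m2 w = 0 := CharTwo.add_self_eq_zero _
    constructor
    · linear_combination h2 - ha2'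
    · linear_combination h1 - ha1
  -- the commutator with an element of a line at `qe`
  have hy : ∀ {y : G} {b : V8}, b = emb e3 ∨ b = emb f3 → y ∈ S.E qe → Commute y s →
      (∀ q ∈ S.E s, π (y * q * y⁻¹) = rootMap (emb e2) b (π q)) →
      (Commute t y ↔ BW (g (k.1 b).2.2) w = 0) := by
    intro y b hb hyE hys hya
    obtain ⟨hbq, hbp, hbU, hbE⟩ : qV b = 0 ∧ BV b (emb e2) = 0 ∧ BV b u0 = 0 ∧ BV b (emb e1) = 0 := by
      rcases hb with rfl | rfl <;> decide
    have hb0 : (k.1 b).2.1 = 0 := perp_snd (by rw [← hka, BV_g, hbp])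
    have hwy : Br S s qe (fun x => k.1 (π x)) y (k.1 b).2.2 := by
      refine ⟨hyE, hys, fun q hq => ?_⟩
      rw [sg_apply, sgf_eq_rootMap hb0 (by rw [← qV_split hb0, qV_g, hbq]), ← hka, ← rootMap_map]
      exact congrArg k.1 (hya q hq)
    obtain ⟨hπy, -⟩ := p.right_coord hwy
    rw [hg _ _ hwy] at hπy
    set m := g (k.1 b).2.2 with hm
    have hmU : BW m U = 0 := by rw [hm, hU, hgB, ← BV_split hb0 ha2, ha', BV_g, hbU]
    have hmE : BW m E1 = 0 := by rw [hm, hE1, hgB, ← BV_split hb0 hb2, hb', BV_g, hbE]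
    have hyv : Commute t y ↔ π' (t * y * t⁻¹) = π' y := by
      refine ⟨fun h => by rw [conj_eq_iff_commute.2 h], fun h => ?_⟩
      rcases p.right.eq_of_map (p.right.normal t htv y hyE) hyE h with e | e
      · exact conj_eq_iff_commute.1 e
      · exfalso
        have hyqu : Commute y qu := comm_of_mem M hK (a := emb e2) (b := b) (by decide) (by decide) hbp hbq
          hqe hπe hyE hys hya hqu (by rw [hπu]; decide) (by rw [hπu, BV_comm, hbU])
        have hd : t * y * t⁻¹ * y⁻¹ = qe := by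
          rw [e, (p.right.le_cent y hyE).eq, mul_inv_cancel_right]
        have hqE : qe ∈ S.E qu := by
          rw [← hd, show t * y * t⁻¹ * y⁻¹ = t * (y * t⁻¹ * y⁻¹) by group]
          have hKu : S.K qu := S.K_of_mem hK hqu ((M.sq_eq_one hqu).2 (by rw [hπu]; decide))
            fun e => by rw [e, M.map_one] at hπu; exact absurd hπu (by decide)
          obtain ⟨π₀, N₀⟩ := S.model qu hKu
          exact (S.E qu).mul_mem ht (N₀.normal y hyqu _ ((S.E qu).inv_mem ht))
        obtain ⟨k₀, π₀', -, hk₀, p₀⟩ := exists_frame M hK (a := u0) (by decide) (by decide) hqu hπu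
        obtain ⟨b₀, a₀, e₀⟩ := p₀.inter hqe hqE
        have h1 := congrArg π e₀
        rw [hπe, M.map_mul _ (by
          rcases zcases b₀ with r | r <;> rw [r]
          · rw [pw_zero]; exact (S.E s).one_mem
          · rwa [pw_one]) _ (M.pw_mem _), M.map_pw, add_zero] at h1
        rcases zcases b₀ with r | r <;> rw [r] at h1
        · rw [pw_zero, M.map_one] at h1; exact absurd h1 (by decide)
        · rw [pw_one, hπu] at h1; exact absurd h1 (by decide)
    rw [hyv, hτ.2 y hyE, hform, hπy]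
    simp [sgf, hH, hmU, hmE]
  rw [hy (Or.inl rfl) hA hAs hAa, hy (Or.inr rfl) hB hBs hBa]
  obtain ⟨w', hw'⟩ := hgbij.2 w
  set z := (k⁻¹).1 (emb w') with hz
  have hzk : k.1 z = emb w' := by rw [hz, self_apply_inv]
  have hzp : ∀ {c : V8}, (k.1 c).2.1 = 0 → BV z c = BW w (g (k.1 c).2.2) := fun {c} hc => by
    rw [← BV_g k z c, hzk, BV_split rfl hc, ← hw', hgB]; rfl
  have hc3 : (k.1 (emb e3)).2.1 = 0 := hperp _ (by decide)
  have hf3 : (k.1 (emb f3)).2.1 = 0 := hperp _ (by decide)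
  rw [BW_comm _ w, BW_comm _ w, ← hzp hc3, ← hzp hf3]
  have hz0 : BV z (emb e2) = 0 := by rw [← BV_g k, hzk, hka]; exact BV_emb_u0 _
  have hzU : BV z u0 = 0 := by rw [hzp ha2, ← ha', ← hU, hwperp.1]
  have hzE : BV z (emb e1) = 0 := by rw [hzp hb2, ← hb', ← hE1, hwperp.2]
  have hqw : qW w = qV z := by rw [← hw', hgq, ← qV_emb w', ← hzk, qV_g]
  have hτB : ∀ x, BV (τ.1 x) x = BV (τ.1 x + x) x := fun x => by rw [BV_add_left, BV_self, add_zero]
  by_contra hcon
  have hzero : (BV z (emb e3) = 0 ∧ BV z (emb f3) = 0) ∨ (BV z (emb e3) = 1 ∧ BV z (emb f3) = 1) := by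
    rcases zcases (BV z (emb e3)) with h | h <;> rcases zcases (BV z (emb f3)) with h' | h' <;>
      simp [h, h'] at hcon ⊢
  obtain ⟨x0, hx0⟩ : ∃ x0, Pair.Rep (S := S) (s := s) (u := qu) (π := π) e1 e2 x0 ∧ x0 = t * qe :=
    ⟨_, ⟨t, qe, ⟨ht, hts, fun q hq => by
      rw [hta q hq, sg_apply]; exact (sgf_eq_rootMap (b := emb e1) rfl (by decide) _).symm⟩, hqe, hπe, rfl⟩, rfl⟩
  have hnK : ¬ S.K (t * qe) := by
    obtain ⟨π₀, p₀⟩ := S.exists_pair hK M hqu ((M.sq_eq_one hqu).2 (by rw [hπu]; decide)) hπu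
    exact hx0.2 ▸ p₀.x0_not_K hx0.1
  have hx2 : t * qe * (t * qe) = 1 := by
    rw [mul_assoc, ← mul_assoc qe, ← htv.eq, mul_assoc t qe, p.right.sq_one, mul_one, htt]
  have hx1 : t * qe ≠ 1 := fun e => by
    have ht' : t ∈ S.E s := by rw [eq_inv_of_mul_eq_one_left e]; exact (S.E s).inv_mem hqe
    have := (congrArg (fun o : Orth Q8 => o.1 (k.1 v0)) (p.left.acts_unique hτ₁ (p.left.acts_mem ht')))
    rw [one_apply, hτ₁e, ha', hb', ← rootMap_map] at this
    exact absurd (k.1.injective this) (by decide)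
  rcases hzero with ⟨h3, h3'⟩ | ⟨h3, h3'⟩
  · -- both commute: `t` is a root element at `qe`
    obtain ⟨α, β, hαβ⟩ := (by decide : ∀ z : V8, BV z (emb e2) = 0 → BV z u0 = 0 → BV z (emb e1) = 0 →
      BV z (emb e3) = 0 → BV z (emb f3) = 0 → ∃ α β : ZMod 2,
        z = α • u0 + β • emb e1 ∨ z = α • u0 + β • emb e1 + emb e2) z hz0 hzU hzE h3 h3'
    have hke : k.1 z = α • a' + β • b' ∨ k.1 z = α • a' + β • b' + u0 := by
      rcases hαβ with e | e
      · exact Or.inl (by rw [e, g_add, map_smul, map_smul])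
      · exact Or.inr (by rw [e, g_add, g_add, map_smul, map_smul, hka])
    have hwe : w = α • U + β • E1 := by
      rw [← hw']
      have : w' = α • a'.2.2 + β • b'.2.2 := by
        rcases hke with e | e <;> rw [hzk] at e <;> have := congrArg (fun v : V8 => v.2.2) e <;>
          simpa [emb, u0] using this
      rw [this, hgadd, hgs, hgs]
    have hwq : qW w = 0 := by
      rw [hwe]
      rcases zcases α with rfl | rfl <;> rcases zcases β with rfl | rfl <;>
        simp [qW_add, hUq, hEq, hUE, show qW 0 = 0 by decide]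
    set d0 : V8 := (β, 0, U) with hd0
    have hU0 : U ≠ 0 := fun e => by
      obtain ⟨m1, hm1, -⟩ := hdual 1 0
      rw [e, BW_zero_right] at hm1; exact zero_ne_one hm1
    have hmove : ∀ x : V8, τ.1 x + x = (α * BW x.2.2 U + β * BW x.2.2 E1, 0,
        BW x.2.2 U • E1 + BW x.2.2 E1 • U + x.2.1 • w) := fun x => by
      rw [hform]
      have hs : ∀ (c : ZMod 2) (y : W6), BW (c • y) w = c * BW y w := fun c y => by
        rcases zcases c with rfl | rfl <;> simp [BW_zero_left]
      have hUw : BW U w = 0 := by rw [BW_comm, hwperp.1]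
      have hEw : BW E1 w = 0 := by rw [BW_comm, hwperp.2]
      have hxw : BW x.2.2 w = α * BW x.2.2 U + β * BW x.2.2 E1 := by
        rw [hwe, BW_add_right]
        rcases zcases α with rfl | rfl <;> rcases zcases β with rfl | rfl <;> simp [BW_zero_right]
      simp only [sgf, hH, BW_add_left, hs, hUw, hEw, hxw, hwq, mul_zero, zero_mul, add_zero]
      refine Prod.ext (by simp only [Prod.fst_add]; linear_combination (CharTwo.add_self_eq_zero x.1)) (Prod.ext ?_ ?_)
      · simp only [Prod.snd_add, Prod.fst_add]; exact CharTwo.add_self_eq_zero x.2.1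
      simp only [Prod.snd_add]
      have e2 := w6_add_self x.2.2
      calc _ = (x.2.2 + x.2.2) + (BW x.2.2 U • E1 + BW x.2.2 E1 • U + x.2.1 • w) := by abel
        _ = _ := by rw [e2, zero_add]
    have hA' : AType τ := fun x => by
      rw [hτB, hmove]
      simp only [BV, zero_mul, mul_zero, add_zero, BW_add_left]
      rw [hwe, BW_comm x.2.2 U, BW_comm x.2.2 E1]
      have hs : ∀ (c : ZMod 2) (y : W6), BW (c • y) x.2.2 = c * BW y x.2.2 := fun c y => by
        rcases zcases c with rfl | rfl <;> simp [BW_zero_left]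
      simp only [hs, BW_add_left]
      exact (by decide : ∀ α β p1 p2 p3 : ZMod 2,
        (α * p1 + β * p2) * p3 + (p1 * p2 + p2 * p1 + p3 * (α * p1 + β * p2)) = 0) _ _ _ _ _
    have hI : InE τ d0 := fun x hx => by
      rw [hmove]
      have hxU : BW x.2.2 U = β * x.2.1 := by
        have h : β * x.2.1 + BW x.2.2 U = 0 := by simpa [BV, hd0] using hx
        exact (zadd.1 h).symm
      have e : (α * BW x.2.2 U + β * BW x.2.2 E1, (0 : ZMod 2), BW x.2.2 U • E1 + BW x.2.2 E1 • U + x.2.1 • w)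
          = (BW x.2.2 E1 + x.2.1 * α) • d0 := by
        rw [hxU, hwe, hd0]
        refine Prod.ext (by simp only [Prod.smul_fst, smul_eq_mul]; ring) (Prod.ext (by simp) ?_)
        exact smul_collect α β x.2.1 (BW x.2.2 E1) U E1
      rw [e]
      rcases zcases (BW x.2.2 E1 + x.2.1 * α) with r | r <;> rw [r]
      · exact Or.inl (zero_smul _ _)
      · exact Or.inr (one_smul _ _)
    obtain ⟨d, hd, hdπ⟩ := p.right.surj d0
    have hdq : qV (π' d) = 0 := by rw [hdπ, hd0]; simp [qV, hUq]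
    have hd00 : π' d ≠ 0 := by rw [hdπ, hd0]; intro e; exact hU0 (congrArg (fun v : V8 => v.2.2) e)
    rw [← hdπ] at hI
    obtain ⟨π₁, π₂, w₁, p₂, hw₁, hact₁⟩ := p.right.exists_root_pair p.Ku hd hdq hd00 hτ hA' hI
    have hKt : S.K t := S.K_of_mem (S.K_of_mem hK hqu ((M.sq_eq_one hqu).2 (by rw [hπu]; decide))
      (fun e => by rw [e, M.map_one] at hπu; exact absurd hπu (by decide))) ht htt fun e => by
        have := (congrArg (fun o : Orth Q8 => o.1 (k.1 v0))
          (p.left.acts_unique hτ₁ (p.left.acts_mem (e ▸ (S.E s).one_mem))))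
        rw [one_apply, hτ₁e, ha', hb', ← rootMap_map] at this
        exact absurd (k.1.injective this) (by decide)
    have hw1 : w₁ ≠ 0 := fun e => by
      subst e
      rw [sg_zero] at hact₁
      have hv : t ∈ S.E qe := p₂.left.faith t hact₁
      have e1 := congrArg (fun o : Orth Q8 => o.1 v0) (p.right.acts_unique hτ (p.right.acts_mem hv))
      rw [one_apply] at e1
      obtain ⟨m1, hm1, hm1'⟩ := hdual 1 0
      have e2 := congrArg (fun o : Orth Q8 => (o.1 (emb m1)).2.2)
        (p.right.acts_unique hτ (p.right.acts_mem hv))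
      simp only [one_apply, hHm, hH, hm1, hm1', one_smul, zero_smul, add_zero] at e2
      have e3 : E1 = 0 := add_left_cancel (a := m1) (e2.trans (add_zero _).symm)
      obtain ⟨m2, -, hm2'⟩ := hdual 0 1
      rw [e3, BW_zero_right] at hm2'
      exact zero_ne_one hm2'
    have hKd : S.K d := p₂.Ku
    rcases p₂.K_root hact₁ hw₁ hw1 hKt with hm | hm
    · exact hnK (S.K_of_mem hKd ((S.E d).mul_mem hm p₂.memR) hx2 hx1)
    · have hdd : d * qe ∈ S.E qe := (S.E qe).mul_mem hd p.right.mem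
      have hd2 : qV (π' (d * qe)) = 0 := by
        rw [p.right.map_mul d hd qe p.right.mem, p.right.map_s, add_zero]; exact hdq
      have hKd' : S.K (d * qe) := S.K_of_mem p.Ku hdd ((p.right.sq_eq_one hdd).2 hd2) fun e => by
        apply hd00
        rw [eq_inv_of_mul_eq_one_left e, p.right.map_inv p.right.mem, p.right.map_s]
      have hne : d * qe ≠ qe := fun e => by
        apply hd00
        rw [mul_eq_right.1 e, p.right.map_one]
      exact hnK (S.K_of_mem hKd' ((S.E _).mul_mem hm (S.mem_symm p.Ku hKd' hdd hne)) hx2 hx1)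
  · -- neither commutes: `t` is conjugate to `t * qe`
    have hwq : qW w = 1 := by
      rw [hqw]
      exact (by decide : ∀ z : V8, BV z (emb e2) = 0 → BV z u0 = 0 → BV z (emb e1) = 0 →
        BV z (emb e3) = 1 → BV z (emb f3) = 1 → qV z = 1) z hz0 hzU hzE h3 h3'
    have hnA : ¬ AType τ := fun h => by
      have := h v0
      rw [hform] at this
      simp [sgf, v0, BV, hH, BW_zero_left, hwq] at this
    have htn : t ∉ S.E qe := fun h => by
      apply hnA
      rw [p.right.acts_unique hτ (p.right.acts_mem h)]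
      exact fun x => by rw [one_apply, BV_self]
    obtain ⟨c, gf, hc, hcA, hStd, hg1⟩ := p.right.exists_form htv htt htn
    obtain ⟨κ, -, hκ⟩ := p.right.act c hc
    have hgf : gf = κ * τ * κ⁻¹ :=
      p.right.acts_unique hcA (p.right.acts_mul (p.right.acts_mul hκ hτ) (p.right.acts_inv hκ))
    have hnA' : ¬ AType gf := fun h => hnA <| by
      have := h.conj κ⁻¹
      rwa [hgf, inv_inv, show κ⁻¹ * (κ * τ * κ⁻¹) * κ = τ by group] at this
    rcases hStd with rfl | rfl | rfl | rfl | rfl | rfl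
    · exact hg1 rfl
    · exact hnA' (sg_aType (by decide))
    · obtain ⟨m1, hm1, hm1'⟩ := hdual 1 0
      obtain ⟨m2, hm2, hm2'⟩ := hdual 0 1
      have hr : ∀ m, τ.1 (emb m) + emb m = (BW (H m) w, 0, H m + m) := fun m => by
        rw [hform]; simp [sgf, emb, Prod.ext_iff]
      have hz' : ∀ m, qV (τ.1 (emb m) + emb m) = 0 → τ.1 (emb m) + emb m ≠ 0 →
          κ.1 (τ.1 (emb m) + emb m) = u0 := fun m h0 h1 => by
        have e : κ.1 (τ.1 (emb m) + emb m) = sgf w0 (κ.1 (emb m)) + κ.1 (emb m) := by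
          rw [← sg_apply, hgf, mul_apply, mul_apply, inv_apply_self, g_add]
        rw [e]
        refine (by decide : ∀ y : V8, qV (sgf w0 y + y) = 0 → sgf w0 y + y ≠ 0 → sgf w0 y + y = u0) _ ?_ ?_
        · rw [← e, qV_g]; exact h0
        · rw [← e]; exact fun h => h1 (k.1.injective (by
            have := congrArg (κ⁻¹).1 h
            rw [inv_apply_self, map_zero] at this
            rw [this]))
      have hH1 : H m1 + m1 = E1 := by
        simp only [hH, hm1, hm1', one_smul, zero_smul, add_zero]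
        rw [add_comm, ← add_assoc, w6_add_self, zero_add]
      have hH2 : H m2 + m2 = U := by
        simp only [hH, hm2, hm2', one_smul, zero_smul, add_zero]
        rw [add_comm, ← add_assoc, w6_add_self, zero_add]
      have hE0 : E1 ≠ 0 := fun e => by rw [e, BW_zero_right] at hm2'; exact zero_ne_one hm2'
      have hU0 : U ≠ 0 := fun e => by rw [e, BW_zero_right] at hm1; exact zero_ne_one hm1
      have h1 := hz' m1 (by rw [hr, qV_split rfl, hH1, hEq]) (by
        rw [hr, hH1]; exact fun e => hE0 (congrArg (fun v : V8 => v.2.2) e))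
      have h2 := hz' m2 (by rw [hr, qV_split rfl, hH2, hUq]) (by
        rw [hr, hH2]; exact fun e => hU0 (congrArg (fun v : V8 => v.2.2) e))
      have h := congrArg (fun v : V8 => v.2.2) (κ.1.injective (h1.trans h2.symm))
      simp only [hr, hH1, hH2] at h
      rw [h] at hm1'
      exact zero_ne_one (hm1'.symm.trans hm1)
    · exact hnA' bg_aType.1
    · exact hnA' bg_aType.2.1
    · have hcc := p.right.conj_sign hcA (sq_conj htt)
      refine hnK ?_
      obtain ⟨j, hj⟩ := isConj_iff.1 hcc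
      have hKt : S.K t := by
        refine S.K_of_mem (S.K_of_mem hK hqu ((M.sq_eq_one hqu).2 (by rw [hπu]; decide))
          (fun e => by rw [e, M.map_one] at hπu; exact absurd hπu (by decide))) ht htt fun e => htn ?_
        rw [e]; exact (S.E qe).one_mem
      have h' := S.K_conj c⁻¹ _ (S.K_conj j _ (S.K_conj c t hKt))
      rw [hj, show c⁻¹ * (c * t * c⁻¹ * qe) * c⁻¹⁻¹ = t * (c⁻¹ * qe * c) by group,
        show c⁻¹ * qe * c = qe by rw [hc.inv_left.eq, inv_mul_cancel_right]] at h'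
      exact h'

end Root

end CfsgLib.CoOneEleven
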