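import Cfsg.Agent.Lib.CoOneEleven.M24
import Cfsg.Agent.Lib.Solvable.Gaschutz

/-!
A complement of the subgroup of order `2 ^ 11` in its normalizer: an explicit complement in a Sylow two-subgroup
and Gaschütz' theorem.
-/

set_option autoImplicit false
set_option linter.style.haveILetI false
set_option synthInstance.maxSize 20000
set_option maxRecDepth 20000
set_option maxHeartbeats 1000000

namespace CfsgLib.CoOneEleven

open CfsgLib.Classical.Quad CfsgLib.CoOneType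
open CfsgLib.LargeFischer CfsgLib.LargeFischer.Plane CfsgLib.Golay

universe u

section Gens

variable {G : Type u} [Group G]

/-- The subgroup generated by a list. -/
def cl (L : List G) : Subgroup G := Subgroup.closure {c | c ∈ L}

theorem mem_cl {L : List G} {c : G} (hc : c ∈ L) : c ∈ cl L := Subgroup.subset_closure hc

theorem cl_comm {L : List G} (h : ∀ a ∈ L, ∀ b ∈ L, Commute a b) : ∀ a ∈ cl L, ∀ b ∈ cl L, a * b = b * a := by
  have h1 : ∀ a ∈ L, ∀ b ∈ cl L, Commute a b := fun a ha b hb =>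
    Subgroup.closure_induction (fun x hx => h a ha x hx) (Commute.one_right a)
      (fun _ _ _ _ h h' => h.mul_right h') (fun _ _ h => h.inv_right) hb
  intro a ha b hb
  exact (Subgroup.closure_induction (p := fun x _ => Commute b x) (fun x hx => (h1 x hx b hb).symm)
    (Commute.one_right b) (fun _ _ _ _ h h' => h.mul_right h') (fun _ _ h => h.inv_right) ha).symm

theorem cl_sq {L : List G} (h : ∀ a ∈ L, ∀ b ∈ L, Commute a b) (h2 : ∀ a ∈ L, a * a = 1) :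
    ∀ a ∈ cl L, a * a = 1 := by
  intro a ha
  refine Subgroup.closure_induction (p := fun x _ => x * x = 1) (fun x hx => h2 x hx) (one_mul 1)
    (fun x y hx hy h' h'' => ?_) (fun x _ h' => by rw [← mul_inv_rev, h', inv_one]) ha
  rw [mul_assoc, ← mul_assoc y, cl_comm h y hy x hx, mul_assoc x y, h'', mul_one, h']

theorem cl_num {L : List G} (h : ∀ a ∈ L, ∀ b ∈ L, Commute a b) (h2 : ∀ a ∈ L, a * a = 1) {a : G}
    (ha : a ∈ cl L) : ∃ n < 2 ^ L.length, apG L n = a := by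
  refine Subgroup.closure_induction (p := fun x _ => ∃ n < 2 ^ L.length, apG L n = x) (fun x hx => ?_)
    ⟨0, by positivity, apG_zero _⟩ ?_ ?_ ha
  · obtain ⟨k, hk, e⟩ := List.getElem_of_mem hx
    exact ⟨2 ^ k, Nat.pow_lt_pow_right (by norm_num) hk, by rw [apG_two_pow, List.getD_eq_getElem _ _ hk, e]⟩
  · rintro x y - - ⟨m, hm, rfl⟩ ⟨n, hn, rfl⟩
    exact ⟨m ^^^ n, Nat.xor_lt_two_pow hm hn, apG_xor (cl_comm h) (cl_sq h h2) (fun _ hc => mem_cl hc) m n⟩
  · rintro x - ⟨m, hm, rfl⟩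
    exact ⟨m, hm, (inv_eq_of_mul_eq_one_left (cl_sq h h2 _ (apG_mem (fun _ hc => mem_cl hc) m))).symm⟩

theorem cl_conj {L : List G} {g : G} (h : ∀ a ∈ L, g * a * g⁻¹ ∈ cl L) : ∀ x ∈ cl L, g * x * g⁻¹ ∈ cl L :=
  fun x hx => (Subgroup.closure_le ((cl L).comap (MulAut.conj g).toMonoidHom)).2 (fun a ha => h a ha) hx

/-- The product of a subgroup with one normalizing it. -/
def prodSub (B C : Subgroup G) (h : ∀ c ∈ C, ∀ b ∈ B, c * b * c⁻¹ ∈ B) : Subgroup G where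
  carrier := {x | ∃ b ∈ B, ∃ c ∈ C, x = b * c}
  one_mem' := ⟨1, one_mem _, 1, one_mem _, (one_mul 1).symm⟩
  mul_mem' := by
    rintro _ _ ⟨b, hb, c, hc, rfl⟩ ⟨b', hb', c', hc', rfl⟩
    exact ⟨b * (c * b' * c⁻¹), mul_mem hb (h c hc b' hb'), c * c', mul_mem hc hc', by group⟩
  inv_mem' := by
    rintro _ ⟨b, hb, c, hc, rfl⟩
    exact ⟨c⁻¹ * b⁻¹ * c⁻¹⁻¹, h _ (inv_mem hc) _ (inv_mem hb), c⁻¹, inv_mem hc, by group⟩

theorem conj_closed_inv {B : Subgroup G} {g : G} (hg : g * g = 1) (h : ∀ b ∈ B, g * b * g⁻¹ ∈ B) :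
    ∀ b ∈ B, g⁻¹ * b * g⁻¹⁻¹ ∈ B := by
  rw [inv_eq_of_mul_eq_one_left hg]; exact h

theorem cl_normalizes {B : Subgroup G} {L : List G}
    (h : ∀ g ∈ L, g * g = 1 ∧ ∀ b ∈ B, g * b * g⁻¹ ∈ B) : ∀ c ∈ cl L, ∀ b ∈ B, c * b * c⁻¹ ∈ B := by
  intro c hc
  refine (Subgroup.closure_induction
    (p := fun x _ => (∀ b ∈ B, x * b * x⁻¹ ∈ B) ∧ ∀ b ∈ B, x⁻¹ * b * x⁻¹⁻¹ ∈ B)
    (fun x hx => ⟨(h x hx).2, conj_closed_inv (h x hx).1 (h x hx).2⟩) ?_ ?_ ?_ hc).1
  · exact ⟨fun b hb => by simpa using hb, fun b hb => by simpa using hb⟩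
  · rintro x y - - ⟨h1, h2⟩ ⟨h3, h4⟩
    refine ⟨fun b hb => ?_, fun b hb => ?_⟩
    · rw [show x * y * b * (x * y)⁻¹ = x * (y * b * y⁻¹) * x⁻¹ by group]; exact h1 _ (h3 b hb)
    · rw [show (x * y)⁻¹ * b * (x * y)⁻¹⁻¹ = y⁻¹ * (x⁻¹ * b * x⁻¹⁻¹) * y⁻¹⁻¹ by group]; exact h4 _ (h2 b hb)
  · rintro x - ⟨h1, h2⟩
    exact ⟨h2, fun b hb => by rw [inv_inv]; exact h1 b hb⟩

end Gens

namespace Data

/-- The exchange of two pairs of coordinates. -/
def swapMap (i j : Fin 4) (x : V8) : V8 := rf (wv i + dv i) (rf (wv j + dv j) x)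

/-- The composite of the maps at the binary digits. -/
def mapL : List (V8 → V8) → ℕ → V8 → V8
  | [], _, x => x
  | f :: fs, n, x => bif Nat.beq (n % 2) 1 then f (mapL fs (n / 2) x) else mapL fs (n / 2) x

/-- The three generators: indices of the exchange and of the root element. -/
def genInfo : Fin 3 → (Fin 4 × Fin 4) × Fin 6 := ![((0, 2), 0), ((0, 1), 3), ((0, 2), 5)]

/-- The action of a generator. -/
def genMap (m : Fin 3) : V8 → V8 := tvMap m.val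

/-- The actions of the four generators of the unipotent radical. -/
def radMaps : List (V8 → V8) :=
  [genMap 1, fun x => genMap 0 (genMap 1 (genMap 0 x)), fun x => genMap 2 (genMap 1 (genMap 2 x)),
    fun x => genMap 0 (genMap 2 (genMap 1 (genMap 2 (genMap 0 x))))]

/-- The actions of the two outer generators. -/
def outMaps : List (V8 → V8) := [genMap 0, genMap 2]

theorem gen_check : ∀ m : Fin 3, ∀ v : V8,
    swapMap (genInfo m).1.1 (genInfo m).1.2 (swapMap (genInfo m).1.1 (genInfo m).1.2 v) = v ∧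
    swapMap (genInfo m).1.1 (genInfo m).1.2 (rootMap (wv (pI (genInfo m).2)) (wv (pJ (genInfo m).2))
      (swapMap (genInfo m).1.1 (genInfo m).1.2 v)) = tvMap m.val v ∧
    tvMap m.val (tvMap m.val v) = v := by
  decide +kernel

theorem gen_fixed : ∀ m : Fin 3, ∀ k : Fin 4, InW (swapMap (genInfo m).1.1 (genInfo m).1.2 (dv k)) →
    (qdCols.getD m.val []).getD k.val 0 = 2 ^ k.val := by
  decide +kernel

theorem gen_correct : ∀ m : Fin 3, ∀ e : Fin 4 → ZMod 2,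
    (∀ k, InW (swapMap (genInfo m).1.1 (genInfo m).1.2 (dv k)) → e k = 0) →
    ∃ x : Fin 16 × Fin 16, InW (swapMap (genInfo m).1.1 (genInfo m).1.2 (wOf x.1.val + dOf x.2.val)) ∧
      ∀ k, BV (wOf x.1.val + dOf x.2.val) (tvMap m.val (dv k)) = e k := by
  decide +kernel

theorem gen_stab : ∀ v : V8, InW v → InW (swapMap 0 1 (genMap 0 (swapMap 0 1 v))) ∧
    InW (swapMap 0 1 (genMap 2 (swapMap 0 1 v))) := by
  decide +kernel

theorem maps_inj : ∀ i i' : Fin 16, ∀ j j' : Fin 4,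
    (∀ k : Fin 4, mapL radMaps i.val (mapL outMaps j.val (wv k)) =
      mapL radMaps i'.val (mapL outMaps j'.val (wv k))) → i = i' ∧ j = j' := by
  decide +kernel

end Data

namespace Frame

variable {G : Type u} [Group G] [Finite G] {S : Sys G} {s : G} (F : Frame S s)

theorem exists_swap (i j : Fin 4) : ∃ c, Commute c s ∧
    ∀ q ∈ S.E s, F.π (c * q * c⁻¹) = Data.swapMap i j (F.π q) := by
  have hq : ∀ l : Fin 4, qV (wv l + dv l) = 1 := by decide +kernel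
  obtain ⟨c, hc, ha⟩ := F.M.lift _ (rr_mem (hq i) (hq j))
  exact ⟨c, hc, fun q h => by rw [ha q h, mul_apply, refl8 (hq i), refl8 (hq j)]; rfl⟩

theorem qq_pow (k : Fin 4) : F.qq (2 ^ k.val) = F.qd k := by
  fin_cases k <;> simp +decide [qq, bz, pw, Nat.testBit_two_pow]

theorem qd_comm (k l : Fin 4) : Commute (F.qd k) (F.qd l) :=
  (F.M.commute_iff (F.qd_mem k) (F.qd_mem l)).2 (by rw [F.qd_π, F.qd_π]; exact (wv_facts.2.1 k l).2.1)

theorem qd_sq (k : Fin 4) : F.qd k * F.qd k = 1 :=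
  (F.M.sq_eq_one (F.qd_mem k)).2 (by rw [F.qd_π]; exact (wv_facts.1 k).2.2.1)

/-- The list of the dual lifts. -/
def es : List G := [F.qd 0, F.qd 1, F.qd 2, F.qd 3]

theorem mem_es {c : G} (hc : c ∈ F.es) : ∃ k, c = F.qd k := by
  simp only [es, List.mem_cons, List.not_mem_nil, or_false] at hc
  rcases hc with h | h | h | h <;> exact ⟨_, h⟩

theorem qd_es (k : Fin 4) : F.qd k ∈ cl F.es := by
  refine mem_cl ?_
  fin_cases k <;> simp [es]

theorem qq_es (q : ℕ) : F.qq q ∈ cl F.es := by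
  have h : ∀ k (c : ZMod 2), pw (F.qd k) c ∈ cl F.es := fun k c => by
    unfold pw; split_ifs
    exacts [one_mem _, F.qd_es k]
  exact mul_mem (h _ _) (mul_mem (h _ _) (mul_mem (h _ _) (h _ _)))

theorem es_num (q : ℕ) : apG F.es q ∈ S.E s ∧ F.π (apG F.es q) = dOf q := by
  have hm : ∀ k c, pw (F.qd k) c ∈ S.E s ∧ F.π (pw (F.qd k) c) = c • dv k := fun k c => by
    rcases zcases c with rfl | rfl
    · rw [pw_zero, F.M.map_one, zero_smul]; exact ⟨(S.E s).one_mem, rfl⟩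
    · rw [pw_one, F.qd_π, one_smul]; exact ⟨F.qd_mem k, rfl⟩
  have e : apG F.es q = pw (F.qd 0) (bz q 0) * (pw (F.qd 1) (bz q 1) * (pw (F.qd 2) (bz q 2) *
      pw (F.qd 3) (bz q 3))) := by
    simp only [es, apG, bz_rule, bz_div, mul_one, mul_assoc]
  rw [e]
  refine ⟨(S.E s).mul_mem (hm _ _).1 ((S.E s).mul_mem (hm _ _).1 ((S.E s).mul_mem (hm _ _).1 (hm _ _).1)), ?_⟩
  rw [F.M.map_mul _ (hm _ _).1 _ ((S.E s).mul_mem (hm _ _).1 ((S.E s).mul_mem (hm _ _).1 (hm _ _).1)),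
    F.M.map_mul _ (hm _ _).1 _ ((S.E s).mul_mem (hm _ _).1 (hm _ _).1),
    F.M.map_mul _ (hm _ _).1 _ (hm _ _).1, (hm _ _).2, (hm _ _).2, (hm _ _).2, (hm _ _).2, dOf]
  simp only [bz, add_assoc]

/-- A lift of a transvection that preserves the dual lifts and lies in a conjugate of the abelian subgroup. -/
theorem exists_gen (m : Fin 3) {c : G} (hc : Commute c s)
    (hca : ∀ q ∈ S.E s, F.π (c * q * c⁻¹) =
      Data.swapMap (Data.genInfo m).1.1 (Data.genInfo m).1.2 (F.π q)) :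
    ∃ t, c⁻¹ * t * c ∈ F.A ∧ t ∈ F.N ∧ Commute t s ∧ (∀ q ∈ S.E s, F.π (t * q * t⁻¹) = Data.genMap m (F.π q)) ∧
      ∀ x ∈ cl F.es, t * x * t⁻¹ ∈ cl F.es := by
  set f := Data.swapMap (Data.genInfo m).1.1 (Data.genInfo m).1.2 with hf
  set i := (Data.genInfo m).2 with hi
  have hff : ∀ v, f (f v) = v := fun v => (Data.gen_check m v).1
  have hcinv : ∀ q ∈ S.E s, c⁻¹ * q * c ∈ S.E s ∧ F.π (c⁻¹ * q * c) = f (F.π q) := fun q hq => by
    have hm := F.M.normal c⁻¹ hc.inv_left q hq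
    rw [inv_inv] at hm
    refine ⟨hm, ?_⟩
    have h := hca _ hm
    rw [show c * (c⁻¹ * q * c) * c⁻¹ = q by group] at h
    rw [h, hff]
  set t0 := c * F.y i * c⁻¹ with ht0
  have hy : Commute (F.y i) s := (F.y_fix i).comm_s
  have ht0s : Commute t0 s := (hc.mul_left hy).mul_left hc.inv_left
  have ht0a : ∀ q ∈ S.E s, F.π (t0 * q * t0⁻¹) = Data.tvMap m.val (F.π q) := fun q hq => by
    obtain ⟨h1, h2⟩ := hcinv q hq
    rw [show t0 * q * t0⁻¹ = c * (F.y i * (c⁻¹ * q * c) * (F.y i)⁻¹) * c⁻¹ by rw [ht0]; group,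
      hca _ (F.M.normal _ hy _ h1), F.y_act i _ h1, h2]
    exact (Data.gen_check m _).2.1
  obtain ⟨htv, hqd⟩ : (∀ v, InW v → InW (Data.tvMap m.val v)) ∧
      ∀ k : Fin 4, Data.tvMap m.val (dv k) = dOf ((Data.qdCols.getD m.val []).getD k.val 0) :=
    ⟨fun v hv => (by decide +kernel : ∀ m : Fin 3, ∀ v, InW v → InW (Data.tvMap m.val v)) m v hv,
      fun k => (Data.tv_basis ⟨m.val, by omega⟩).2.1 k⟩
  have hsign : ∀ k : Fin 4, ∃ e : ZMod 2,
      t0 * F.qd k * t0⁻¹ = F.qq ((Data.qdCols.getD m.val []).getD k.val 0) * pw s e ∧ (InW (f (dv k)) → e = 0) := by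
    intro k
    set Q := (Data.qdCols.getD m.val []).getD k.val 0 with hQ
    have hfix : InW (f (dv k)) → t0 * F.qd k * t0⁻¹ = F.qq Q := fun hw => by
      obtain ⟨h1, h2⟩ := hcinv _ (F.qd_mem k)
      have h := F.y_fix i _ (⟨h1, by rw [h2, F.qd_π]; exact hw⟩ : c⁻¹ * F.qd k * c ∈ p5 F.M)
      rw [hQ, Data.gen_fixed m k hw, F.qq_pow]
      rw [show t0 * F.qd k * t0⁻¹ = c * (F.y i * (c⁻¹ * F.qd k * c) * (F.y i)⁻¹) * c⁻¹ by rw [ht0]; group,
        conj_eq_iff_commute.2 h]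
      group
    by_cases hw : InW (f (dv k))
    · exact ⟨0, by rw [pw_zero, mul_one]; exact hfix hw, fun _ => rfl⟩
    rcases F.M.eq_of_map (F.M.normal t0 ht0s _ (F.qd_mem k)) (F.qq_mem Q).1
        (by rw [ht0a _ (F.qd_mem k), F.qd_π, hqd k, (F.qq_mem Q).2]) with e | e
    · exact ⟨0, by rw [pw_zero, mul_one]; exact e, fun _ => rfl⟩
    · exact ⟨1, by rw [pw_one]; exact e, fun h => absurd h hw⟩
  choose e he he0 using hsign
  obtain ⟨x, hxW, hx⟩ := Data.gen_correct m e he0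
  obtain ⟨r, hr, hrπ⟩ := F.M.surj (wOf x.1.val + dOf x.2.val)
  have hrs : Commute r s := F.M.le_cent _ hr
  refine ⟨r * t0, ?_, mul_mem ?_ (F.mem_N_of_p5 fun q hq => ⟨F.M.normal t0 ht0s q hq.1, ?_⟩),
    hrs.mul_left ht0s, fun q hq => ?_, cl_conj fun a ha => ?_⟩
  · obtain ⟨h1, h2⟩ := hcinv r hr
    rw [show c⁻¹ * (r * t0) * c = c⁻¹ * r * c * F.y i by rw [ht0]; group]
    exact mul_mem (F.p5_le ⟨h1, by rw [h2, hrπ]; exact hxW⟩) (F.θ_y i ▸ F.θ_mem _)
  · exact F.mem_N_of_p5 fun q hq => ⟨F.M.normal r hrs q hq.1, by rw [F.M.map_conj hr hq.1]; exact hq.2⟩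
  · rw [ht0a q hq.1]; exact htv _ hq.2
  · rw [show r * t0 * q * (r * t0)⁻¹ = r * (t0 * q * t0⁻¹) * r⁻¹ by group,
      F.M.map_conj hr (F.M.normal t0 ht0s q hq), ht0a q hq]
    rfl
  · obtain ⟨k, rfl⟩ := F.mem_es ha
    rw [show r * t0 * F.qd k * (r * t0)⁻¹ = r * (t0 * F.qd k * t0⁻¹) * r⁻¹ by group, he k]
    set Q := (Data.qdCols.getD m.val []).getD k.val 0
    have hm : F.qq Q * pw s (e k) ∈ S.E s := (S.E s).mul_mem (F.qq_mem _).1 (F.M.pw_mem _)
    rw [F.M.conj_eq hr hm, F.M.map_mul _ (F.qq_mem _).1 _ (F.M.pw_mem _), F.M.map_pw, add_zero, (F.qq_mem _).2,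
      hrπ, ← hqd k, hx k, mul_assoc, ← pw_add F.M.sq_one, CharTwo.add_self_eq_zero, pw_zero, mul_one]
    exact F.qq_es Q

theorem apG_action {L : List G} {fs : List (V8 → V8)}
    (h : List.Forall₂ (fun t f => Commute t s ∧ ∀ q ∈ S.E s, F.π (t * q * t⁻¹) = f (F.π q)) L fs) :
    ∀ n, Commute (apG L n) s ∧ ∀ q ∈ S.E s, F.π (apG L n * q * (apG L n)⁻¹) = Data.mapL fs n (F.π q) := by
  induction h with
  | nil => intro n; exact ⟨Commute.one_left _, fun q _ => by simp [apG, Data.mapL]⟩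
  | @cons t f L fs hd _ ih =>
    intro n
    obtain ⟨h1, h2⟩ := ih (n / 2)
    rcases Nat.mod_two_eq_zero_or_one n with hn | hn
    · have e : apG (t :: L) n = apG L (n / 2) := by simp [apG, hn, show Nat.beq 0 1 = false from rfl]
      rw [e]
      exact ⟨h1, fun q hq => by rw [h2 q hq]; simp [Data.mapL, hn, show Nat.beq 0 1 = false from rfl]⟩
    · have e : apG (t :: L) n = t * apG L (n / 2) := by simp [apG, hn]
      rw [e]
      refine ⟨hd.1.mul_left h1, fun q hq => ?_⟩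
      rw [show t * apG L (n / 2) * q * (t * apG L (n / 2))⁻¹ =
        t * (apG L (n / 2) * q * (apG L (n / 2))⁻¹) * t⁻¹ by group, hd.2 _ (F.M.normal _ h1 q hq), h2 q hq]
      simp [Data.mapL, hn]

/-- A complement of order `2 ^ 10` to the subgroup inside a Sylow subgroup of the normalizer. -/
theorem exists_two_complement :
    ∃ K : Subgroup G, K ≤ F.N ∧ K ⊓ F.A = ⊥ ∧ 1024 ≤ Nat.card K ∧ Nat.card K ≤ 1024 := by
  classical
  obtain ⟨c2, hc2, hca2⟩ := F.exists_swap 0 2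
  obtain ⟨c1, hc1, hca1⟩ := F.exists_swap 0 1
  obtain ⟨a, haA, haN, has, hat, haE⟩ := F.exists_gen 0 hc2 hca2
  obtain ⟨b, hbA, hbN, hbs, hbt, hbE⟩ := F.exists_gen 1 hc1 hca1
  obtain ⟨c, hcA, hcN, hcs, hct, hcE⟩ := F.exists_gen 2 hc2 hca2
  have hconjA : ∀ (d x y : G), d⁻¹ * x * d ∈ F.A → d⁻¹ * y * d ∈ F.A → Commute x y := fun d x y hx hy => by
    have h := F.A_comm _ hx _ hy
    calc x * y = d * (d⁻¹ * x * d * (d⁻¹ * y * d)) * d⁻¹ := by group
      _ = d * (d⁻¹ * y * d * (d⁻¹ * x * d)) * d⁻¹ := by rw [h]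
      _ = y * x := by group
  have hsqA : ∀ (d x : G), d⁻¹ * x * d ∈ F.A → x * x = 1 := fun d x hx => by
    calc x * x = d * (d⁻¹ * x * d * (d⁻¹ * x * d)) * d⁻¹ := by group
      _ = 1 := by rw [F.A_sq _ hx]; group
  have ha2 := hsqA _ _ haA
  have hb2 := hsqA _ _ hbA
  have hcc := hsqA _ _ hcA
  have hac : Commute a c := hconjA _ _ _ haA hcA
  have hai : a⁻¹ = a := inv_eq_of_mul_eq_one_left ha2
  have hci : c⁻¹ = c := inv_eq_of_mul_eq_one_left hcc
  -- the two outer generators normalize the conjugate containing the inner one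
  have hnorm : ∀ (g : G) (m : Fin 3), Commute g s → (∀ q ∈ S.E s, F.π (g * q * g⁻¹) = Data.genMap m (F.π q)) →
      (∀ v, InW v → InW (Data.swapMap 0 1 (Data.genMap m (Data.swapMap 0 1 v)))) →
      ∀ x, c1⁻¹ * x * c1 ∈ F.A → c1⁻¹ * (g * x * g⁻¹) * c1 ∈ F.A := by
    intro g m hgs hga hst x hx
    have hn : c1⁻¹ * g * c1 ∈ F.N := F.mem_N_of_p5 fun q hq => by
      have hm1 : c1 * q * c1⁻¹ ∈ S.E s := F.M.normal c1 hc1 q hq.1
      have hm2 := F.M.normal g hgs _ hm1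
      have hm3 := F.M.normal c1⁻¹ hc1.inv_left _ hm2
      rw [show c1⁻¹ * g * c1 * q * (c1⁻¹ * g * c1)⁻¹ = c1⁻¹ * (g * (c1 * q * c1⁻¹) * g⁻¹) * c1⁻¹⁻¹ by group]
      refine ⟨hm3, ?_⟩
      have h := hca1 _ hm3
      rw [show c1 * (c1⁻¹ * (g * (c1 * q * c1⁻¹) * g⁻¹) * c1⁻¹⁻¹) * c1⁻¹ = g * (c1 * q * c1⁻¹) * g⁻¹ by group,
        hga _ hm1, hca1 q hq.1] at h
      have h' := congrArg (Data.swapMap 0 1) h
      rw [show ∀ v, Data.swapMap 0 1 (Data.swapMap 0 1 v) = v from fun v => (Data.gen_check 1 v).1] at h'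
      rw [← h']
      exact hst _ hq.2
    rw [show c1⁻¹ * (g * x * g⁻¹) * c1 = c1⁻¹ * g * c1 * (c1⁻¹ * x * c1) * (c1⁻¹ * g * c1)⁻¹ by group]
    exact F.conj_mem hn hx
  have hna := hnorm a 0 has hat fun v hv => (Data.gen_stab v hv).1
  have hnc := hnorm c 2 hcs hct fun v hv => (Data.gen_stab v hv).2
  set R : List G := [b, a * b * a⁻¹, c * b * c⁻¹, a * (c * b * c⁻¹) * a⁻¹] with hR
  set H : List G := [a, c] with hH
  have hRA : ∀ x ∈ R, c1⁻¹ * x * c1 ∈ F.A := by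
    simp only [hR, List.mem_cons, List.not_mem_nil, or_false, forall_eq_or_imp, forall_eq]
    exact ⟨hbA, hna _ hbA, hnc _ hbA, hna _ (hnc _ hbA)⟩
  have hRc : ∀ x ∈ R, ∀ y ∈ R, Commute x y := fun x hx y hy => hconjA _ _ _ (hRA x hx) (hRA y hy)
  have hR2 : ∀ x ∈ R, x * x = 1 := fun x hx => hsqA _ _ (hRA x hx)
  have hHc : ∀ x ∈ H, ∀ y ∈ H, Commute x y := by
    simp only [hH, List.mem_cons, List.not_mem_nil, or_false, forall_eq_or_imp, forall_eq]
    exact ⟨⟨Commute.refl _, hac⟩, hac.symm, Commute.refl _⟩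
  have hH2 : ∀ x ∈ H, x * x = 1 := by
    simp only [hH, List.mem_cons, List.not_mem_nil, or_false, forall_eq_or_imp, forall_eq]
    exact ⟨ha2, hcc⟩
  have hHR : ∀ g ∈ H, g * g = 1 ∧ ∀ x ∈ cl R, g * x * g⁻¹ ∈ cl R := by
    intro g hg
    refine ⟨hH2 g hg, cl_conj fun x hx => ?_⟩
    have e1 : ∀ y, a * (a * y * a⁻¹) * a⁻¹ = y := fun y => by
      rw [hai, show a * (a * y * a) * a = a * a * y * (a * a) by group, ha2, one_mul, mul_one]
    have e2 : ∀ y, c * (c * y * c⁻¹) * c⁻¹ = y := fun y => by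
      rw [hci, show c * (c * y * c) * c = c * c * y * (c * c) by group, hcc, one_mul, mul_one]
    have e3 : ∀ y, c * (a * y * a⁻¹) * c⁻¹ = a * (c * y * c⁻¹) * a⁻¹ := fun y => by
      rw [show c * (a * y * a⁻¹) * c⁻¹ = c * a * y * (c * a)⁻¹ by group, ← hac.eq]; group
    simp only [hH, List.mem_cons, List.not_mem_nil, or_false] at hg
    simp only [hR, List.mem_cons, List.not_mem_nil, or_false] at hx
    rcases hg with rfl | rfl <;> rcases hx with rfl | rfl | rfl | rfl <;>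
      (try simp only [e1, e2, e3]) <;> refine mem_cl ?_ <;> simp [hR]
  set L := prodSub (cl R) (cl H) (cl_normalizes hHR) with hL
  have hEall : ∀ g ∈ ([a, b, c] : List G), g * g = 1 ∧ ∀ x ∈ cl F.es, g * x * g⁻¹ ∈ cl F.es := by
    simp only [List.mem_cons, List.not_mem_nil, or_false, forall_eq_or_imp, forall_eq]
    exact ⟨⟨ha2, haE⟩, ⟨hb2, hbE⟩, hcc, hcE⟩
  have hLle : ∀ x ∈ L, x ∈ cl [a, b, c] := by
    have ma : a ∈ cl [a, b, c] := mem_cl (by simp)
    have mb : b ∈ cl [a, b, c] := mem_cl (by simp)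
    have mc : c ∈ cl [a, b, c] := mem_cl (by simp)
    have h1 : cl R ≤ cl [a, b, c] := (Subgroup.closure_le _).2 fun x hx => by
      simp only [hR, Set.mem_ofPred_eq, List.mem_cons, List.not_mem_nil, or_false] at hx
      rcases hx with rfl | rfl | rfl | rfl
      exacts [mb, mul_mem (mul_mem ma mb) (inv_mem ma), mul_mem (mul_mem mc mb) (inv_mem mc),
        mul_mem (mul_mem ma (mul_mem (mul_mem mc mb) (inv_mem mc))) (inv_mem ma)]
    have h2 : cl H ≤ cl [a, b, c] := (Subgroup.closure_le _).2 fun x hx => by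
      simp only [hH, Set.mem_ofPred_eq, List.mem_cons, List.not_mem_nil, or_false] at hx
      rcases hx with rfl | rfl
      exacts [ma, mc]
    rintro _ ⟨r, hr, h, hh, rfl⟩
    exact mul_mem (h1 hr) (h2 hh)
  set K := prodSub (cl F.es) L (fun x hx => cl_normalizes hEall x (hLle x hx)) with hK
  have hEc : ∀ x ∈ F.es, ∀ y ∈ F.es, Commute x y := fun x hx y hy => by
    obtain ⟨k, rfl⟩ := F.mem_es hx
    obtain ⟨l, rfl⟩ := F.mem_es hy
    exact F.qd_comm k l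
  have hE2 : ∀ x ∈ F.es, x * x = 1 := fun x hx => by
    obtain ⟨k, rfl⟩ := F.mem_es hx
    exact F.qd_sq k
  let el : Fin 16 × Fin 16 × Fin 4 → G := fun t => apG F.es t.1.val * (apG R t.2.1.val * apG H t.2.2.val)
  have hel : ∀ t, el t ∈ K := fun t =>
    ⟨_, apG_mem (fun _ h => mem_cl h) _, _, ⟨_, apG_mem (fun _ h => mem_cl h) _, _,
      apG_mem (fun _ h => mem_cl h) _, rfl⟩, rfl⟩
  have hsurj : ∀ x ∈ K, ∃ t, el t = x := by
    rintro _ ⟨e, he, _, ⟨r, hr, h, hh, rfl⟩, rfl⟩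
    obtain ⟨q, hq, rfl⟩ := cl_num hEc hE2 he
    obtain ⟨i, hi, rfl⟩ := cl_num hRc hR2 hr
    obtain ⟨j, hj, rfl⟩ := cl_num hHc hH2 hh
    exact ⟨(⟨q, hq⟩, ⟨i, hi⟩, ⟨j, hj⟩), rfl⟩
  have hRact : ∀ n, Commute (apG R n) s ∧ ∀ q ∈ S.E s, F.π (apG R n * q * (apG R n)⁻¹) =
      Data.mapL Data.radMaps n (F.π q) := by
    have key : ∀ (x y : G) (f g : V8 → V8), Commute x s → Commute y s → x⁻¹ = x →
        (∀ q ∈ S.E s, F.π (x * q * x⁻¹) = f (F.π q)) → (∀ q ∈ S.E s, F.π (y * q * y⁻¹) = g (F.π q)) →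
        Commute (x * y * x⁻¹) s ∧ ∀ q ∈ S.E s, F.π (x * y * x⁻¹ * q * (x * y * x⁻¹)⁻¹) = f (g (f (F.π q))) := by
      intro x y f g hx hy hxi hf hg
      refine ⟨(hx.mul_left hy).mul_left hx.inv_left, fun q hq => ?_⟩
      have e : x * y * x⁻¹ * q * (x * y * x⁻¹)⁻¹ = x * (y * (x * q * x⁻¹) * y⁻¹) * x⁻¹ := by
        conv_rhs => rw [show x * q * x⁻¹ = x⁻¹ * q * x⁻¹⁻¹ by simp only [hxi]]
        group
      rw [e, hf _ (F.M.normal y hy _ (F.M.normal x hx q hq)), hg _ (F.M.normal x hx q hq), hf q hq]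
    obtain ⟨k1, k1'⟩ := key a b (Data.genMap 0) (Data.genMap 1) has hbs hai hat hbt
    obtain ⟨k2, k2'⟩ := key c b (Data.genMap 2) (Data.genMap 1) hcs hbs hci hct hbt
    refine F.apG_action (L := R) (fs := Data.radMaps) ?_
    simp only [hR, Data.radMaps, List.forall₂_cons, List.forall₂_nil_left_iff, and_true]
    exact ⟨⟨hbs, hbt⟩, ⟨k1, k1'⟩, ⟨k2, k2'⟩, key a (c * b * c⁻¹) (Data.genMap 0)
      (fun x => Data.genMap 2 (Data.genMap 1 (Data.genMap 2 x))) has k2 hai hat k2'⟩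
  have hHact : ∀ n, Commute (apG H n) s ∧ ∀ q ∈ S.E s, F.π (apG H n * q * (apG H n)⁻¹) =
      Data.mapL Data.outMaps n (F.π q) :=
    F.apG_action (L := H) (fs := Data.outMaps) (by
      simp only [hH, Data.outMaps, List.forall₂_cons, List.forall₂_nil_left_iff, and_true]
      exact ⟨⟨has, hat⟩, ⟨hcs, hct⟩⟩)
  have hact : ∀ t, ∀ q ∈ S.E s, F.π (el t * q * (el t)⁻¹) =
      Data.mapL Data.radMaps t.2.1.val (Data.mapL Data.outMaps t.2.2.val (F.π q)) := fun t q hq => by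
    obtain ⟨h1, h2⟩ := hRact t.2.1.val
    obtain ⟨h3, h4⟩ := hHact t.2.2.val
    have m1 := F.M.normal _ h3 q hq
    have m2 := F.M.normal _ h1 _ m1
    rw [show el t * q * (el t)⁻¹ = apG F.es t.1.val * (apG R t.2.1.val * (apG H t.2.2.val * q *
      (apG H t.2.2.val)⁻¹) * (apG R t.2.1.val)⁻¹) * (apG F.es t.1.val)⁻¹ by simp only [el]; group,
      F.M.map_conj (F.es_num _).1 m2, h2 _ m1, h4 q hq]
  have hsame : ∀ t t', (∀ k, F.π (el t * F.qv k * (el t)⁻¹) = F.π (el t' * F.qv k * (el t')⁻¹)) →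
      t.2 = t'.2 := fun t t' h => by
    obtain ⟨hi, hj⟩ := Data.maps_inj t.2.1 t'.2.1 t.2.2 t'.2.2 fun k => by
      have h' := h k
      rwa [hact _ _ (F.qv_mem k), hact _ _ (F.qv_mem k), F.qv_π] at h'
    exact Prod.ext hi hj
  have hq0 : ∀ q : Fin 16, apG F.es q.val ∈ F.A → q = 0 := fun q hq => by
    refine dOf_inj q 0 fun i => ?_
    have h := (F.M.commute_iff (F.es_num _).1 (F.qv_mem i)).1 (F.mem_A_iff.1 hq _ (F.qv_p5 i))
    rw [(F.es_num _).2, F.qv_π] at h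
    rw [h]
    exact ((by decide +kernel : ∀ i : Fin 4, BV (dOf 0) (wv i) = 0) i).symm
  have hzero : apG R 0 * apG H 0 = 1 := by rw [apG_zero, apG_zero, one_mul]
  refine ⟨K, ?_, ?_, ?_, ?_⟩
  · rintro _ ⟨e, he, l, hl, rfl⟩
    refine mul_mem ((Subgroup.closure_le F.N).2 (fun x hx => ?_) he)
      ((Subgroup.closure_le F.N).2 (fun x hx => ?_) (hLle l hl))
    · obtain ⟨k, rfl⟩ := F.mem_es hx
      rw [← F.qq_pow]; exact F.qq_N _
    · simp only [Set.mem_ofPred_eq, List.mem_cons, List.not_mem_nil, or_false] at hx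
      rcases hx with rfl | rfl | rfl
      exacts [haN, hbN, hcN]
  · refine (Subgroup.eq_bot_iff_forall _).2 fun x hx => ?_
    obtain ⟨t, rfl⟩ := hsurj x hx.1
    have h0 : el (0, 0, 0) = 1 := by simp [el, apG_zero]
    have ht : t.2 = 0 := hsame t (0, 0, 0) fun k => by
      rw [conj_eq_iff_commute.2 (F.mem_A_iff.1 hx.2 _ (F.qv_p5 k)), h0]; simp
    obtain ⟨q, t2⟩ := t
    obtain rfl : t2 = (0, 0) := ht
    have he : el (q, 0, 0) = apG F.es q.val := by simp [el, apG_zero]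
    have hA : el (q, 0, 0) ∈ F.A := hx.2
    rw [he] at hA
    rw [hq0 q hA]; exact h0
  · refine le_trans ?_ (Nat.card_le_card_of_injective (fun t => (⟨el t, hel t⟩ : K)) fun t t' h => ?_)
    · simp
    have he : el t = el t' := congrArg Subtype.val h
    have ht : t.2 = t'.2 := hsame t t' fun k => by rw [he]
    refine Prod.ext (dOf_inj _ _ fun i => ?_) ht
    have e2 : apG F.es t.1.val = apG F.es t'.1.val := by
      simp only [el, ht] at he; exact mul_right_cancel he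
    rw [← (F.es_num _).2, e2, (F.es_num _).2]
  · refine (Nat.card_le_card_of_surjective (fun t => (⟨el t, hel t⟩ : K)) fun x => ?_).trans (le_of_eq ?_)
    · obtain ⟨t, ht⟩ := hsurj x.1 x.2
      exact ⟨t, Subtype.ext ht⟩
    · simp

variable {F} (hF : F.Standard)
include hF

/-- The normalizer splits over the subgroup. -/
theorem exists_complement : ∃ H : Subgroup ↥F.N, (F.A.subgroupOf F.N).IsComplement' H := by
  obtain ⟨K, hKN, hKA, hKge, hKle⟩ := F.exists_two_complement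
  haveI : IsMulCommutative ↥(F.A.subgroupOf F.N) :=
    ⟨⟨fun x y => Subtype.ext (Subtype.ext (F.A_comm _ (Subgroup.mem_subgroupOf.1 x.2) _
      (Subgroup.mem_subgroupOf.1 y.2)))⟩⟩
  set A' := F.A.subgroupOf F.N with hA'
  set K' := K.subgroupOf F.N with hK'
  have hinf : K' ⊓ A' = ⊥ := by
    refine (Subgroup.eq_bot_iff_forall _).2 fun x hx => Subtype.ext ?_
    have h : x.1 ∈ K ⊓ F.A := ⟨Subgroup.mem_subgroupOf.1 hx.1, Subgroup.mem_subgroupOf.1 hx.2⟩
    rw [hKA, Subgroup.mem_bot] at h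
    exact h
  have cA : Nat.card A' = 2048 := by
    rw [hA', Nat.card_congr (Subgroup.subgroupOfEquivOfLe F.A_le_N).toEquiv, F.card_A]
  have cK : Nat.card K' = 1024 := by
    rw [hK', Nat.card_congr (Subgroup.subgroupOfEquivOfLe hKN).toEquiv]; omega
  have cN : Nat.card F.N = 2048 * 244823040 := by
    obtain ⟨φ⟩ := quot_M24 hF
    rw [Subgroup.card_eq_card_quotient_mul_card_subgroup A', Nat.card_congr φ.toEquiv, CfsgLib.Golay.card_M24, cA]
  have hU : Nat.card ↥(A' ⊔ K') = 2048 * 1024 := by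
    rw [← cA, ← cK, ← Nat.card_prod]
    refine (Nat.card_congr (Equiv.ofBijective (fun p : A' × K' => (⟨p.1.1 * p.2.1,
      mul_mem (Subgroup.mem_sup_left p.1.2) (Subgroup.mem_sup_right p.2.2)⟩ : ↥(A' ⊔ K'))) ⟨?_, ?_⟩)).symm
    · rintro ⟨x, y⟩ ⟨x', y'⟩ h
      have e : x.1 * y.1 = x'.1 * y'.1 := congrArg Subtype.val h
      have hd : x'.1⁻¹ * x.1 = y'.1 * y.1⁻¹ := by
        rw [eq_mul_inv_iff_mul_eq, mul_assoc, e, inv_mul_cancel_left]
      have hm : x'.1⁻¹ * x.1 ∈ K' ⊓ A' := ⟨hd ▸ K'.mul_mem y'.2 (K'.inv_mem y.2), A'.mul_mem (A'.inv_mem x'.2) x.2⟩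
      rw [hinf, Subgroup.mem_bot, inv_mul_eq_one] at hm
      obtain rfl : x' = x := Subtype.ext hm
      exact Prod.ext rfl (Subtype.ext (mul_left_cancel e))
    · rintro ⟨z, hz⟩
      obtain ⟨y, hy, k, hk, rfl⟩ := Subgroup.mem_sup_of_normal_left.1 hz
      exact ⟨(⟨y, hy⟩, ⟨k, hk⟩), rfl⟩
  have hidx : (A' ⊔ K').index = 239085 := by
    have h := (A' ⊔ K').card_mul_index
    rw [cN, hU] at h
    omega
  exact CfsgLib.Solvable.exists_isComplement'_of_le (K := A') (A := K') (U := A' ⊔ K') le_sup_left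
    (by rw [cA, hidx]; norm_num) hinf rfl

end Frame

end CfsgLib.CoOneEleven
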