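import Mathlib

/-!
Words in the six transvections giving transversals along the standard basis.
-/

set_option autoImplicit false

namespace CfsgLib.CoOneEleven.Data

/-- The actions of the transvections on the four-dimensional space. -/
def wCols : List (List ℕ) := [[3, 2, 4, 8], [1, 6, 4, 8], [1, 2, 12, 8], [1, 3, 4, 8], [1, 2, 6, 8], [1, 2, 4, 12]]

/-- Transversal words. -/
def trans : List (List (List ℕ)) := [
  [[], [3, 0], [0], [4, 3, 1, 0], [0, 1, 0], [3, 1, 0], [1, 0], [5, 4, 3, 2, 1, 0], [5, 2, 0, 1, 0], [3, 1, 2, 1, 0], [1, 2, 1, 0], [4, 3, 2, 1, 0], [2, 0, 1, 0], [3, 2, 1, 0], [2, 1, 0]],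
  [[], [3], [4, 1], [4, 3, 1], [1], [3, 1], [5, 4, 2, 1], [5, 4, 3, 2, 1], [1, 2, 1], [3, 1, 2, 1], [4, 2, 1], [4, 3, 2, 1], [2, 1], [3, 2, 1]],
  [[], [4, 3, 4, 3], [4], [3, 4, 3], [5, 2], [5, 4, 3, 4, 3, 2], [5, 4, 2], [5, 3, 4, 3, 2], [2], [4, 3, 4, 3, 2], [4, 2], [3, 4, 3, 2]],
  [[], [5, 0, 3, 4, 5, 4, 3, 0], [5, 4, 5, 4], [5, 3, 4, 5, 4, 3], [5], [0, 3, 4, 5, 4, 3, 0], [4, 5, 4], [3, 4, 5, 4, 3]]]

end CfsgLib.CoOneEleven.Data
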