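import Cfsg.Agent.Lib.CoOneEleven.Identify
import Cfsg.Agent.Lib.CoOneEleven.WordData

/-!
The two orbits of the normalizer and a lower bound for its order.
-/

set_option autoImplicit false
set_option linter.style.haveILetI false
set_option synthInstance.maxSize 20000
set_option maxRecDepth 20000
set_option maxHeartbeats 1000000

namespace CfsgLib.CoOneEleven

open CfsgLib.Classical.Quad CfsgLib.CoOneType
open CfsgLib.LargeFischer CfsgLib.LargeFischer.Plane CfsgLib.Golay

universe u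

namespace Data

theorem wCols_check : ∀ n : Fin 6, (wCols.getD n.val []).length = 4 ∧ ∀ a : Fin 16,
    tvMap n.val (wOf a.val) = wOf (ap (wCols.getD n.val []) a.val) ∧ ap (wCols.getD n.val []) a.val < 16 ∧
      ap (wCols.getD n.val []) (ap (wCols.getD n.val []) a.val) = a.val := by
  decide +kernel

/-- The action of a word. -/
def wAct : List ℕ → ℕ → ℕ
  | [], a => a
  | n :: l, a => ap (wCols.getD n []) (wAct l a)

theorem wAct_append : ∀ (l m : List ℕ) (a : ℕ), wAct (l ++ m) a = wAct l (wAct m a)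
  | [], _, _ => rfl
  | n :: l, m, a => by simp only [List.cons_append, wAct, wAct_append l m a]

theorem wAct_inj : ∀ {l : List ℕ}, (∀ n ∈ l, n < 6) → ∀ {a b : ℕ}, a < 16 → b < 16 →
    wAct l a < 16 ∧ (wAct l a = wAct l b → a = b)
  | [], _, _, _, ha, _ => ⟨ha, fun h => h⟩
  | n :: l, h, a, b, ha, hb => by
    obtain ⟨h1, h2⟩ := wAct_inj (fun m hm => h m (List.mem_cons_of_mem _ hm)) ha hb (l := l)
    obtain ⟨h3, -⟩ := wAct_inj (fun m hm => h m (List.mem_cons_of_mem _ hm)) hb ha (l := l)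
    have hn := h n List.mem_cons_self
    obtain ⟨-, hw⟩ := wCols_check ⟨n, hn⟩
    refine ⟨(hw ⟨_, h1⟩).2.1, fun e => h2 ?_⟩
    have e' := congrArg (ap (wCols.getD n [])) e
    simp only [wAct] at e'
    exact (hw ⟨_, h1⟩).2.2.symm.trans (e'.trans (hw ⟨_, h3⟩).2.2)

/-- A transversal word. -/
def tw (i j : ℕ) : List ℕ := (trans.getD i []).getD j []

theorem trans_check : (allLt 4 fun i => allLt 15 fun j => (tw i j).all (fun n => Nat.blt n 6)) = true ∧
    (allLt 4 fun i => allLt 15 fun j => allLt i fun k => Nat.beq (wAct (tw i j) (2 ^ k)) (2 ^ k)) = true ∧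
    (∀ j k : Fin 15, wAct (tw 0 j.val) 1 = wAct (tw 0 k.val) 1 → j = k) ∧
    (∀ j k : Fin 14, wAct (tw 1 j.val) 2 = wAct (tw 1 k.val) 2 → j = k) ∧
    (∀ j k : Fin 12, wAct (tw 2 j.val) 4 = wAct (tw 2 k.val) 4 → j = k) ∧
    (∀ j k : Fin 8, wAct (tw 3 j.val) 8 = wAct (tw 3 k.val) 8 → j = k) := by
  decide +kernel

end Data

namespace Frame

variable {G : Type u} [Group G] [Finite G] {S : Sys G} {s : G} (F : Frame S s)

/-- The orbit is the standard class. -/
def Standard : Prop := ∀ x < 2048, (F.Orb x ↔ Data.oMask.testBit x = true)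

/-- Two numbers in one orbit. -/
def Rel (x y : ℕ) : Prop := ∃ n ∈ F.N, n * F.θ x * n⁻¹ = F.θ y

theorem Rel.trans' {x y z : ℕ} (h : F.Rel x y) (h' : F.Rel y z) : F.Rel x z := by
  obtain ⟨m, hm, e⟩ := h
  obtain ⟨n, hn, e'⟩ := h'
  exact ⟨n * m, mul_mem hn hm, by rw [← e', ← e]; group⟩

theorem Rel.symm' {x y : ℕ} (h : F.Rel x y) : F.Rel y x := by
  obtain ⟨m, hm, e⟩ := h
  exact ⟨m⁻¹, inv_mem hm, by rw [← e]; group⟩

variable {F} (hF : F.Standard)
include hF

theorem gens_rel {i : ℕ} (hi : i < 10) {x : ℕ} (hx : x < 2048) :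
    ap (Data.gens.getD i []) x < 2048 ∧ F.Rel x (ap (Data.gens.getD i []) x) := by
  rcases Nat.lt_or_ge i 4 with h | h
  · have e : Data.gens.getD i [] = Data.tCols.getD i [] :=
      (by decide +kernel : ∀ i : Fin 4, Data.gens.getD i.val [] = Data.tCols.getD i.val []) ⟨i, h⟩
    rw [e]
    exact ⟨Data.ap_lt' (Data.tCols_lt i) x, F.qd ⟨i, h⟩,
      F.mem_N (fun a ha => by obtain ⟨n, -, rfl⟩ := F.θ_surj ha; rw [F.qd_conj]; exact F.θ_mem _),
      F.qd_conj ⟨i, h⟩ x⟩
  · obtain ⟨k, rfl⟩ : ∃ k : Fin 6, i = 4 + k.val := ⟨⟨i - 4, by omega⟩, by show i = 4 + (i - 4); omega⟩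
    obtain ⟨c, hc, -, -, g, hg, hconj⟩ := F.exists_lift k
    have hgv : g = Data.gVals.getD k.val 0 := by
      have h := allR_spec (allLt_spec Data.gVals_check k.val k.isLt) g (Nat.zero_le _) (by simpa using hg)
      simp only [Bool.or_eq_true, Nat.beq_eq, Bool.not_eq_true'] at h
      refine h.resolve_right fun h' => ?_
      rw [← Bool.not_eq_true] at h'
      refine h' (Data.allLt_of fun i hi => ?_)
      obtain ⟨hm, hr64, hidx⟩ := Data.getD_mem hi
      set b := (Data.cands.getD 2 0).testBit i with hb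
      set x0 := 32 * Data.bigs.getD i 0 + (bif b then 1 else 0) with hx0
      have hlt : x0 < 2048 := by have := Data.bit_lt_32 b; omega
      have hd : x0 / 32 = Data.bigs.getD i 0 := Data.mk_div _ _
      have hside : Data.side x0 = b := by
        rw [hx0, Data.mk_xor, Data.side_flip (by rw [Nat.mul_div_cancel_left _ (by norm_num : 0 < 32)]; exact hm)]
        have : Data.side (32 * Data.bigs.getD i 0) = false :=
          (by decide +kernel : ∀ i : Fin 28, Data.side (32 * Data.bigs.getD i.val 0) = false) ⟨i, hi⟩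
        rw [this, Bool.false_xor]
      have hO : Data.oMask.testBit x0 = true := by
        have hm2 := allR_spec (allLt_spec Data.masks_check 2 (by norm_num)) x0 (Nat.zero_le _) (by simpa using hlt)
        simp only [beq_iff_eq, Data.witness_check.2.2.1] at hm2
        rw [hm2, hd, hidx, hside, List.contains_iff_mem.2 hm, hb]
        simp
      have hgb : Data.gb g x0 = Data.gb g (32 * Data.bigs.getD i 0) := by
        rw [Data.gb, Data.gb, hd, Nat.mul_div_cancel_left _ (by norm_num : 0 < 32)]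
      have himg := (F.orb_conj hc (hconj x0 hlt)).1 ((hF x0 hlt).2 hO)
      rw [hF _ (Data.fLift_lt k.val g x0), hgb] at himg
      exact himg
    have e : Data.gens.getD (4 + k.val) [] = Data.lCols.getD k.val [] :=
      (by decide +kernel : ∀ k : Fin 6, Data.gens.getD (4 + k.val) [] = Data.lCols.getD k.val []) k
    have hL : ap (Data.lCols.getD k.val []) x = ap (Data.fCols.getD k.val []) x ^^^ Data.gb g x := by
      refine Data.ext_bits (f := ap (Data.lCols.getD k.val []))
        (g := fun x => ap (Data.fCols.getD k.val []) x ^^^ Data.gb g x) (fun a b => a ^^^ b) (ap_add _)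
        (fun a b => by
          simp only [ap_add, Data.gb_xor]
          rw [Nat.xor_assoc, Nat.xor_assoc, ← Nat.xor_assoc (ap (Data.fCols.getD k.val []) b),
            Nat.xor_comm (ap (Data.fCols.getD k.val []) b) (Data.gb g a), Nat.xor_assoc])
        (by simp [ap_zero, Data.gb_low]) 11 (fun j hj => ?_) x hx
      subst hgv
      exact (by decide +kernel : ∀ k : Fin 6, ∀ j : Fin 11, ap (Data.lCols.getD k.val []) (2 ^ j.val) =
        ap (Data.fCols.getD k.val []) (2 ^ j.val) ^^^ Data.gb (Data.gVals.getD k.val 0) (2 ^ j.val)) k ⟨j, hj⟩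
    rw [e, hL]
    exact ⟨Data.fLift_lt _ _ _, c, hc, hconj x hx⟩

theorem walk_rel : ∀ (k : ℕ) {x : ℕ}, x < 2048 → F.Rel x (Data.walk k x)
  | 0, x, _ => ⟨1, one_mem _, by rw [one_mul, inv_one, mul_one]; rfl⟩
  | k + 1, x, hx => by
    cases hb : Nat.blt (Data.stepAt x) 10
    · simp only [Data.walk, hb, cond_false]
      exact ⟨1, one_mem _, by rw [one_mul, inv_one, mul_one]⟩
    · simp only [Data.walk, hb, cond_true]
      obtain ⟨h1, h2⟩ := gens_rel hF (Nat.blt_eq.mp hb) hx
      exact h2.trans' F (walk_rel k h1)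

theorem not_orb_rel {x y : ℕ} (hx : x < 2048) (hy : y < 2048) (h : F.Rel x y) :
    Data.oMask.testBit x = Data.oMask.testBit y := by
  obtain ⟨n, hn, e⟩ := h
  have := F.orb_conj hn e
  rw [hF x hx, hF y hy] at this
  exact Bool.eq_iff_iff.2 this

/-- The elements outside the class form one orbit. -/
theorem outside_rel {x : ℕ} (hx : x < 2048) (h0 : x ≠ 0) (ho : Data.oMask.testBit x = false) :
    F.Rel x Data.repR := by
  classical
  obtain ⟨hxr, hc1, hc2, -, -, -, hR, hB⟩ := Data.xr_check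
  have hwalk : ∀ z < 2048, z ≠ 0 → Data.oMask.testBit z = false →
      F.Rel z (bif Data.xrMask.testBit z then Data.repR else Data.repB) := fun z hz hz0 hzo => by
    have h := allR_spec Data.walk_check z (Nat.zero_le _) (by simpa using hz)
    simp only [Bool.or_eq_true, Nat.beq_eq, hz0, hzo, false_or, Bool.false_eq_true] at h
    rw [← h]
    exact walk_rel hF 11 hz
  suffices hjoin : F.Rel Data.repB Data.repR by
    have h := hwalk x hx h0 ho
    cases hb : Data.xrMask.testBit x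
    · rw [hb, cond_false] at h; exact h.trans' F hjoin
    · rw [hb, cond_true] at h; exact h
  by_contra hne
  -- otherwise the elements above lines would form one orbit
  have hxr' : ∀ z < 2048, Data.xrMask.testBit z = true → z ≠ 0 ∧ Data.oMask.testBit z = false := fun z hz h => by
    have h' := allR_spec hxr z (Nat.zero_le _) (by simpa using hz)
    simp only [h, Bool.not_true, Bool.false_or, Bool.and_eq_true, Bool.not_eq_true'] at h'
    exact ⟨fun e => by simp [e] at h', h'.1⟩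
  have hinv : ∀ z w, z < 2048 → w < 2048 → F.Rel z w → Data.xrMask.testBit z = true →
      Data.xrMask.testBit w = true := by
    intro z w hz hw hrel hzx
    obtain ⟨hz0, hzo⟩ := hxr' z hz hzx
    have hwo : Data.oMask.testBit w = false := by rw [← not_orb_rel hF hz hw hrel, hzo]
    have hw0 : w ≠ 0 := fun e => by
      obtain ⟨n, -, en⟩ := hrel
      rw [e, θ_zero, conj_eq_one_iff] at en
      exact hz0 (F.θ_ker hz en)
    by_contra hwx
    rw [Bool.not_eq_true] at hwx
    have h1 := hwalk z hz hz0 hzo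
    have h2 := hwalk w hw hw0 hwo
    rw [hzx, cond_true] at h1
    rw [hwx, cond_false] at h2
    exact hne ((h2.symm' F).trans' F ((hrel.symm' F).trans' F h1))
  obtain ⟨n, hn, e⟩ := (hF 2 (by norm_num)).2 Data.witness_check.2.2.2.2
  have hex : ∀ x, ∃ y < 2048, F.θ y = n * F.θ x * n⁻¹ := fun x => F.θ_surj (F.conj_mem hn (F.θ_mem x))
  choose act hlt hact using hex
  have hxor : ∀ z < 2048, act (z ^^^ 1) = act z ^^^ 2 := fun z hz => by
    refine F.θ_inj (hlt _) (Nat.xor_lt_two_pow (n := 11) (hlt z) (by norm_num)) ?_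
    rw [hact, θ_xor, θ_xor, hact, ← e, θ_one]
    group
  have hcount : ((List.range 2048).countP fun x => Data.xrMask.testBit x && Data.oMask.testBit (x ^^^ 1)) =
      ((List.range 2048).countP fun x => Data.xrMask.testBit x && Data.oMask.testBit (x ^^^ 2)) := by
    rw [Data.count_eq, Data.count_eq]
    refine Finset.card_bij (fun x _ => act x) (fun z hz => ?_) (fun z hz y hy h => ?_) (fun y hy => ?_)
    · simp only [Finset.mem_filter, Finset.mem_range, Bool.and_eq_true] at hz ⊢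
      refine ⟨hlt z, hinv z _ hz.1 (hlt z) ⟨n, hn, (hact z).symm⟩ hz.2.1, ?_⟩
      rw [← hxor z hz.1, ← not_orb_rel hF (Nat.xor_lt_two_pow (n := 11) hz.1 (by norm_num)) (hlt _)
        ⟨n, hn, (hact _).symm⟩]
      exact hz.2.2
    · simp only [Finset.mem_filter, Finset.mem_range] at hz hy
      refine F.θ_inj hz.1 hy.1 ?_
      have e1 := congrArg F.θ h
      rw [hact, hact] at e1
      exact mul_left_cancel (mul_right_cancel e1)
    · simp only [Finset.mem_filter, Finset.mem_range, Bool.and_eq_true] at hy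
      obtain ⟨z, hz, hze⟩ := F.θ_surj (F.conj_mem (inv_mem hn) (F.θ_mem y))
      have hzy : act z = y := F.θ_inj (hlt z) hy.1 (by rw [hact, hze]; group)
      refine ⟨z, ?_, hzy⟩
      simp only [Finset.mem_filter, Finset.mem_range, Bool.and_eq_true]
      refine ⟨hz, hinv y z hy.1 hz ⟨n⁻¹, inv_mem hn, hze.symm⟩ hy.2.1, ?_⟩
      rw [not_orb_rel hF (Nat.xor_lt_two_pow (n := 11) hz (by norm_num)) (hlt _) ⟨n, hn, (hact _).symm⟩,
        hxor z hz, hzy]
      exact hy.2.2
  rw [hc1, hc2] at hcount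
  exact absurd hcount (by norm_num)

/-- A lower bound for the order of the normalizer. -/
theorem card_N_ge : 2048 * 244823040 ≤ Nat.card F.N := by
  classical
  choose c hc hcs hcπ g hg hconj using fun n : Fin 6 => F.exists_lift n
  let L : List ℕ → G := fun l => (l.map fun n => c ⟨n % 6, Nat.mod_lt _ (by norm_num)⟩).prod
  have hL : ∀ l, (∀ n ∈ l, n < 6) → L l ∈ F.N ∧ Commute (L l) s ∧ ∀ q ∈ p5 F.M, ∀ a < 16, F.π q = wOf a →
      F.π (L l * q * (L l)⁻¹) = wOf (Data.wAct l a) := by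
    intro l
    induction l with
    | nil =>
      intro _
      refine ⟨one_mem _, Commute.one_left _, fun q _ a _ h => ?_⟩
      show F.π (1 * q * 1⁻¹) = _
      rw [one_mul, inv_one, mul_one, h]; rfl
    | cons n l ih =>
      intro hl
      have hl' : ∀ m ∈ l, m < 6 := fun m hm => hl m (List.mem_cons_of_mem _ hm)
      obtain ⟨h1, h2, h3⟩ := ih hl'
      have hn := hl n List.mem_cons_self
      have e : L (n :: l) = c ⟨n, hn⟩ * L l := by
        simp only [L, List.map_cons, List.prod_cons]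
        congr 1
        exact congrArg c (Fin.ext (Nat.mod_eq_of_lt hn))
      rw [e]
      refine ⟨mul_mem (hc _) h1, (hcs _).mul_left h2, fun q hq a ha hπ => ?_⟩
      have hmem : L l * q * (L l)⁻¹ ∈ S.E s := F.M.normal _ h2 q hq.1
      rw [show c ⟨n, hn⟩ * L l * q * (c ⟨n, hn⟩ * L l)⁻¹ = c ⟨n, hn⟩ * (L l * q * (L l)⁻¹) * (c ⟨n, hn⟩)⁻¹ by group,
        hcπ _ _ hmem, h3 q hq a ha hπ]
      exact ((Data.wCols_check ⟨n, hn⟩).2 ⟨_, (Data.wAct_inj hl' ha ha).1⟩).1
  obtain ⟨hw6, hwfix, hT0, hT1, hT2, hT3⟩ := Data.trans_check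
  have hsix : ∀ i < 4, ∀ j < 15, ∀ n ∈ Data.tw i j, n < 6 := fun i hi j hj n hn => by
    have h := List.all_eq_true.1 (allLt_spec (allLt_spec hw6 i hi) j hj) n hn
    exact Nat.blt_eq.mp h
  have hfix : ∀ i < 4, ∀ j < 15, ∀ k < i, Data.wAct (Data.tw i j) (2 ^ k) = 2 ^ k := fun i hi j hj k hk => by
    have h := allLt_spec (allLt_spec (allLt_spec hwfix i hi) j hj) k hk
    rwa [Nat.beq_eq] at h
  let word : Fin 15 × Fin 14 × Fin 12 × Fin 8 → List ℕ := fun t =>
    Data.tw 0 t.1.val ++ (Data.tw 1 t.2.1.val ++ (Data.tw 2 t.2.2.1.val ++ Data.tw 3 t.2.2.2.val))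
  have hword : ∀ t, ∀ n ∈ word t, n < 6 := fun t n hn => by
    simp only [word, List.mem_append] at hn
    rcases hn with h | h | h | h
    exacts [hsix 0 (by norm_num) _ t.1.isLt n h, hsix 1 (by norm_num) _ (by omega) n h,
      hsix 2 (by norm_num) _ (by omega) n h, hsix 3 (by norm_num) _ (by omega) n h]
  have hwinj : ∀ t t', (∀ k < 4, Data.wAct (word t) (2 ^ k) = Data.wAct (word t') (2 ^ k)) → t = t' := by
    rintro ⟨a0, a1, a2, a3⟩ ⟨b0, b1, b2, b3⟩ h
    simp only [word, Data.wAct_append] at h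
    have a1' : a1.val < 15 := by omega
    have b1' : b1.val < 15 := by omega
    have a2' : a2.val < 15 := by omega
    have b2' : b2.val < 15 := by omega
    have a3' : a3.val < 15 := by omega
    have b3' : b3.val < 15 := by omega
    have h0 := h 0 (by norm_num)
    rw [hfix 3 (by norm_num) _ a3' 0 (by norm_num), hfix 3 (by norm_num) _ b3' 0 (by norm_num),
      hfix 2 (by norm_num) _ a2' 0 (by norm_num), hfix 2 (by norm_num) _ b2' 0 (by norm_num),
      hfix 1 (by norm_num) _ a1' 0 (by norm_num), hfix 1 (by norm_num) _ b1' 0 (by norm_num)] at h0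
    obtain rfl := hT0 a0 b0 h0
    have hs0 := hsix 0 (by norm_num) _ a0.isLt
    have hb : ∀ i < 4, ∀ j < 15, ∀ x < 16, Data.wAct (Data.tw i j) x < 16 := fun i hi j hj x hx =>
      (Data.wAct_inj (hsix i hi j hj) hx hx).1
    have cancel0 : ∀ k < 4, Data.wAct (Data.tw 1 a1.val) (Data.wAct (Data.tw 2 a2.val) (Data.wAct (Data.tw 3 a3.val) (2 ^ k))) =
        Data.wAct (Data.tw 1 b1.val) (Data.wAct (Data.tw 2 b2.val) (Data.wAct (Data.tw 3 b3.val) (2 ^ k))) := fun k hk => by
      have hk' : 2 ^ k < 16 := Nat.pow_lt_pow_right (by norm_num) hk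
      exact (Data.wAct_inj hs0 (hb 1 (by norm_num) _ a1' _ (hb 2 (by norm_num) _ a2' _ (hb 3 (by norm_num) _ a3' _ hk')))
        (hb 1 (by norm_num) _ b1' _ (hb 2 (by norm_num) _ b2' _ (hb 3 (by norm_num) _ b3' _ hk')))).2 (h k hk)
    have h1 := cancel0 1 (by norm_num)
    rw [hfix 3 (by norm_num) _ a3' 1 (by norm_num), hfix 3 (by norm_num) _ b3' 1 (by norm_num),
      hfix 2 (by norm_num) _ a2' 1 (by norm_num), hfix 2 (by norm_num) _ b2' 1 (by norm_num)] at h1
    obtain rfl := hT1 a1 b1 h1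
    have cancel1 : ∀ k < 4, Data.wAct (Data.tw 2 a2.val) (Data.wAct (Data.tw 3 a3.val) (2 ^ k)) =
        Data.wAct (Data.tw 2 b2.val) (Data.wAct (Data.tw 3 b3.val) (2 ^ k)) := fun k hk => by
      have hk' : 2 ^ k < 16 := Nat.pow_lt_pow_right (by norm_num) hk
      exact (Data.wAct_inj (hsix 1 (by norm_num) _ a1') (hb 2 (by norm_num) _ a2' _ (hb 3 (by norm_num) _ a3' _ hk'))
        (hb 2 (by norm_num) _ b2' _ (hb 3 (by norm_num) _ b3' _ hk'))).2 (cancel0 k hk)
    have h2 := cancel1 2 (by norm_num)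
    rw [hfix 3 (by norm_num) _ a3' 2 (by norm_num), hfix 3 (by norm_num) _ b3' 2 (by norm_num)] at h2
    obtain rfl := hT2 a2 b2 h2
    have h3 := (Data.wAct_inj (hsix 2 (by norm_num) _ a2') (hb 3 (by norm_num) _ a3' _ (by norm_num))
      (hb 3 (by norm_num) _ b3' _ (by norm_num))).2 (cancel1 3 (by norm_num))
    obtain rfl := hT3 a3 b3 h3
    rfl
  let T := (Fin 15 × Fin 14 × Fin 12 × Fin 8) × Fin 2048 × Fin 16
  let Cs : Subgroup G := F.N ⊓ Subgroup.centralizer {s}
  have hz : ∀ t : T, L (word t.1) * (F.θ t.2.1.val * F.qq t.2.2.val) ∈ Cs := fun t => by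
    obtain ⟨h1, h2, -⟩ := hL _ (hword t.1)
    refine Subgroup.mem_inf.2 ⟨mul_mem h1 (mul_mem (Subgroup.le_normalizer (F.θ_mem _)) (F.qq_N _)),
      Subgroup.mem_centralizer_singleton_iff.2 ?_⟩
    exact (h2.mul_left (((F.θ_fix _).comm_s).mul_left (F.M.le_cent _ (F.qq_mem _).1))).eq
  have hTinj : Function.Injective fun t : T => (⟨_, hz t⟩ : Cs) := by
    rintro ⟨t, x, q⟩ ⟨t', x', q'⟩ h
    have he : L (word t) * (F.θ x.val * F.qq q.val) = L (word t') * (F.θ x'.val * F.qq q'.val) :=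
      congrArg Subtype.val h
    have hact : ∀ (t : Fin 15 × Fin 14 × Fin 12 × Fin 8) (x : Fin 2048) (q : Fin 16) (k : ℕ), k < 4 →
        F.π (L (word t) * (F.θ x.val * F.qq q.val) * F.θ (2 * 2 ^ k) *
          (L (word t) * (F.θ x.val * F.qq q.val))⁻¹) = wOf (Data.wAct (word t) (2 ^ k)) := fun t x q k hk => by
      have hk' : 2 ^ k < 16 := Nat.pow_lt_pow_right (by norm_num) hk
      obtain ⟨hp, hpπ⟩ := F.θ_p5 (n := 2 * 2 ^ k) (by omega)
      rw [Nat.mul_div_cancel_left _ (by norm_num : 0 < 2)] at hpπ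
      have e : L (word t) * (F.θ x.val * F.qq q.val) * F.θ (2 * 2 ^ k) * (L (word t) * (F.θ x.val * F.qq q.val))⁻¹ =
          L (word t) * (F.θ x.val * (F.qq q.val * F.θ (2 * 2 ^ k) * (F.qq q.val)⁻¹) * (F.θ x.val)⁻¹) *
            (L (word t))⁻¹ := by group
      have hq' : F.qq q.val * F.θ (2 * 2 ^ k) * (F.qq q.val)⁻¹ ∈ p5 F.M :=
        ⟨F.M.normal _ (F.M.le_cent _ (F.qq_mem _).1) _ hp.1, by
          rw [F.M.map_conj (F.qq_mem _).1 hp.1]; exact hp.2⟩
      rw [e, conj_eq_iff_commute.2 (F.θ_fix x.val _ hq')]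
      refine (hL _ (hword t)).2.2 _ hq' _ hk' ?_
      rw [F.M.map_conj (F.qq_mem _).1 hp.1, hpπ]
    have ht : t = t' := hwinj t t' fun k hk => by
      have h1 := hact t x q k hk
      rw [he, hact t' x' q' k hk] at h1
      have hk' : 2 ^ k < 16 := Nat.pow_lt_pow_right (by norm_num) hk
      exact (congrArg Fin.val (wOf_inj ⟨_, (Data.wAct_inj (hword t') hk' hk').1⟩
        ⟨_, (Data.wAct_inj (hword t) hk' hk').1⟩ h1)).symm
    subst ht
    have he' := mul_left_cancel he
    have hq : q = q' := by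
      refine dOf_inj q q' fun i => ?_
      have hd : (F.θ x'.val)⁻¹ * F.θ x.val = F.qq q'.val * (F.qq q.val)⁻¹ := by
        rw [eq_mul_inv_iff_mul_eq, mul_assoc, he', inv_mul_cancel_left]
      have hm : F.qq q'.val * (F.qq q.val)⁻¹ ∈ S.E s := (S.E s).mul_mem (F.qq_mem _).1 ((S.E s).inv_mem (F.qq_mem _).1)
      have hc := (((F.θ_fix x'.val).inv F.M).mul F.M (F.θ_fix x.val)) _ (F.qv_p5 i)
      rw [hd] at hc
      have h := (F.M.commute_iff hm (F.qv_mem i)).1 hc
      rw [F.M.map_mul _ (F.qq_mem _).1 _ ((S.E s).inv_mem (F.qq_mem _).1), F.M.map_inv (F.qq_mem _).1,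
        (F.qq_mem _).2, (F.qq_mem _).2, F.qv_π, BV_add_left] at h
      exact (zadd.1 h).symm
    subst hq
    exact Prod.ext rfl (Prod.ext (Fin.ext (F.θ_inj x.isLt x'.isLt (mul_right_cancel he'))) rfl)
  have hCs : 15 * (14 * (12 * 8)) * (2048 * 16) ≤ Nat.card Cs := by
    have h := Nat.card_le_card_of_injective _ hTinj
    simp only [T, Nat.card_prod, Nat.card_fin] at h
    exact h
  -- the cosets
  let O := ((Finset.range 2048).filter fun x => Data.oMask.testBit x = true)
  have hO : O.card = 759 := by rw [← Data.count_eq]; exact Data.oMask_count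
  choose nx hnx hnxe using fun x : O => (hF x.1 (Finset.mem_range.1 (Finset.mem_filter.1 x.2).1)).2
    (Finset.mem_filter.1 x.2).2
  have hinj2 : Function.Injective fun p : O × Cs =>
      (⟨nx p.1 * p.2.1, mul_mem (hnx p.1) (Subgroup.mem_inf.1 p.2.2).1⟩ : F.N) := by
    rintro ⟨x, d⟩ ⟨x', d'⟩ h
    have he : nx x * d.1 = nx x' * d'.1 := congrArg Subtype.val h
    have hcs' : ∀ d : Cs, d.1 * s * d.1⁻¹ = s := fun d => conj_eq_iff_commute.2
      (Subgroup.mem_centralizer_singleton_iff.1 (Subgroup.mem_inf.1 d.2).2)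
    have hθ : ∀ (x : O) (d : Cs), F.θ x.1 = (nx x * d.1) * s * (nx x * d.1)⁻¹ := fun x d => by
      rw [show (nx x * d.1) * s * (nx x * d.1)⁻¹ = nx x * (d.1 * s * d.1⁻¹) * (nx x)⁻¹ by group, hcs', hnxe]
    have hx : x = x' := Subtype.ext (F.θ_inj (Finset.mem_range.1 (Finset.mem_filter.1 x.2).1)
      (Finset.mem_range.1 (Finset.mem_filter.1 x'.2).1) (by rw [hθ x d, hθ x' d', he]))
    subst hx
    exact Prod.ext rfl (Subtype.ext (mul_left_cancel he))
  have h := Nat.card_le_card_of_injective _ hinj2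
  rw [Nat.card_prod, Nat.card_eq_fintype_card (α := O), Fintype.card_coe, hO] at h
  calc 2048 * 244823040 = 759 * (15 * (14 * (12 * 8)) * (2048 * 16)) := by norm_num
    _ ≤ 759 * Nat.card Cs := Nat.mul_le_mul_left _ hCs
    _ ≤ _ := h

end Frame

end CfsgLib.CoOneEleven
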